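import Cfsg.Agent.Lib.BNPair.Basic
import Cfsg.Agent.Lib.Coxeter.MinRep
import Cfsg.Agent.Lib.Char.Counting
import Cfsg.Prelude.Def_ParabolicCharacters

/-!
The alternating sum of the permutation characters on the standard parabolic subgroups of a finite
group with a (B, N)-pair: its values on `B`, and its irreducibility.
-/

set_option autoImplicit false

open CfsgLib.Coxeter CfsgLib.Char

namespace CfsgLib.BN

universe u

variable {G : Type u} [Group G] (P : Cfsg.BNPair G)

/-- The standard parabolic subgroup of a set of generators. -/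
def par (K : Set P.S) : Subgroup G := P.parabolic (Subtype.val '' K)

variable {P}

lemma mul_cell_add : ∀ (L : List P.S), IsRed (gen P) L → ∀ {w : Weyl P},
    len (gen P) (wprod (gen P) L * w) = L.length + len (gen P) w →
    ∀ {x g : G}, x ∈ cell P (wprod (gen P) L) → g ∈ cell P w →
      x * g ∈ cell P (wprod (gen P) L * w) := by
  intro L
  induction L using List.reverseRecOn with
  | nil =>
    intro _ w _ x g hx hg
    rw [wprod_nil, mem_cell_one] at hx
    rw [wprod_nil, one_mul]
    exact left_cell hg hx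
  | append_singleton L s ih =>
    intro hr w hlen x g hx hg
    rw [wprod_append, wprod_cons, wprod_nil, mul_one, mul_assoc] at hlen ⊢
    obtain ⟨b, hb, b', hb', rfl⟩ := (mk_rep (L ++ [s]) ▸ mem_cell_mk).1 hx
    rw [List.length_append, List.length_singleton] at hlen
    have h1 := gens.len_gen_mul_le s w
    have h2 := gens.len_mul_le (wprod (gen P) L) (gen P s * w)
    have h3 := len_le (σ := gen P) L
    have h4 : (s : G) * (b' * g) ∈ cell P (gen P s * w) :=
      mul_cell_of_len s (gen_mem_cell s) (by omega) (left_cell hg hb')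
    have h5 := ih (gens.red_append hr).1 (w := gen P s * w) (by omega)
      (left_cell (rep_mem_cell L) hb) h4
    simpa [rep, mul_assoc] using h5

/-- Cells multiply when the lengths add. -/
theorem mul_cell_of_add {v w : Weyl P} (hlen : len (gen P) (v * w) = len (gen P) v + len (gen P) w)
    {x g : G} (hx : x ∈ cell P v) (hg : g ∈ cell P w) : x * g ∈ cell P (v * w) := by
  obtain ⟨L, hL, rfl, hl⟩ := gens.exists_red v
  exact mul_cell_add L hL (by rw [hlen, hl]) hx hg

lemma B_le_par (K : Set P.S) : P.B ≤ par P K := B_le_parabolic _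

lemma rep_mem_par {K : Set P.S} {L : List P.S} (hL : ∀ s ∈ L, s ∈ K) : rep P L ∈ par P K := by
  refine list_prod_mem fun x hx => ?_
  obtain ⟨s, hs, rfl⟩ := List.mem_map.1 hx
  exact Subgroup.mem_sup_right (Subgroup.subset_closure ⟨s, hL s hs, rfl⟩)

/-- The cells in a parabolic subgroup. -/
lemma cell_par {K : Set P.S} {x : G} (hx : x ∈ par P K) :
    ∃ v ∈ std (gen P) K, x ∈ cell P v := by
  obtain ⟨L, -, hL, hg⟩ := (mem_parabolic (P := P)
    (by rintro _ ⟨s, -, rfl⟩; exact s.2)).1 hx
  refine ⟨_, Gens.wprod_mem_std (fun s hs => ?_), hg⟩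
  obtain ⟨r, hr, e⟩ := hL s hs
  exact Subtype.ext e ▸ hr

/-- Multiplication by a parabolic subgroup on the right. -/
lemma cell_mul_par {K : Set P.S} {x : G} (hx : x ∈ par P K) :
    ∀ {w : Weyl P} {g : G}, g ∈ cell P w → ∃ v ∈ std (gen P) K, g * x ∈ cell P (w * v) := by
  obtain ⟨L, -, hL, hcell⟩ := (mem_parabolic (P := P)
    (by rintro _ ⟨s, -, rfl⟩; exact s.2)).1 hx
  obtain ⟨b, hb, b', hb', rfl⟩ := (mk_rep L ▸ mem_cell_mk).1 hcell
  intro w g hg
  suffices h : ∀ L : List P.S, (∀ s ∈ L, s ∈ K) → ∀ {g : G} {w : Weyl P}, g ∈ cell P w →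
      ∃ v ∈ std (gen P) K, g * rep P L ∈ cell P (w * v) by
    obtain ⟨v, hv, hgv⟩ := h L (fun s hs => by
      obtain ⟨r, hr, e⟩ := hL s hs; exact Subtype.ext e ▸ hr) (right_cell hg hb)
    exact ⟨v, hv, by simpa [mul_assoc] using right_cell hgv hb'⟩
  intro L
  induction L with
  | nil => intro _ g w hg; exact ⟨1, one_mem _, by simpa [rep] using hg⟩
  | cons s L ih =>
    intro hL g w hg
    have hs : gen P s ∈ std (gen P) K :=
      Subgroup.subset_closure ⟨s, hL s List.mem_cons_self, rfl⟩
    have e : rep P (s :: L) = (s : G) * rep P L := by simp [rep]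
    rw [e, ← mul_assoc]
    rcases step_right hg (gen_mem_cell s) with h | h
    · obtain ⟨v, hv, hgv⟩ := ih (fun r hr => hL r (List.mem_cons_of_mem _ hr)) h
      exact ⟨gen P s * v, mul_mem hs hv, by rwa [← mul_assoc]⟩
    · exact ih (fun r hr => hL r (List.mem_cons_of_mem _ hr)) h

/-- Multiplication by a parabolic subgroup on both sides. -/
lemma par_mul_cell_mul_par {J K : Set P.S} {p x : G} (hp : p ∈ par P J) (hx : x ∈ par P K)
    {w : Weyl P} {g : G} (hg : g ∈ cell P w) :
    ∃ a ∈ std (gen P) J, ∃ c ∈ std (gen P) K, p * g * x ∈ cell P (a * w * c) := by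
  obtain ⟨a, ha, h1⟩ := cell_mul_par (inv_mem hp) (inv_cell hg)
  have h2 := inv_cell h1
  simp only [mul_inv_rev, inv_inv] at h2
  obtain ⟨c, hc, h3⟩ := cell_mul_par hx h2
  exact ⟨a⁻¹, inv_mem ha, c, hc, h3⟩

lemma gen_len_ne (i : P.S) (w : Weyl P) : len (gen P) (gen P i * w) ≠ len (gen P) w :=
  len_gen_mul_ne i w

/-- Every element of a cell is reached from a free element through the parabolic subgroups. -/
lemma exists_free_factor (J K : Set P.S) {w : Weyl P} {g : G} (hg : g ∈ cell P w) :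
    ∃ x : Weyl P, LFree (gen P) J x ∧ RFree (gen P) K x ∧
      ∃ y ∈ cell P x, ∃ p ∈ par P J, ∃ q ∈ par P K, g = p * y * q := by
  obtain ⟨a, ha, c, hc, hl, hr⟩ := Gens.exists_free (σ := gen P) J K w
  refine ⟨_, hl, hr, ?_⟩
  obtain ⟨a', ha', c', hc', hmin⟩ := Gens.exists_min (σ := gen P) J K (a * w * c)
  have e := gens.eq_min_of_free exchange hmin (inv_mem ha') (inv_mem hc')
    (by rw [show a'⁻¹ * (a' * (a * w * c) * c') * c'⁻¹ = a * w * c by group]; exact hl)
    (by rw [show a'⁻¹ * (a' * (a * w * c) * c') * c'⁻¹ = a * w * c by group]; exact hr)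
  rw [show a'⁻¹ * (a' * (a * w * c) * c') * c'⁻¹ = a * w * c by group] at e
  rw [← e] at hmin
  obtain ⟨A, C, hA, hC, hw, -⟩ := gens.additive3_of_min exchange hmin (inv_mem ha) (inv_mem hc)
  rw [show a⁻¹ * (a * w * c) * c⁻¹ = w by group] at hw
  obtain ⟨X, -, hXp, -⟩ := gens.exists_red (a * w * c)
  rw [← hXp, ← wprod_append, ← wprod_append] at hw
  rw [hw] at hg
  obtain ⟨b, hb, b', hb', rfl⟩ := (mk_rep (A ++ X ++ C) ▸ mem_cell_mk).1 hg
  refine ⟨rep P X, hXp ▸ rep_mem_cell X, b * rep P A,
    mul_mem (B_le_par J hb) (rep_mem_par hA), rep P C * b',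
    mul_mem (rep_mem_par hC) (B_le_par K hb'), ?_⟩
  simp [rep, mul_assoc]

/-- Free cosets of `B` are the cosets of the parabolic subgroup. -/
lemma cell_unique_free {K : Set P.S} {w w' : Weyl P} (hw : RFree (gen P) K w)
    (hw' : RFree (gen P) K w') {x y : G} (hx : x ∈ cell P w) (hy : y ∈ cell P w')
    (hxy : x⁻¹ * y ∈ par P K) : w' = w ∧ x⁻¹ * y ∈ P.B := by
  obtain ⟨v, hv, h1⟩ := cell_mul_par hxy hx
  rw [mul_inv_cancel_left] at h1
  have e : w' = w * v := cell_inj hy h1
  have hempty : ∀ z : Weyl P, LFree (gen P) (∅ : Set P.S) z := fun z j hj => absurd hj (Set.notMem_empty j)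
  have e2 := gens.free_unique exchange (J := (∅ : Set P.S)) (K := K) (w := w) (a := 1)
    (one_mem _) hv (hempty _) hw (hempty _) (by rw [one_mul, ← e]; exact hw')
  rw [one_mul] at e2
  refine ⟨e.trans e2, ?_⟩
  obtain ⟨u, hu, hu'⟩ := cell_par hxy
  have hminw : ∀ a ∈ std (gen P) (∅ : Set P.S), ∀ c ∈ std (gen P) K,
      len (gen P) w ≤ len (gen P) (a * w * c) := by
    intro a ha c hc
    obtain ⟨p, hp, q, hq, hmin⟩ := Gens.exists_min (σ := gen P) (∅ : Set P.S) K w
    have hw1 : p⁻¹ * (p * w * q) * q⁻¹ = w := by group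
    have e3 := gens.eq_min_of_free exchange hmin (inv_mem hp) (inv_mem hq)
      (by rw [hw1]; exact hempty _) (by rw [hw1]; exact hw)
    rw [hw1] at e3
    rw [← e3] at hmin
    exact hmin a ha c hc
  obtain ⟨A, C, hA, hC, hwu, hlen⟩ := gens.additive3_of_min exchange (J := (∅ : Set P.S)) (K := K)
    (x := w) (a := 1) (c := u) hminw (one_mem _) hu
  have hA0 : A = [] := List.eq_nil_iff_forall_not_mem.2 fun i hi => hA i hi
  subst hA0
  rw [one_mul, wprod_nil, one_mul, mul_right_inj] at hwu
  have hCred : len (gen P) u = C.length := by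
    refine le_antisymm (hwu ▸ len_le C) ?_
    have := gens.len_mul_le w u
    rw [one_mul] at hlen
    simp only [List.length_nil] at hlen
    omega
  rw [one_mul] at hlen
  have h2 := mul_cell_of_add (v := w) (w := u)
    (by simp only [List.length_nil] at hlen; omega) hx hu'
  rw [mul_inv_cancel_left] at h2
  have e4 : w' = w * u := cell_inj hy h2
  rw [e, e2, left_eq_mul] at e4
  rw [e4, mem_cell_one] at hu'
  exact hu'

/-- The cosets of `B` in a cell. -/
def cosets (P : Cfsg.BNPair G) (w : Weyl P) : Set (G ⧸ P.B) :=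
  {z | ∃ g ∈ cell P w, (g : G ⧸ P.B) = z}

lemma mk_mem_cosets {w : Weyl P} {g : G} :
    (g : G ⧸ P.B) ∈ cosets P w ↔ g ∈ cell P w := by
  refine ⟨fun ⟨x, hx, e⟩ => ?_, fun h => ⟨g, h, rfl⟩⟩
  rw [QuotientGroup.eq] at e
  simpa using right_cell hx e

variable [Finite G]

/-- The number of fixed cosets in a cell. -/
noncomputable def fixCell (P : Cfsg.BNPair G) (g : G) (w : Weyl P) : ℕ :=
  Nat.card {z : G ⧸ P.B // z ∈ cosets P w ∧ g • z = z}

open Classical in
/-- Fixed points of `b ∈ B` on the cosets of a parabolic subgroup. -/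
theorem fixed_par [Fintype (Weyl P)] (K : Set P.S) {b : G} (hb : b ∈ P.B) :
    Nat.card (MulAction.fixedBy (G ⧸ par P K) b) =
      ∑ w ∈ Finset.univ.filter (fun w => RFree (gen P) K w), fixCell P b w := by
  set Z := {z : G ⧸ P.B // ∃ w, RFree (gen P) K w ∧ z ∈ cosets P w ∧ b • z = z}
  have h1 : Nat.card Z = Nat.card (MulAction.fixedBy (G ⧸ par P K) b) := by
    refine Nat.card_eq_of_bijective (fun z => ⟨Subgroup.quotientMapOfLE (B_le_par K) z.1, ?_⟩)
      ⟨?_, ?_⟩
    · obtain ⟨z, w, -, ⟨g, -, rfl⟩, hz⟩ := z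
      rw [MulAction.mem_fixedBy]
      exact congrArg (Subgroup.quotientMapOfLE (B_le_par K)) hz
    · intro p₁ p₂ e
      obtain ⟨z, w, hw, ⟨x, hx, rfl⟩, hz₁⟩ := p₁
      obtain ⟨z', w', hw', ⟨y, hy, rfl⟩, hz₂⟩ := p₂
      have e' := congrArg Subtype.val e
      simp only [Subgroup.quotientMapOfLE_apply_mk, QuotientGroup.eq] at e'
      exact Subtype.ext (QuotientGroup.eq.2 (cell_unique_free hw hw' hx hy e').2)
    · rintro ⟨z, hz⟩
      obtain ⟨g, rfl⟩ := QuotientGroup.mk_surjective z
      obtain ⟨w, hgw⟩ := exists_cell (P := P) g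
      obtain ⟨x, hl, hr, y, hy, p, hp, q, hq, eg⟩ := exists_free_factor (∅ : Set P.S) K hgw
      have hpB : p ∈ P.B := by
        have : par P (∅ : Set P.S) = P.B := by simp [par, Cfsg.BNPair.parabolic]
        rwa [this] at hp
      have hpy := left_cell hy hpB
      have hgy : ((p * y : G) : G ⧸ par P K) = (g : G ⧸ par P K) := by
        rw [QuotientGroup.eq, eg, inv_mul_cancel_left]
        exact hq
      refine ⟨⟨((p * y : G) : G ⧸ P.B), x, hr, mk_mem_cosets.2 hpy, ?_⟩, ?_⟩
      · rw [MulAction.mem_fixedBy, ← hgy] at hz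
        have hb' : b • ((p * y : G) : G ⧸ par P K) = ((b * (p * y) : G) : G ⧸ par P K) := rfl
        rw [hb', QuotientGroup.eq] at hz
        have := (cell_unique_free hr hr (left_cell hpy hb) hpy hz).2
        exact QuotientGroup.eq.2 this
      · exact Subtype.ext hgy
  rw [← h1]
  have : Fintype (G ⧸ P.B) := Fintype.ofFinite _
  simp only [fixCell, Nat.card_eq_fintype_card, Fintype.card_subtype, Z]
  rw [← Finset.card_biUnion]
  · congr 1
    ext z
    simp
  · intro v _ w _ hvw
    rw [Function.onFun, Finset.disjoint_left]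
    intro z hzv hzw
    simp only [Finset.mem_filter, Finset.mem_univ, true_and] at hzv hzw
    obtain ⟨g, hg, rfl⟩ := hzv.1
    exact hvw (cell_inj hg (mk_mem_cosets.1 hzw.1))

omit [Finite G] in
/-- The orbits of a parabolic subgroup on the cosets of another. -/
theorem card_orbits (J K : Set P.S) :
    Nat.card (Quotient (MulAction.orbitRel ↥(par P J) (G ⧸ par P K))) =
      Nat.card {w : Weyl P // LFree (gen P) J w ∧ RFree (gen P) K w} := by
  symm
  choose n hn using fun w : Weyl P => QuotientGroup.mk_surjective w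
  refine Nat.card_eq_of_bijective (fun w => Quotient.mk _ (((n w.1 : P.N) : G) : G ⧸ par P K)) ⟨?_, ?_⟩
  · rintro ⟨w, hl, hr⟩ ⟨w', hl', hr'⟩ e
    obtain ⟨⟨p, hp⟩, he⟩ := Quotient.exact e
    change (((p * (n w' : G) : G)) : G ⧸ par P K) = ((n w : G) : G ⧸ par P K) at he
    rw [QuotientGroup.eq] at he
    have hcw : (n w : G) ∈ cell P w := by
      have := mk_mem_cell (P := P) (n w); rwa [hn w] at this
    have hcw' : (n w' : G) ∈ cell P w' := by
      have := mk_mem_cell (P := P) (n w'); rwa [hn w'] at this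
    obtain ⟨a, ha, c, hc, hcell⟩ := par_mul_cell_mul_par hp he hcw'
    rw [mul_inv_cancel_left] at hcell
    have ew : w = a * w' * c := cell_inj hcw hcell
    refine Subtype.ext (show w = w' from ew.trans ?_)
    exact gens.free_unique exchange ha hc hl' hr' (ew ▸ hl) (ew ▸ hr)
  · intro z
    induction z using Quotient.ind with
    | _ z =>
      obtain ⟨g, rfl⟩ := QuotientGroup.mk_surjective z
      obtain ⟨w, hgw⟩ := exists_cell (P := P) g
      obtain ⟨x, hl, hr, y, hy, p, hp, q, hq, rfl⟩ := exists_free_factor J K hgw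
      refine ⟨⟨x, hl, hr⟩, Quotient.sound ?_⟩
      have hy' := hy
      rw [← hn x] at hy'
      obtain ⟨b, hb, b', hb', rfl⟩ := mem_cell_mk.1 hy'
      refine ⟨⟨(p * b)⁻¹, inv_mem (mul_mem hp (B_le_par J hb))⟩, ?_⟩
      show (((p * b)⁻¹ * (p * (b * (n x : G) * b') * q) : G) : G ⧸ par P K) = _
      rw [QuotientGroup.eq]
      have : ((p * b)⁻¹ * (p * (b * (n x : G) * b') * q))⁻¹ * (n x : G) = (b' * q)⁻¹ := by group
      rw [this]
      exact inv_mem (mul_mem (B_le_par K hb') hq)

/-- The alternating sum of the permutation characters. -/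
noncomputable def altSum (P : Cfsg.BNPair G) [Fintype P.S] : G → ℂ := fun g =>
  ∑ K : Finset P.S, (-1 : ℂ) ^ K.card * Cfsg.fixedPointCharacter (par P (↑K : Set P.S)) g

open Classical in
omit [Finite G] in
/-- The alternating sum over the sets avoiding the descents. -/
lemma alt_free [Fintype P.S] {w₀ : Weyl P} (hw₀ : IsLongest (gen P) w₀) (w : Weyl P) :
    ∑ K : Finset P.S, (-1 : ℂ) ^ K.card * (if RFree (gen P) (↑K : Set P.S) w then 1 else 0) =
      if w = w₀ then 1 else 0 := by
  set A := (Finset.univ : Finset P.S).filter fun s => len (gen P) w ≤ len (gen P) (w * gen P s)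
  have hA : ∀ K : Finset P.S, RFree (gen P) (↑K : Set P.S) w ↔ K ∈ A.powerset := fun K => by
    rw [Finset.mem_powerset]
    exact ⟨fun h k hk => Finset.mem_filter.2 ⟨Finset.mem_univ k, h k hk⟩,
      fun h k hk => (Finset.mem_filter.1 (h hk)).2⟩
  simp only [hA, mul_ite, mul_one, mul_zero]
  rw [Finset.sum_ite_mem, Finset.univ_inter,
    show ∑ K ∈ A.powerset, (-1 : ℂ) ^ K.card = ((∑ K ∈ A.powerset, (-1 : ℤ) ^ K.card : ℤ) : ℂ) by
      push_cast; rfl, Finset.sum_powerset_neg_one_pow_card]
  have hiff : A = ∅ ↔ w = w₀ := by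
    rw [Finset.filter_eq_empty_iff]
    exact ⟨fun h => gens.longest_unique exchange (fun s => not_le.1 (h (Finset.mem_univ s))) hw₀,
      fun h s _ => not_le.2 (h ▸ hw₀ s)⟩
  by_cases hc : w = w₀
  · simp [hc, hiff.2 hc]
  · simp [hc, mt hiff.1 hc]

/-- The values on `B`. -/
theorem altSum_apply [Fintype P.S] {w₀ : Weyl P} (hw₀ : IsLongest (gen P) w₀) {b : G}
    (hb : b ∈ P.B) : altSum P b = (fixCell P b w₀ : ℂ) := by
  classical
  have : Fintype (Weyl P) := Fintype.ofFinite _
  simp only [altSum, Cfsg.fixedPointCharacter, fixed_par _ hb, Nat.cast_sum, Finset.mul_sum,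
    Finset.sum_filter]
  rw [Finset.sum_comm]
  calc ∑ w : Weyl P, ∑ K : Finset P.S, (-1 : ℂ) ^ K.card *
        ((if RFree (gen P) (↑K : Set P.S) w then fixCell P b w else 0 : ℕ) : ℂ)
      = ∑ w : Weyl P, (fixCell P b w : ℂ) * if w = w₀ then 1 else 0 := by
        refine Finset.sum_congr rfl fun w _ => ?_
        rw [← alt_free hw₀ w, Finset.mul_sum]
        refine Finset.sum_congr rfl fun K _ => ?_
        split_ifs <;> push_cast <;> ring
    _ = _ := by simp

omit [Finite G] in
lemma perm_isClass (H : Subgroup G) : Cfsg.IsClassFunction G (Cfsg.fixedPointCharacter H) := by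
  intro g x
  simp only [Cfsg.fixedPointCharacter, Nat.cast_inj]
  refine Nat.card_congr (Equiv.subtypeEquiv (MulAction.toPerm x⁻¹) fun z => ?_)
  simp [MulAction.mem_fixedBy, mul_smul, smul_eq_iff_eq_inv_smul]

theorem isGeneralized_altSum [Fintype P.S] : Cfsg.IsGeneralizedCharacter G (altSum P) := by
  classical
  have : Fintype G := Fintype.ofFinite G
  have e : altSum P = ∑ K : Finset P.S,
      ((-1 : ℤ) ^ K.card : ℂ) • Cfsg.fixedPointCharacter (par P (↑K : Set P.S)) := by
    funext g; simp [altSum]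
  rw [e]
  refine isGeneralized_sum _ _ fun K _ => ?_
  have := isGeneralized_intCast_smul
    (isGeneralized_of_isCharacter (isCharacter_perm (G := G) (G ⧸ par P (↑K : Set P.S)))) ((-1) ^ K.card)
  rw [Int.cast_pow] at this
  exact this

open Classical in
/-- The norm is one. -/
theorem classInner_altSum [Fintype G] [Fintype P.S] :
    Cfsg.classInner (altSum P) (altSum P) = 1 := by
  obtain ⟨w₀, hw₀⟩ := gens.exists_longest (σ := gen P) gen_len_ne
  have : Fintype (Weyl P) := Fintype.ofFinite _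
  have hkey : ∀ J : Finset P.S,
      Cfsg.classInner (Cfsg.fixedPointCharacter (par P (↑J : Set P.S))) (altSum P) =
        if J = ∅ then 1 else 0 := by
    intro J
    set M := par P (↑J : Set P.S)
    have : Fintype ↥M := Fintype.ofFinite _
    have h1 : Cfsg.fixedPointCharacter M = Cfsg.indFun M (fun _ => (1 : ℂ)) := by
      have := perm_eq_indFun (G := G) (G ⧸ M) ((1 : G) : G ⧸ M)
      rw [show MulAction.stabilizer G ((1 : G) : G ⧸ M) = M from MulAction.stabilizer_quotient M]
        at this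
      exact this
    rw [h1, frobenius_reciprocity M _ (isClassFunction_of_isGeneralized isGeneralized_altSum)]
    have h2 : ∀ K : Finset P.S, ∑ m : ↥M,
        Cfsg.fixedPointCharacter (par P (↑K : Set P.S)) (m : G) =
          (Nat.card {w : Weyl P // LFree (gen P) (↑J : Set P.S) w ∧ RFree (gen P) (↑K : Set P.S) w}
            : ℂ) * (Nat.card ↥M : ℂ) := by
      intro K
      rw [← card_orbits]
      have := MulAction.sum_card_fixedBy_eq_card_orbits_mul_card_group ↥M
        (G ⧸ par P (↑K : Set P.S))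
      simp only [← Nat.card_eq_fintype_card] at this
      simp only [Cfsg.fixedPointCharacter]
      rw [← Nat.cast_sum, ← Nat.cast_mul, Nat.cast_inj]
      exact Eq.trans (Finset.sum_congr rfl fun m _ => rfl) this
    unfold Cfsg.classInner
    have h3 : ∀ m : ↥M, (starRingEnd ℂ) (altSum P (m : G)) = altSum P (m : G) := fun m => by
      simp [altSum, Cfsg.fixedPointCharacter]
    simp only [one_mul, h3]
    simp only [altSum]
    rw [Finset.sum_comm]
    simp only [← Finset.mul_sum, h2]
    rw [Finset.mul_sum]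
    calc ∑ K : Finset P.S, (Nat.card ↥M : ℂ)⁻¹ * ((-1 : ℂ) ^ K.card *
          ((Nat.card {w : Weyl P // LFree (gen P) (↑J : Set P.S) w ∧
            RFree (gen P) (↑K : Set P.S) w} : ℂ) * (Nat.card ↥M : ℂ)))
        = ∑ K : Finset P.S, ∑ w : Weyl P, (if LFree (gen P) (↑J : Set P.S) w then
            (-1 : ℂ) ^ K.card * (if RFree (gen P) (↑K : Set P.S) w then 1 else 0) else 0) := by
          refine Finset.sum_congr rfl fun K _ => ?_
          rw [Nat.card_eq_fintype_card (α := {w : Weyl P // _}), Fintype.card_subtype,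
            show ∀ a : ℂ, (Nat.card ↥M : ℂ)⁻¹ * ((-1 : ℂ) ^ K.card * (a * (Nat.card ↥M : ℂ))) =
              (-1 : ℂ) ^ K.card * a from fun a => by
                field_simp [Nat.cast_ne_zero.2 (Nat.card_pos (α := ↥M)).ne'],
            Finset.natCast_card_filter, Finset.mul_sum]
          refine Finset.sum_congr rfl fun w _ => ?_
          split_ifs <;> simp_all
      _ = ∑ w : Weyl P, if LFree (gen P) (↑J : Set P.S) w then (if w = w₀ then 1 else 0) else 0 := by
          rw [Finset.sum_comm]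
          refine Finset.sum_congr rfl fun w _ => ?_
          by_cases h : LFree (gen P) (↑J : Set P.S) w
          · simp only [if_pos h]
            exact alt_free hw₀ w
          · simp [h]
      _ = if LFree (gen P) (↑J : Set P.S) w₀ then 1 else 0 := by
          rw [Finset.sum_eq_single w₀ (fun w _ hne => by simp [hne])
            (fun hn => absurd (Finset.mem_univ _) hn)]
          simp
      _ = _ := by
          refine if_congr ⟨fun h => ?_, fun h => ?_⟩ rfl rfl
          · refine Finset.eq_empty_iff_forall_notMem.2 fun j hj => ?_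
            have := gens.longest_left exchange gen_len_ne hw₀ j
            have := h j hj
            omega
          · subst h; intro j hj; simp at hj
  have e : altSum P = ∑ J : Finset P.S,
      ((-1 : ℂ) ^ J.card) • Cfsg.fixedPointCharacter (par P (↑J : Set P.S)) := by
    funext g; simp [altSum]
  conv_lhs => arg 1; rw [e]
  rw [classInner_sum_left]
  simp only [classInner_smul_left, hkey]
  simp

/-- The alternating sum is irreducible when its degree is positive. -/
theorem isIrr_altSum [Fintype P.S] : Cfsg.IsIrrCharacter G (altSum P) := by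
  classical
  have : Fintype G := Fintype.ofFinite G
  obtain ⟨ε, hε, ψ, e⟩ := exists_of_norm_one isGeneralized_altSum (classInner_altSum (P := P))
  obtain ⟨w₀, hw₀⟩ := gens.exists_longest (σ := gen P) gen_len_ne
  obtain ⟨d, -, hd⟩ := exists_nat_degree_irr ψ.2
  have h1 : altSum P 1 = (fixCell P 1 w₀ : ℂ) := altSum_apply hw₀ (one_mem _)
  rcases hε with rfl | rfl
  · rw [e, one_smul]; exact ψ.2
  · exfalso
    rw [e, Pi.smul_apply, hd, smul_eq_mul, neg_one_mul] at h1
    have h2 : ((fixCell P 1 w₀ + d : ℕ) : ℂ) = 0 := by push_cast; rw [← h1]; ring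
    have h3 : fixCell P 1 w₀ + d = 0 := by exact_mod_cast h2
    have := irr_degree_ne_zero ψ.2
    rw [hd, Nat.cast_ne_zero] at this
    omega

omit [Finite G] in
/-- The cell of the longest element as a coset space of `B`. -/
theorem fixCell_eq {w₀ : Weyl P} {n : G} (hn : n ∈ cell P w₀) {H : Subgroup G}
    (hinf : ∀ x ∈ P.B, n⁻¹ * x * n ∈ P.B ↔ x ∈ H) (b : ↥P.B) :
    fixCell P (b : G) w₀ = Nat.card (MulAction.fixedBy (↥P.B ⧸ H.subgroupOf P.B) b) := by
  symm
  let f : ↥P.B ⧸ H.subgroupOf P.B → G ⧸ P.B :=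
    Quotient.map' (fun x : ↥P.B => (x : G) * n) fun x y hxy => by
      rw [QuotientGroup.leftRel_apply, Subgroup.mem_subgroupOf] at hxy
      rw [QuotientGroup.leftRel_apply]
      have h1 : n⁻¹ * ((x : G)⁻¹ * y) * n ∈ P.B :=
        (hinf _ (mul_mem (inv_mem x.2) y.2)).2 (by simpa using hxy)
      simpa [mul_assoc] using h1
  have hf : Function.Injective f := by
    intro z z' e
    obtain ⟨x, rfl⟩ := QuotientGroup.mk_surjective z
    obtain ⟨y, rfl⟩ := QuotientGroup.mk_surjective z'
    have e' : ((x : G) * n : G ⧸ P.B) = ((y : G) * n : G) := e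
    rw [QuotientGroup.eq] at e' ⊢
    rw [Subgroup.mem_subgroupOf]
    have h1 : n⁻¹ * ((x : G)⁻¹ * y) * n ∈ P.B := by simpa [mul_assoc] using e'
    simpa using (hinf _ (mul_mem (inv_mem x.2) y.2)).1 h1
  have hfs : ∀ z, f (b • z) = (b : G) • f z := fun z => by
    obtain ⟨x, rfl⟩ := QuotientGroup.mk_surjective z
    show (((b * x : ↥P.B) : G) * n : G ⧸ P.B) = (((b : G) * ((x : G) * n)) : G)
    rw [Subgroup.coe_mul, mul_assoc]
  unfold fixCell
  refine Nat.card_eq_of_bijective (fun z => ⟨f z.1, ?_, ?_⟩) ⟨?_, ?_⟩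
  · obtain ⟨x, hx⟩ := QuotientGroup.mk_surjective z.1
    rw [← hx]
    exact mk_mem_cosets.2 (left_cell hn x.2)
  · rw [← hfs]; exact congrArg f z.2
  · exact fun z z' e => Subtype.ext (hf (congrArg Subtype.val e))
  · rintro ⟨z, ⟨g, hg, rfl⟩, hz⟩
    obtain ⟨m, rfl⟩ := QuotientGroup.mk_surjective w₀
    obtain ⟨c, hc, c', hc', rfl⟩ := mem_cell_mk.1 hn
    obtain ⟨e, he, e', he', rfl⟩ := mem_cell_mk.1 hg
    have key : f ((⟨e * c⁻¹, mul_mem he (inv_mem hc)⟩ : ↥P.B) : ↥P.B ⧸ H.subgroupOf P.B) =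
        ((e * (m : G) * e' : G) : G ⧸ P.B) := by
      show ((e * c⁻¹ * (c * (m : G) * c') : G) : G ⧸ P.B) = _
      rw [QuotientGroup.eq]
      have : (e * c⁻¹ * (c * (m : G) * c'))⁻¹ * (e * (m : G) * e') = c'⁻¹ * e' := by group
      rw [this]
      exact mul_mem (inv_mem hc') he'
    refine ⟨⟨((⟨e * c⁻¹, mul_mem he (inv_mem hc)⟩ : ↥P.B) : ↥P.B ⧸ H.subgroupOf P.B), ?_⟩,
      Subtype.ext key⟩
    rw [MulAction.mem_fixedBy]
    apply hf
    rw [hfs, key, hz]

end CfsgLib.BN
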