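import Cfsg.Prelude.Def_LieExceptional
import Cfsg.Agent.Lib.Coxeter.Exchange

/-!
Abstract (B, N)-pairs: Bruhat decomposition, exchange condition, parabolic subgroups.
-/

set_option autoImplicit false

namespace CfsgLib.BN

open CfsgLib.Coxeter

variable {G : Type*} [Group G] (P : Cfsg.BNPair G)

/-- `B ⊓ N` inside `N`. -/
abbrev torusN : Subgroup P.N := (P.B ⊓ P.N).subgroupOf P.N

instance normal_torusN : (torusN P).Normal := ⟨fun t ht n => by
  simp only [Subgroup.mem_subgroupOf, Subgroup.coe_mul, Subgroup.coe_inv] at ht ⊢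
  exact Subgroup.mem_inf.2 ⟨P.conj_mem n n.2 t ht, mul_mem (mul_mem n.2 t.2) (inv_mem n.2)⟩⟩

/-- The Weyl group. -/
abbrev Weyl : Type _ := P.N ⧸ torusN P

/-- The generators of the Weyl group. -/
def gen (s : P.S) : Weyl P := QuotientGroup.mk (⟨(s : G), P.subset s.2⟩ : P.N)

/-- The double coset of a Weyl group element. -/
def cell (w : Weyl P) : Set G :=
  {g | ∃ n : P.N, QuotientGroup.mk n = w ∧ ∃ b ∈ P.B, ∃ b' ∈ P.B, g = b * n * b'}

/-- The product of a word of generators in `G`. -/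
def rep (L : List P.S) : G := (L.map Subtype.val).prod

variable {P}

lemma mk_eq_mk {n n' : P.N} :
    (QuotientGroup.mk n : Weyl P) = QuotientGroup.mk n' ↔ (n : G)⁻¹ * n' ∈ P.B := by
  rw [QuotientGroup.eq, Subgroup.mem_subgroupOf, Subgroup.mem_inf]
  simp only [Subgroup.coe_mul, Subgroup.coe_inv]
  exact and_iff_left (mul_mem (inv_mem n.2) n'.2)

lemma mk_eq_one {n : P.N} : (QuotientGroup.mk n : Weyl P) = 1 ↔ (n : G) ∈ P.B := by
  rw [QuotientGroup.eq_one_iff, Subgroup.mem_subgroupOf, Subgroup.mem_inf]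
  exact and_iff_left n.2

lemma mem_cell_mk {n : P.N} {g : G} :
    g ∈ cell P (QuotientGroup.mk n) ↔ ∃ b ∈ P.B, ∃ b' ∈ P.B, g = b * n * b' := by
  refine ⟨fun ⟨m, hm, b, hb, b', hb', e⟩ => ?_, fun h => ⟨n, rfl, h⟩⟩
  refine ⟨b, hb, (n : G)⁻¹ * m * b', mul_mem (mk_eq_mk.1 hm.symm) hb', ?_⟩
  rw [e]; group

lemma cell_mk (n : P.N) :
    cell P (QuotientGroup.mk n) = DoubleCoset.doubleCoset (n : G) (P.B : Set G) P.B := by
  ext g
  rw [mem_cell_mk, DoubleCoset.mem_doubleCoset]
  rfl

lemma mk_mem_cell (n : P.N) : (n : G) ∈ cell P (QuotientGroup.mk n) :=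
  mem_cell_mk.2 ⟨1, one_mem _, 1, one_mem _, by group⟩

lemma mem_cell_one {g : G} : g ∈ cell P (1 : Weyl P) ↔ g ∈ P.B := by
  rw [← QuotientGroup.mk_one, mem_cell_mk]
  refine ⟨fun ⟨b, hb, b', hb', e⟩ => ?_, fun hg => ⟨g, hg, 1, one_mem _, by simp⟩⟩
  rw [e]; simpa using mul_mem hb hb'

lemma mul_cell {w : Weyl P} {g b b' : G} (hg : g ∈ cell P w) (hb : b ∈ P.B) (hb' : b' ∈ P.B) :
    b * g * b' ∈ cell P w := by
  obtain ⟨n, hn, c, hc, c', hc', rfl⟩ := hg
  exact ⟨n, hn, b * c, mul_mem hb hc, c' * b', mul_mem hc' hb', by group⟩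

lemma left_cell {w : Weyl P} {g b : G} (hg : g ∈ cell P w) (hb : b ∈ P.B) :
    b * g ∈ cell P w := by simpa using mul_cell hg hb (one_mem P.B)

lemma right_cell {w : Weyl P} {g b' : G} (hg : g ∈ cell P w) (hb' : b' ∈ P.B) :
    g * b' ∈ cell P w := by simpa using mul_cell hg (one_mem P.B) hb'

lemma inv_cell {w : Weyl P} {g : G} (hg : g ∈ cell P w) : g⁻¹ ∈ cell P w⁻¹ := by
  obtain ⟨n, rfl, c, hc, c', hc', rfl⟩ := hg
  refine ⟨n⁻¹, rfl, c'⁻¹, inv_mem hc', c⁻¹, inv_mem hc, ?_⟩
  rw [Subgroup.coe_inv]; group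

lemma gen_mem_cell (s : P.S) : (s : G) ∈ cell P (gen P s) :=
  mk_mem_cell (⟨(s : G), P.subset s.2⟩ : P.N)

lemma gen_sq (s : P.S) : gen P s * gen P s = 1 := by
  rw [gen, ← QuotientGroup.mk_mul, mk_eq_one]
  exact P.sq_mem s s.2

lemma step (s : P.S) {w : Weyl P} {g : G} (hg : g ∈ cell P w) :
    (s : G) * g ∈ cell P (gen P s * w) ∪ cell P w := by
  obtain ⟨n, rfl, b, hb, b', hb', rfl⟩ := hg
  rw [show (s : G) * (b * n * b') = ((s : G) * b * n) * b' by group]
  rcases P.mul_mem_union s s.2 n n.2 b hb with h | h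
  · refine Or.inl (right_cell ?_ hb')
    rw [gen, ← QuotientGroup.mk_mul, cell_mk]; exact h
  · refine Or.inr (right_cell ?_ hb')
    rw [cell_mk]; exact h

lemma gen_inv (s : P.S) : (gen P s)⁻¹ = gen P s := inv_eq_of_mul_eq_one_right (gen_sq s)

lemma inv_gen_mem (s : P.S) : ((s : G))⁻¹ ∈ cell P (gen P s) := by
  have := inv_cell (gen_mem_cell s)
  rwa [gen_inv] at this

lemma mem_gen_cell {s : P.S} {x : G} (hx : x ∈ cell P (gen P s)) :
    ∃ b ∈ P.B, ∃ b' ∈ P.B, x = b * s * b' :=
  mem_cell_mk (n := (⟨(s : G), P.subset s.2⟩ : P.N)).1 hx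

lemma step' {s : P.S} {x : G} (hx : x ∈ cell P (gen P s)) {w : Weyl P} {g : G}
    (hg : g ∈ cell P w) : x * g ∈ cell P (gen P s * w) ∪ cell P w := by
  obtain ⟨b, hb, b', hb', rfl⟩ := mem_gen_cell hx
  rw [show b * (s : G) * b' * g = b * ((s : G) * (b' * g)) by group]
  rcases step s (left_cell hg hb') with h | h
  · exact Or.inl (left_cell h hb)
  · exact Or.inr (left_cell h hb)

lemma step_right {w : Weyl P} {g : G} (hg : g ∈ cell P w) {s : P.S} {x : G}
    (hx : x ∈ cell P (gen P s)) : g * x ∈ cell P (w * gen P s) ∪ cell P w := by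
  have hx' : x⁻¹ ∈ cell P (gen P s) := gen_inv s ▸ inv_cell hx
  rcases step' hx' (inv_cell hg) with h | h
  · left
    have := inv_cell h
    simpa [gen_inv] using this
  · right
    have := inv_cell h
    simpa using this

/-- The generators generate. -/
lemma gens : Gens (gen P) where
  sq := gen_sq
  gen := by
    rw [eq_top_iff]
    rintro w -
    induction w using QuotientGroup.induction_on with | H n => ?_
    have key : ∀ x ∈ Subgroup.closure P.S ⊔ (P.B ⊓ P.N), ∀ hx : x ∈ P.N,
        (QuotientGroup.mk (⟨x, hx⟩ : P.N) : Weyl P) ∈ Subgroup.closure (Set.range (gen P)) := by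
      have hle : Subgroup.closure P.S ⊔ (P.B ⊓ P.N) ≤
          ((Subgroup.closure (Set.range (gen P))).comap (QuotientGroup.mk' (torusN P))).map
            P.N.subtype := by
        refine sup_le ((Subgroup.closure_le _).2 fun s hs => ?_) fun t ht => ?_
        · exact ⟨⟨s, P.subset hs⟩, Subgroup.subset_closure ⟨⟨s, hs⟩, rfl⟩, rfl⟩
        · refine ⟨⟨t, ht.2⟩, ?_, rfl⟩
          show (QuotientGroup.mk (⟨t, ht.2⟩ : P.N) : Weyl P) ∈ Subgroup.closure (Set.range (gen P))
          rw [mk_eq_one.2 (show ((⟨t, ht.2⟩ : P.N) : G) ∈ P.B from ht.1)]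
          exact one_mem _
      intro x hx hxN
      obtain ⟨y, hy, rfl⟩ := hle hx
      exact hy
    exact key n.1 (by rw [P.closure_sup]; exact n.2) n.2

lemma rep_mem_N : ∀ L : List P.S, rep P L ∈ P.N
  | [] => one_mem _
  | a :: L => mul_mem (P.subset a.2) (rep_mem_N L)

lemma mk_rep : ∀ L : List P.S,
    (QuotientGroup.mk (⟨rep P L, rep_mem_N L⟩ : P.N) : Weyl P) = wprod (gen P) L
  | [] => rfl
  | a :: L => by
    rw [wprod_cons, ← mk_rep L, gen, ← QuotientGroup.mk_mul]
    rfl

lemma rep_mem_cell (L : List P.S) : rep P L ∈ cell P (wprod (gen P) L) := by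
  rw [← mk_rep]; exact mk_mem_cell _

/-- Every element lies in a cell. -/
theorem exists_cell (g : G) : ∃ w, g ∈ cell P w := by
  have hg : g ∈ P.B ⊔ P.N := by rw [P.sup_eq_top]; exact Subgroup.mem_top g
  let K : Subgroup G :=
    { carrier := {x | ∀ y, (∃ w, y ∈ cell P w) ↔ ∃ w, x * y ∈ cell P w}
      one_mem' := fun y => by rw [one_mul]
      mul_mem' := fun {a b} ha hb y => by rw [mul_assoc, ← ha, ← hb]
      inv_mem' := fun {a} ha y => by rw [ha (a⁻¹ * y), mul_inv_cancel_left] }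
  have hB : ∀ b ∈ P.B, b ∈ K := fun b hb y =>
    ⟨fun ⟨w, hw⟩ => ⟨w, left_cell hw hb⟩, fun ⟨w, hw⟩ => ⟨w, by
      have := left_cell hw (inv_mem hb)
      rwa [inv_mul_cancel_left] at this⟩⟩
  have hS : ∀ s ∈ P.S, s ∈ K := fun s hs y =>
    ⟨fun ⟨w, hw⟩ => by
      rcases step ⟨s, hs⟩ hw with h | h <;> exact ⟨_, h⟩, fun ⟨w, hw⟩ => by
      rcases step' (inv_gen_mem ⟨s, hs⟩) hw with h | h <;>
        exact ⟨_, by rwa [inv_mul_cancel_left] at h⟩⟩
  have hle : P.B ⊔ P.N ≤ K := by
    refine sup_le hB ?_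
    rw [← P.closure_sup]
    exact sup_le ((Subgroup.closure_le _).2 hS) fun t ht => hB t ht.1
  obtain ⟨w, hw⟩ := (hle hg 1).1 ⟨1, mem_cell_one.2 (one_mem _)⟩
  exact ⟨w, by rwa [mul_one] at hw⟩

/-- Some `s b s` lies outside `B`. -/
lemma exists_sbs (s : P.S) : ∃ b ∈ P.B, (s : G) * b * s ∉ P.B := by
  by_contra hne
  push Not at hne
  refine P.conj_ne s s.2 (Set.Subset.antisymm (by rintro _ ⟨b, hb, rfl⟩; exact hne b hb) ?_)
  intro b hb
  have h2 : (s : G) * s ∈ P.B := P.sq_mem s s.2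
  refine ⟨(s : G)⁻¹ * b * (s : G)⁻¹, ?_, by group⟩
  have := mul_mem (mul_mem (inv_mem h2) (hne b hb)) (inv_mem h2)
  simpa [mul_assoc] using this

lemma gen_ne_one (s : P.S) : gen P s ≠ 1 := by
  intro e
  obtain ⟨b, hb, hne⟩ := exists_sbs s
  have hs : (s : G) ∈ P.B := mk_eq_one.1 e
  exact hne (mul_mem (mul_mem hs hb) hs)

/-- Cells are disjoint. -/
theorem cell_inj {v w : Weyl P} {g : G} (hv : g ∈ cell P v) (hw : g ∈ cell P w) : v = w := by
  suffices H : ∀ q, ∀ v w : Weyl P, len (gen P) v = q → q ≤ len (gen P) w →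
      ∀ g, g ∈ cell P v → g ∈ cell P w → v = w by
    rcases le_total (len (gen P) v) (len (gen P) w) with h | h
    · exact H _ v w rfl h g hv hw
    · exact (H _ w v rfl h g hw hv).symm
  intro q
  induction q using Nat.strong_induction_on with
  | _ q ih =>
    intro v w hv hq g hgv hgw
    by_cases h0 : q = 0
    · subst h0
      obtain rfl := gens.len_eq_zero.1 hv
      obtain ⟨n, rfl⟩ := QuotientGroup.mk_surjective w
      obtain ⟨b, hb, b', hb', rfl⟩ := mem_cell_mk.1 hgw
      refine (mk_eq_one.2 ?_).symm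
      have := mul_mem (mul_mem (inv_mem hb) (mem_cell_one.1 hgv)) (inv_mem hb')
      simpa [mul_assoc] using this
    obtain ⟨L, hL, rfl, hlen⟩ := gens.exists_red v
    obtain ⟨s, L', rfl⟩ := List.exists_cons_of_length_pos (l := L) (by omega)
    simp only [List.length_cons] at hlen
    obtain ⟨b, hb, b', hb', e⟩ := (mk_rep (s :: L') ▸ mem_cell_mk).1 hgv
    have hm : rep P L' ∈ cell P (gen P s * w) ∪ cell P w := by
      have h1 : (b⁻¹ * g * b'⁻¹) ∈ cell P w := mul_cell hgw (inv_mem hb) (inv_mem hb')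
      have h2 := step' (inv_gen_mem s) h1
      rwa [show (s : G)⁻¹ * (b⁻¹ * g * b'⁻¹) = rep P L' by
        rw [e]; simp only [rep, List.map_cons, List.prod_cons]; group] at h2
    have hlt : len (gen P) (wprod (gen P) L') = L'.length := gens.red_tail hL
    rcases hm with hm | hm
    · have hle := gens.le_len_gen_mul s w
      have := ih _ (by omega) _ _ hlt (by omega) _ (rep_mem_cell L') hm
      rw [wprod_cons, this, gens.cancel_left]
    · have := ih _ (by omega) _ _ hlt (by omega) _ (rep_mem_cell L') hm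
      rw [← this] at hq
      omega

/-- `C(s) C(w) = C(sw)` when the length goes up. -/
theorem mul_cell_of_len (s : P.S) {x : G} (hx : x ∈ cell P (gen P s)) {w : Weyl P}
    (hlen : len (gen P) w ≤ len (gen P) (gen P s * w)) {g : G} (hg : g ∈ cell P w) :
    x * g ∈ cell P (gen P s * w) := by
  obtain ⟨L, hL, rfl, -⟩ := gens.exists_red w
  induction L using List.reverseRecOn generalizing g with
  | nil =>
    simp only [wprod_nil, mul_one, mem_cell_one] at hg ⊢
    exact right_cell hx hg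
  | append_singleton L r ih =>
    have hr := (gens.red_append hL).1
    rw [hL, List.length_append, List.length_singleton] at hlen
    have hL' : len (gen P) (wprod (gen P) L) = L.length := hr
    have hlen' : len (gen P) (wprod (gen P) L) ≤ len (gen P) (gen P s * wprod (gen P) L) := by
      have h1 := gens.len_mul_le (gen P s * wprod (gen P) L) (gen P r)
      rw [show gen P s * wprod (gen P) L * gen P r = gen P s * wprod (gen P) (L ++ [r]) by
        simp [mul_assoc]] at h1
      have := Gens.len_gen_le (σ := gen P) r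
      omega
    obtain ⟨b, hb, b', hb', e⟩ := (mk_rep (L ++ [r]) ▸ mem_cell_mk).1 hg
    have h2 : x * (b * rep P L) * (r : G) ∈ cell P (gen P s * wprod (gen P) (L ++ [r])) ∪
        cell P (gen P s * wprod (gen P) L) := by
      have := step_right (ih hr hlen' (left_cell (rep_mem_cell L) hb)) (gen_mem_cell r)
      simpa [mul_assoc] using this
    have hxg : x * g = x * (b * rep P L) * (r : G) * b' := by
      rw [e]; simp [rep, mul_assoc]
    rcases step' hx hg with h | h
    · exact h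
    exfalso
    rw [hxg] at h
    have h3 := right_cell h (inv_mem hb')
    rw [mul_inv_cancel_right] at h3
    rcases h2 with h2 | h2
    · have := cell_inj h2 h3
      rw [mul_eq_right] at this
      exact gen_ne_one s this
    · have := cell_inj h3 h2
      have e2 : gen P s * wprod (gen P) (L ++ [r]) = wprod (gen P) L := by
        rw [this, gens.cancel_left]
      rw [e2, hL'] at hlen
      omega

theorem mul_cell_right_of_len (s : P.S) {x : G} (hx : x ∈ cell P (gen P s)) {w : Weyl P}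
    (hlen : len (gen P) w ≤ len (gen P) (w * gen P s)) {g : G} (hg : g ∈ cell P w) :
    g * x ∈ cell P (w * gen P s) := by
  have hx' : x⁻¹ ∈ cell P (gen P s) := gen_inv s ▸ inv_cell hx
  have hlen' : len (gen P) w⁻¹ ≤ len (gen P) (gen P s * w⁻¹) := by
    rw [gens.len_inv, ← gens.len_inv (gen P s * w⁻¹)]
    simpa [gen_inv] using hlen
  have := inv_cell (mul_cell_of_len s hx' hlen' (inv_cell hg))
  simpa [gen_inv] using this

/-- When the length goes down, `C(s) C(w)` meets `C(w)`. -/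
theorem exists_meet (s : P.S) {w : Weyl P}
    (hlen : len (gen P) (gen P s * w) ≤ len (gen P) w) {g : G} (hg : g ∈ cell P w) :
    ∃ b ∈ P.B, (s : G) * b * g ∈ cell P w := by
  obtain ⟨b, hb, hne⟩ := exists_sbs s
  have hC : (s : G) * b * s ∈ cell P (gen P s) := by
    rcases step' (right_cell (gen_mem_cell s) hb) (gen_mem_cell s) with h | h
    · rw [gen_sq, mem_cell_one] at h; exact absurd h hne
    · exact h
  obtain ⟨b₁, hb₁, b₂, hb₂, e⟩ := mem_gen_cell hC
  obtain ⟨n, hn⟩ := QuotientGroup.mk_surjective (gen P s * w)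
  have h1 : ∀ c ∈ P.B, (s : G) * c * n ∈ cell P w := fun c hc => by
    have := mul_cell_of_len s (right_cell (gen_mem_cell s) hc) (w := gen P s * w)
      (by rw [gens.cancel_left]; exact hlen) (hn ▸ mk_mem_cell n)
    rwa [gens.cancel_left] at this
  obtain ⟨c, hc, c', hc', rfl⟩ : ∃ c ∈ P.B, ∃ c' ∈ P.B, g = c * ((s : G) * n) * c' := by
    have hw : w = QuotientGroup.mk ((⟨(s : G), P.subset s.2⟩ : P.N) * n) := by
      rw [QuotientGroup.mk_mul, hn, ← gen, gens.cancel_left]
    rw [hw] at hg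
    obtain ⟨c, hc, c', hc', e⟩ := mem_cell_mk.1 hg
    exact ⟨c, hc, c', hc', e⟩
  refine ⟨b₂ * c⁻¹, mul_mem hb₂ (inv_mem hc), ?_⟩
  have h3 : (s : G) * b₂ * s * n ∈ cell P w := by
    have e2 : (s : G) * b₂ * s * n = b₁⁻¹ * ((s : G) * b * s) * s * n := by rw [e]; group
    have e3 : (s : G) * b₂ * s * n = (s : G) * b₂ * (s : G) * n := rfl
    have hs2 : (s : G) * s ∈ P.B := P.sq_mem s s.2
    have e4 : b₁⁻¹ * ((s : G) * (b * ((s : G) * s)) * n) = b₁⁻¹ * ((s : G) * b * s) * s * n := by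
      group
    rw [show (s : G) * b₂ * s * n = b₁⁻¹ * ((s : G) * (b * ((s : G) * s)) * n) from
      e2.trans e4.symm]
    exact left_cell (h1 _ (mul_mem hb hs2)) (inv_mem hb₁)
  simpa [mul_assoc] using right_cell h3 hc'

theorem len_gen_mul_ne (s : P.S) (w : Weyl P) :
    len (gen P) (gen P s * w) ≠ len (gen P) w := by
  intro e
  obtain ⟨n, rfl⟩ := QuotientGroup.mk_surjective w
  obtain ⟨b, hb, h⟩ := exists_meet s e.le (mk_mem_cell n)
  have := mul_cell_of_len s (right_cell (gen_mem_cell s) hb) e.ge (mk_mem_cell n)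
  have h2 := cell_inj this h
  rw [mul_eq_right] at h2
  exact gen_ne_one s h2

/-- The exchange condition. -/
theorem exchange : Exchange (gen P) := by
  intro L
  induction L using List.reverseRecOn with
  | nil =>
    intro s _ h
    simp only [wprod_nil, mul_one, List.length_nil, Nat.le_zero] at h
    exact absurd (gens.len_eq_zero.1 h) (gen_ne_one s)
  | append_singleton L r ih =>
    intro s hL hlen
    have hr : len (gen P) (wprod (gen P) L) = L.length := (gens.red_append hL).1
    by_cases hc : len (gen P) (gen P s * wprod (gen P) L) ≤ L.length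
    · obtain ⟨j, hj, e⟩ := ih s (gens.red_append hL).1 hc
      refine ⟨j, by rw [List.length_append, List.length_singleton]; omega, ?_⟩
      rw [List.eraseIdx_append_of_lt_length hj, wprod_append (gen P), wprod_append (gen P),
        ← mul_assoc, e]
    · refine ⟨L.length, by simp, ?_⟩
      rw [List.eraseIdx_append_of_length_le le_rfl, Nat.sub_self, List.eraseIdx_cons_zero,
        List.append_nil]
      rw [List.length_append, List.length_singleton] at hlen
      have hw : gen P s * wprod (gen P) L * gen P r = gen P s * wprod (gen P) (L ++ [r]) := by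
        simp [mul_assoc]
      have hwr : wprod (gen P) L * gen P r = wprod (gen P) (L ++ [r]) := by simp
      -- `u = s v'` satisfies `ℓ(u r) ≤ ℓ(u)`
      have hup : len (gen P) (wprod (gen P) L) ≤ len (gen P) (gen P s * wprod (gen P) L) := by omega
      set u := gen P s * wprod (gen P) L with hu
      have hsm : (s : G) * rep P L ∈ cell P u :=
        mul_cell_of_len s (gen_mem_cell s) hup (rep_mem_cell L)
      have hdown : len (gen P) (gen P r * u⁻¹) ≤ len (gen P) u⁻¹ := by
        rw [gens.len_inv, ← gens.len_inv (gen P r * u⁻¹), _root_.mul_inv_rev, inv_inv, gen_inv, hw]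
        omega
      obtain ⟨b, hb, hmeet⟩ := exists_meet r hdown (inv_cell hsm)
      have h1 := inv_cell hmeet
      rw [inv_inv] at h1
      have h2 : rep P L * (b⁻¹ * (r : G)⁻¹) ∈ cell P (wprod (gen P) (L ++ [r])) := by
        rw [← hwr]
        refine mul_cell_right_of_len r (left_cell (inv_gen_mem r) (inv_mem hb)) ?_ (rep_mem_cell L)
        rw [hwr, hr, hL, List.length_append]
        omega
      have h3 : ((r : G) * b * ((s : G) * rep P L)⁻¹)⁻¹ =
          (s : G) * (rep P L * (b⁻¹ * (r : G)⁻¹)) := by group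
      rw [h3] at h1
      rcases step s h2 with h | h
      · have := cell_inj h h1
        rw [← hw] at this
        exact absurd (mul_eq_left.1 this) (gen_ne_one r)
      · have := cell_inj h h1
        rw [this, hu, gens.cancel_left]

/-- The letters of a reduced word lie in the subgroup generated by `B` and its conjugate. -/
theorem letters_mem : ∀ {L : List P.S}, IsRed (gen P) L → ∀ {n : G},
    n ∈ cell P (wprod (gen P) L) → ∀ {M : Subgroup G}, P.B ≤ M → (∀ b ∈ P.B, n * b * n⁻¹ ∈ M) →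
    n ∈ M ∧ ∀ s ∈ L, (s : G) ∈ M := by
  intro L
  induction L with
  | nil =>
    intro _ n hn M hB _
    rw [wprod_nil, mem_cell_one] at hn
    exact ⟨hB hn, fun s hs => nomatch hs⟩
  | cons s L ih =>
    intro hL n hn M hB hM
    obtain ⟨b₀, hb₀, b₀', hb₀', e⟩ := (mk_rep (s :: L) ▸ mem_cell_mk).1 hn
    have hrep : ∀ b ∈ P.B, rep P (s :: L) * b * (rep P (s :: L))⁻¹ ∈ M := fun b hb => by
      have := mul_mem (mul_mem (inv_mem (hB hb₀)) (hM (b₀'⁻¹ * b * b₀')
        (mul_mem (mul_mem (inv_mem hb₀') hb) hb₀'))) (hB hb₀)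
      rw [e] at this
      simpa [mul_assoc] using this
    set m := rep P (s :: L) with hm
    have hlen : len (gen P) (gen P s * wprod (gen P) (s :: L)) ≤
        len (gen P) (wprod (gen P) (s :: L)) := by
      rw [wprod_cons, gens.cancel_left, ← wprod_cons, hL, gens.red_tail hL, List.length_cons]
      omega
    obtain ⟨b, hb, hmeet⟩ := exists_meet s hlen (rep_mem_cell (s :: L))
    obtain ⟨c, hc, c', hc', e'⟩ := (mk_rep (s :: L) ▸ mem_cell_mk).1 hmeet
    have hs : (s : G) ∈ M := by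
      have h1 : (s : G) = c * (m * c' * m⁻¹) * b⁻¹ := by
        rw [← mul_left_inj (b * m)]
        rw [show (s : G) * (b * m) = (s : G) * b * m by group, e']
        group
        rfl
      rw [h1]
      exact mul_mem (mul_mem (hB hc) (hrep c' hc')) (inv_mem (hB hb))
    obtain ⟨hL1, hL2⟩ := ih (gens.red_tail hL) (rep_mem_cell L) hB (fun b hb => by
      have := mul_mem (mul_mem (inv_mem hs) (hrep b hb)) hs
      simpa [hm, rep, mul_assoc] using this)
    refine ⟨?_, fun r hr => ?_⟩
    · rw [e]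
      refine mul_mem (mul_mem (hB hb₀) ?_) (hB hb₀')
      show rep P (s :: L) ∈ M
      simpa [rep] using mul_mem hs hL1
    · rcases List.mem_cons.1 hr with rfl | hr
      · exact hs
      · exact hL2 r hr

/-- A subgroup containing `B` which meets a cell contains the letters of its reduced words. -/
theorem letters_mem_of_mem {L : List P.S} (hL : IsRed (gen P) L) {g : G}
    (hg : g ∈ cell P (wprod (gen P) L)) {M : Subgroup G} (hB : P.B ≤ M) (hgM : g ∈ M) :
    ∀ s ∈ L, (s : G) ∈ M :=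
  (letters_mem hL hg hB fun _ hb => mul_mem (mul_mem hgM (hB hb)) (inv_mem hgM)).2

/-- Elements of a parabolic subgroup. -/
theorem mem_parabolic {J : Set G} (hJ : J ⊆ P.S) {g : G} :
    g ∈ P.parabolic J ↔
      ∃ L : List P.S, IsRed (gen P) L ∧ (∀ s ∈ L, (s : G) ∈ J) ∧ g ∈ cell P (wprod (gen P) L) := by
  constructor
  · intro hg
    suffices ∃ L : List P.S, (∀ s ∈ L, (s : G) ∈ J) ∧ g ∈ cell P (wprod (gen P) L) by
      obtain ⟨L, h1, h2⟩ := this
      obtain ⟨L', hr, e, hsub⟩ := gens.exists_red_subset exchange L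
      exact ⟨L', hr, fun s hs => h1 s (hsub s hs), e ▸ h2⟩
    let Q : Set G := {x | ∃ L : List P.S, (∀ s ∈ L, (s : G) ∈ J) ∧ x ∈ cell P (wprod (gen P) L)}
    let K : Subgroup G :=
      { carrier := {x | ∀ y, y ∈ Q ↔ x * y ∈ Q}
        one_mem' := fun y => by rw [one_mul]
        mul_mem' := fun {a b} ha hb y => by rw [mul_assoc, ← ha, ← hb]
        inv_mem' := fun {a} ha y => by rw [ha (a⁻¹ * y), mul_inv_cancel_left] }
    have hBK : P.B ≤ K := fun b hb y =>
      ⟨fun ⟨L, h1, h2⟩ => ⟨L, h1, left_cell h2 hb⟩, fun ⟨L, h1, h2⟩ => ⟨L, h1, by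
        have := left_cell h2 (inv_mem hb)
        rwa [inv_mul_cancel_left] at this⟩⟩
    have hQ : ∀ (s : P.S), (s : G) ∈ J → ∀ x ∈ cell P (gen P s), ∀ y ∈ Q, x * y ∈ Q := by
      intro s hs x hx y ⟨L, h1, h2⟩
      rcases step' hx h2 with h | h
      · exact ⟨s :: L, fun a ha => by
          rcases List.mem_cons.1 ha with rfl | ha
          exacts [hs, h1 a ha], by rwa [wprod_cons]⟩
      · exact ⟨L, h1, h⟩
    have hJK : J ⊆ K := fun s hs y => ⟨hQ ⟨s, hJ hs⟩ hs s (gen_mem_cell _) y, fun h => by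
      have := hQ ⟨s, hJ hs⟩ hs s⁻¹ (inv_gen_mem ⟨s, hJ hs⟩) _ h
      rwa [inv_mul_cancel_left] at this⟩
    have := ((sup_le hBK ((Subgroup.closure_le _).2 hJK)) hg 1).1
      ⟨[], by simp, mem_cell_one.2 (one_mem _)⟩
    rwa [mul_one] at this
  · rintro ⟨L, -, hLJ, hg⟩
    obtain ⟨b, hb, b', hb', e⟩ := (mk_rep L ▸ mem_cell_mk).1 hg
    rw [e]
    refine mul_mem (mul_mem (Subgroup.mem_sup_left hb) (list_prod_mem fun x hx => ?_))
      (Subgroup.mem_sup_left hb')
    obtain ⟨s, hs, rfl⟩ := List.mem_map.1 hx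
    exact Subgroup.mem_sup_right (Subgroup.subset_closure (hLJ s hs))

lemma B_le_parabolic (J : Set G) : P.B ≤ P.parabolic J := le_sup_left

lemma len_gen_eq_one (s : P.S) : len (gen P) (gen P s) = 1 := by
  have h1 := Gens.len_gen_le (σ := gen P) s
  have h2 : len (gen P) (gen P s) ≠ 0 := fun e => gen_ne_one s (gens.len_eq_zero.1 e)
  omega

lemma gen_injective : Function.Injective (gen P) := fun s s' e =>
  Subtype.ext (P.inj s s.2 s' s'.2 ((mk_eq_mk (n := (⟨(s : G), P.subset s.2⟩ : P.N))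
    (n' := (⟨(s' : G), P.subset s'.2⟩ : P.N))).1 e))

/-- `S ∩ P_J = J`. -/
theorem mem_of_mem_parabolic {J : Set G} (hJ : J ⊆ P.S) {s : P.S}
    (hs : (s : G) ∈ P.parabolic J) : (s : G) ∈ J := by
  obtain ⟨L, hL, hLJ, hg⟩ := (mem_parabolic hJ).1 hs
  have e := cell_inj hg (gen_mem_cell s)
  have hlen : L.length = 1 := by rw [← hL, e, len_gen_eq_one]
  obtain ⟨r, rfl⟩ := List.length_eq_one_iff.1 hlen
  simp only [wprod_cons, wprod_nil, mul_one] at e
  rw [← gen_injective e]
  exact hLJ r List.mem_cons_self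

/-- Overgroups of `B` are parabolic. -/
theorem eq_parabolic_of_le {M : Subgroup G} (hM : P.B ≤ M) :
    M = P.parabolic (P.S ∩ (M : Set G)) := by
  refine le_antisymm (fun g hg => ?_)
    (sup_le hM ((Subgroup.closure_le _).2 fun s hs => hs.2))
  obtain ⟨w, hw⟩ := exists_cell (P := P) g
  obtain ⟨L, hL, rfl, -⟩ := gens.exists_red w
  exact (mem_parabolic Set.inter_subset_left).2
    ⟨L, hL, fun s hs => ⟨s.2, letters_mem_of_mem hL hw hM hg s hs⟩, hw⟩

end CfsgLib.BN
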