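import Mathlib

/-!
Two symmetric matrices with quadratic and braid relations and vanishing traces of the alternating
products: the trace identity behind the theorem of Feit and Higman.
-/

set_option autoImplicit false

open Matrix Finset
open scoped ComplexOrder

namespace CfsgLib.FeitHigman

variable {X : Type*} [Fintype X] [DecidableEq X]

/-- The data of a generalized polygon on the matrices of its two adjacency relations. -/
structure Data (n : ℕ) (qa qb : ℂ) (A B : Matrix X X ℂ) : Prop where
  five : 5 ≤ n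
  sqA : A * A = (qa - 1) • A + qa • 1
  sqB : B * B = (qb - 1) • B + qb • 1
  symmA : Aᵀ = A
  symmB : Bᵀ = B
  hermA : Aᴴ = A
  hermB : Bᴴ = B
  trA : A.trace = 0
  trB : B.trace = 0
  trM : ∀ r, 1 ≤ r → r < n → ((A * B) ^ r).trace = 0
  braidEven : ∀ m, n = 2 * m → (A * B) ^ m = (B * A) ^ m
  braidOdd : ∀ m, n = 2 * m + 1 → (A * B) ^ m * A = (B * A) ^ m * B

/-- The recursion of the powers of a matrix with a central quadratic equation. -/
noncomputable def chP (Q : ℂ) : ℕ → Polynomial ℂ
  | 0 => 0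
  | 1 => 1
  | k + 2 => Polynomial.X * chP Q (k + 1) - Polynomial.C Q * chP Q k

lemma chP_cassini (Q : ℂ) : ∀ k : ℕ, chP Q (k + 1) ^ 2
    - Polynomial.X * chP Q (k + 1) * chP Q k + Polynomial.C Q * chP Q k ^ 2 = Polynomial.C Q ^ k
  | 0 => by simp [chP]
  | k + 1 => by
    rw [pow_succ' (Polynomial.C Q), ← chP_cassini Q k, chP]
    ring

/-- The central element. -/
noncomputable def zed (qa qb : ℂ) (A B : Matrix X X ℂ) : Matrix X X ℂ :=
  A * B + B * A - (qa - 1) • B - (qb - 1) • A + ((qa - 1) * (qb - 1)) • 1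

/-- The quadratic polynomial of the square of the commutator. -/
noncomputable def quad (qa qb : ℂ) (A B : Matrix X X ℂ) : Matrix X X ℂ :=
  zed qa qb A B * zed qa qb A B - ((qa - 1) * (qb - 1)) • zed qa qb A B
    - ((qa * qb + 1) * (qa + qb)) • 1

/-- The adjoint factor of the product. -/
noncomputable def dual (qa qb : ℂ) (A B : Matrix X X ℂ) : Matrix X X ℂ :=
  (B - (qb - 1) • 1) * (A - (qa - 1) • 1)

namespace Data

variable {n : ℕ} {qa qb : ℂ} {A B : Matrix X X ℂ} (d : Data n qa qb A B)
include d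

lemma sqA' (x : Matrix X X ℂ) : A * (A * x) = (qa - 1) • (A * x) + qa • x := by
  rw [← mul_assoc, d.sqA, add_mul, smul_mul_assoc, smul_mul_assoc, one_mul]

lemma sqB' (x : Matrix X X ℂ) : B * (B * x) = (qb - 1) • (B * x) + qb • x := by
  rw [← mul_assoc, d.sqB, add_mul, smul_mul_assoc, smul_mul_assoc, one_mul]

lemma commute_zed_A : A * zed qa qb A B = zed qa qb A B * A := by
  simp only [zed, mul_add, add_mul, mul_sub, sub_mul, smul_mul_assoc, mul_smul_comm, smul_add,
    smul_sub, smul_smul, mul_assoc, d.sqA, d.sqB, d.sqA', d.sqB', one_mul, mul_one]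
  module

lemma commute_zed_B : B * zed qa qb A B = zed qa qb A B * B := by
  simp only [zed, mul_add, add_mul, mul_sub, sub_mul, smul_mul_assoc, mul_smul_comm, smul_add,
    smul_sub, smul_smul, mul_assoc, d.sqA, d.sqB, d.sqA', d.sqB', one_mul, mul_one]
  module

lemma comm_sq : (A * B - B * A) * (A * B - B * A) = quad qa qb A B := by
  simp only [quad, zed, mul_add, add_mul, mul_sub, sub_mul, smul_mul_assoc, mul_smul_comm, smul_add,
    smul_sub, smul_smul, mul_assoc, d.sqA, d.sqB, d.sqA', d.sqB', one_mul, mul_one]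
  module

lemma comm_mul : (A * B - B * A) * (A * B) =
    (A - (qa - 1) • 1) * (B - (qb - 1) • 1) * (A * B - B * A) := by
  simp only [mul_add, add_mul, mul_sub, sub_mul, smul_mul_assoc, mul_smul_comm, smul_add,
    smul_sub, smul_smul, mul_assoc, d.sqA, d.sqB, d.sqA', d.sqB', one_mul, mul_one]
  module

lemma zed_eq : zed qa qb A B = A * B + dual qa qb A B := by
  simp only [zed, dual, mul_add, add_mul, mul_sub, sub_mul, smul_mul_assoc, mul_smul_comm, smul_add,
    smul_sub, smul_smul, one_mul, mul_one]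
  module

lemma mul_dual : A * B * dual qa qb A B = (qa * qb) • 1 := by
  simp only [dual, mul_add, add_mul, mul_sub, sub_mul, smul_mul_assoc, mul_smul_comm, smul_add,
    smul_sub, smul_smul, mul_assoc, d.sqA, d.sqB, d.sqA', d.sqB', one_mul, mul_one]
  module

lemma dual_mul : dual qa qb A B * (A * B) = (qa * qb) • 1 := by
  simp only [dual, mul_add, add_mul, mul_sub, sub_mul, smul_mul_assoc, mul_smul_comm, smul_add,
    smul_sub, smul_smul, mul_assoc, d.sqA, d.sqB, d.sqA', d.sqB', one_mul, mul_one]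
  module

lemma zed_symm : (zed qa qb A B)ᵀ = zed qa qb A B := by
  simp only [zed, transpose_add, transpose_sub, transpose_smul, transpose_mul, transpose_one,
    d.symmA, d.symmB]
  module

lemma quad_symm : (quad qa qb A B)ᵀ = quad qa qb A B := by
  simp only [quad, transpose_sub, transpose_smul, transpose_mul, transpose_one, d.zed_symm]

lemma dual_transpose : (dual qa qb A B)ᵀ = (A - (qa - 1) • 1) * (B - (qb - 1) • 1) := by
  simp only [dual, transpose_mul, transpose_sub, transpose_smul, transpose_one, d.symmA, d.symmB]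

lemma commute_quad {R : Matrix X X ℂ} (h : Commute R (zed qa qb A B)) :
    Commute R (quad qa qb A B) :=
  ((h.mul_right h).sub_right (h.smul_right _)).sub_right ((Commute.one_right R).smul_right _)

lemma quad_comm_A : Commute A (quad qa qb A B) := d.commute_quad d.commute_zed_A

lemma quad_comm_B : Commute B (quad qa qb A B) := d.commute_quad d.commute_zed_B

lemma quad_comm_M : Commute (A * B) (quad qa qb A B) := d.quad_comm_A.mul_left d.quad_comm_B

lemma quad_comm_dual : Commute (dual qa qb A B) (quad qa qb A B) :=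
  (d.quad_comm_B.sub_left ((Commute.one_left _).smul_left _)).mul_left
    (d.quad_comm_A.sub_left ((Commute.one_left _).smul_left _))

lemma quad_comm_dual' : Commute (dual qa qb A B)ᵀ (quad qa qb A B) := by
  rw [d.dual_transpose]
  exact (d.quad_comm_A.sub_left ((Commute.one_left _).smul_left _)).mul_left
    (d.quad_comm_B.sub_left ((Commute.one_left _).smul_left _))

/-- The traces against a power and against its dual agree. -/
lemma trace_dual_pow (i : ℕ) : (quad qa qb A B * dual qa qb A B ^ i).trace =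
    (quad qa qb A B * (A * B) ^ i).trace := by
  have hc : (A * B - B * A) * (A * B) ^ i = (dual qa qb A B)ᵀ ^ i * (A * B - B * A) :=
    (SemiconjBy.pow_right (show SemiconjBy (A * B - B * A) (A * B) (dual qa qb A B)ᵀ by
      rw [d.dual_transpose]; exact d.comm_mul) i)
  conv_rhs => rw [← d.comm_sq, mul_assoc, hc, ← mul_assoc, Matrix.trace_mul_comm, ← mul_assoc,
    d.comm_sq]
  rw [← Matrix.trace_transpose, transpose_mul, d.quad_symm, transpose_pow,
    (d.quad_comm_dual'.pow_left i).eq]

lemma trace_dual_one : (dual qa qb A B).trace = ((qa - 1) * (qb - 1)) * Fintype.card X := by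
  have e : dual qa qb A B = B * A - (qa - 1) • B - (qb - 1) • A + ((qa - 1) * (qb - 1)) • 1 := by
    simp only [dual, mul_add, add_mul, mul_sub, sub_mul, smul_mul_assoc, mul_smul_comm, smul_add,
      smul_sub, smul_smul, one_mul, mul_one]
    module
  have h1 := d.trM 1 le_rfl (by linarith [d.five])
  rw [pow_one, Matrix.trace_mul_comm] at h1
  rw [e, trace_add, trace_sub, trace_sub, trace_smul, trace_smul, trace_smul, trace_one, h1, d.trA,
    d.trB]
  simp

/-- Multiplication of the quadratic polynomial by a power of the product. -/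
lemma quad_mul_pow_add (i : ℕ) : quad qa qb A B * (A * B) ^ (i + 2) =
    (A * B) ^ (i + 4) - ((qa - 1) * (qb - 1)) • (A * B) ^ (i + 3)
      + (2 * (qa * qb) - (qa * qb + 1) * (qa + qb)) • (A * B) ^ (i + 2)
      - ((qa - 1) * (qb - 1) * (qa * qb)) • (A * B) ^ (i + 1)
      + ((qa * qb) * (qa * qb)) • (A * B) ^ i := by
  have hz : ∀ k : ℕ, zed qa qb A B * (A * B) ^ (k + 1) =
      (A * B) ^ (k + 2) + (qa * qb) • (A * B) ^ k := fun k => by
    rw [d.zed_eq, add_mul, ← pow_succ', pow_succ' _ k, ← mul_assoc, d.dual_mul, smul_mul_assoc,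
      one_mul]
  simp only [quad, sub_mul, smul_mul_assoc, one_mul, mul_assoc, hz, mul_add, mul_smul_comm,
    smul_add, smul_smul]
  module

lemma trace_quad_zero :
    (quad qa qb A B).trace = -(2 * (qa * qb)) * Fintype.card X := by
  have h1 := d.trM 1 le_rfl (by linarith [d.five])
  have h2 := d.trM 2 (by norm_num) (by linarith [d.five])
  rw [pow_one] at h1
  rw [pow_two] at h2
  have h3 : (B * A * (B * A)).trace = 0 := by
    rw [mul_assoc, Matrix.trace_mul_comm, show A * (B * A) * B = A * B * (A * B) by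
      simp only [mul_assoc], h2]
  have h4 : (A * B * (B * A)).trace = (qa * qb) * Fintype.card X := by
    rw [show A * B * (B * A) = A * (B * B * A) by simp only [mul_assoc], Matrix.trace_mul_comm,
      mul_assoc, d.sqA, d.sqB]
    simp only [mul_add, add_mul, smul_mul_assoc, mul_smul_comm, one_mul, mul_one, smul_add,
      smul_smul, trace_add, trace_smul, trace_one, d.trA, d.trB, smul_eq_mul]
    rw [Matrix.trace_mul_comm B A, h1]
    ring
  have h5 : (B * A * (A * B)).trace = (qa * qb) * Fintype.card X := by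
    rw [Matrix.trace_mul_comm]; exact h4
  rw [← d.comm_sq, sub_mul, mul_sub, mul_sub, trace_sub, trace_sub, trace_sub, h2, h3, h4, h5]
  ring

lemma trace_quad_one : (quad qa qb A B * (A * B)).trace = 0 := by
  have e : quad qa qb A B * (A * B) = (A * B) ^ 3
      - ((qa - 1) * (qb - 1)) • (A * B) ^ 2
      + (2 * (qa * qb) - (qa * qb + 1) * (qa + qb)) • (A * B)
      + (qa * qb) • dual qa qb A B - ((qa - 1) * (qb - 1) * (qa * qb)) • 1 := by
    have hz : zed qa qb A B * (A * B) = (A * B) ^ 2 + (qa * qb) • 1 := by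
      rw [d.zed_eq, add_mul, d.dual_mul, pow_two]
    have hz2 : zed qa qb A B * (A * B) ^ 2 = (A * B) ^ 3 + (qa * qb) • (A * B) := by
      rw [d.zed_eq, add_mul, ← pow_succ', pow_two, ← mul_assoc, d.dual_mul, smul_mul_assoc, one_mul]
    simp only [quad, sub_mul, smul_mul_assoc, one_mul, mul_assoc (zed qa qb A B), hz, mul_add,
      mul_smul_comm, mul_one, hz2, smul_add, smul_smul, smul_sub]
    rw [d.zed_eq]
    module
  have h1 := d.trM 1 le_rfl (by linarith [d.five])
  rw [pow_one] at h1
  rw [e, trace_sub, trace_add, trace_add, trace_sub, trace_smul, trace_smul, trace_smul, trace_smul,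
    trace_one, d.trM 3 (by norm_num) (by linarith [d.five]),
    d.trM 2 (by norm_num) (by linarith [d.five]), h1, d.trace_dual_one]
  simp only [smul_eq_mul]
  ring

lemma trace_quad_two :
    (quad qa qb A B * (A * B) ^ 2).trace = (qa * qb) * (qa * qb) * Fintype.card X := by
  rw [show (2 : ℕ) = 0 + 2 from rfl, d.quad_mul_pow_add 0]
  simp only [trace_add, trace_sub, trace_smul, smul_eq_mul, zero_add, pow_zero, trace_one]
  rw [d.trM 1 le_rfl (by linarith [d.five]), d.trM 2 (by norm_num) (by linarith [d.five]),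
    d.trM 3 (by norm_num) (by linarith [d.five]), d.trM 4 (by norm_num) (by linarith [d.five])]
  ring

lemma trace_quad_mid {i : ℕ} (h3 : 3 ≤ i) (hn : i + 2 < n) :
    (quad qa qb A B * (A * B) ^ i).trace = 0 := by
  obtain ⟨k, rfl⟩ := Nat.exists_eq_add_of_le h3
  rw [show 3 + k = (k + 1) + 2 by omega, d.quad_mul_pow_add]
  simp only [trace_add, trace_sub, trace_smul]
  rw [d.trM (k + 1 + 4) (by omega) (by omega), d.trM (k + 1 + 3) (by omega) (by omega),
    d.trM (k + 1 + 2) (by omega) (by omega), d.trM (k + 1 + 1) (by omega) (by omega),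
    d.trM (k + 1) (by omega) (by omega)]
  simp

lemma unit_A (ha : qa ≠ 0) : IsUnit A :=
  (Commute.isUnit_mul_iff (b := A - (qa - 1) • 1)
    ((Commute.refl A).sub_right ((Commute.one_right A).smul_right _))).1
    (by
      rw [mul_sub, mul_smul_comm, mul_one, d.sqA, add_sub_cancel_left]
      exact (isUnit_one.smul (Units.mk0 qa ha))) |>.1

lemma unit_B (hb : qb ≠ 0) : IsUnit B :=
  (Commute.isUnit_mul_iff (b := B - (qb - 1) • 1)
    ((Commute.refl B).sub_right ((Commute.one_right B).smul_right _))).1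
    (by
      rw [mul_sub, mul_smul_comm, mul_one, d.sqB, add_sub_cancel_left]
      exact (isUnit_one.smul (Units.mk0 qb hb))) |>.1

lemma pow_eq_chP (k : ℕ) : (A * B) ^ (k + 1) =
    Polynomial.aeval (zed qa qb A B) (chP (qa * qb) (k + 1)) * (A * B)
      - (qa * qb) • Polynomial.aeval (zed qa qb A B) (chP (qa * qb) k) := by
  induction k with
  | zero => simp [chP]
  | succ k ih =>
    have e : A * B * (A * B) = zed qa qb A B * (A * B) - (qa * qb) • 1 := by
      rw [d.zed_eq, add_mul, d.dual_mul]; abel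
    rw [pow_succ, ih, sub_mul, mul_assoc, e, chP, map_sub, map_mul, map_mul, Polynomial.aeval_X,
      Polynomial.aeval_C, sub_mul, mul_sub, smul_mul_assoc, mul_smul_comm, mul_one,
      ← Algebra.smul_def, smul_mul_assoc, ← mul_assoc (Polynomial.aeval _ _)]
    rw [show Polynomial.aeval (zed qa qb A B) (chP (qa * qb) (k + 1)) * zed qa qb A B =
      zed qa qb A B * Polynomial.aeval (zed qa qb A B) (chP (qa * qb) (k + 1)) by
      conv_lhs => arg 2; rw [← Polynomial.aeval_X (R := ℂ) (zed qa qb A B)]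
      conv_rhs => arg 1; rw [← Polynomial.aeval_X (R := ℂ) (zed qa qb A B)]
      rw [← map_mul, ← map_mul, mul_comm]]
    abel

lemma chP_comm (k : ℕ) :
    Commute A (Polynomial.aeval (zed qa qb A B) (chP (qa * qb) k)) := by
  induction chP (qa * qb) k using Polynomial.induction_on with
  | C a => rw [Polynomial.aeval_C]; exact Algebra.commute_algebraMap_right a A
  | add p q hp hq => rw [map_add]; exact hp.add_right hq
  | monomial j a _ =>
    rw [map_mul, map_pow, Polynomial.aeval_C, Polynomial.aeval_X]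
    exact (Algebra.commute_algebraMap_right a A).mul_right
      (Commute.pow_right d.commute_zed_A _)

lemma chP_comm_B (k : ℕ) :
    Commute B (Polynomial.aeval (zed qa qb A B) (chP (qa * qb) k)) := by
  induction chP (qa * qb) k using Polynomial.induction_on with
  | C a => rw [Polynomial.aeval_C]; exact Algebra.commute_algebraMap_right a B
  | add p q hp hq => rw [map_add]; exact hp.add_right hq
  | monomial j a _ =>
    rw [map_mul, map_pow, Polynomial.aeval_C, Polynomial.aeval_X]
    exact (Algebra.commute_algebraMap_right a B).mul_right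
      (Commute.pow_right d.commute_zed_B _)

/-- When a power of the product commutes with `A`, its square on the quadratic polynomial. -/
lemma sq_of_commute (ha : qa ≠ 0) (hb : qb ≠ 0) {k : ℕ} (h : Commute A ((A * B) ^ (k + 1))) :
    (A * B) ^ (k + 1) * (A * B) ^ (k + 1) * quad qa qb A B =
      (qa * qb) ^ (k + 1) • quad qa qb A B := by
  set c₁ := Polynomial.aeval (zed qa qb A B) (chP (qa * qb) (k + 1)) with hc₁
  set c₀ := Polynomial.aeval (zed qa qb A B) (chP (qa * qb) k) with hc₀
  set F := quad qa qb A B with hF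
  have hpow : (A * B) ^ (k + 1) = c₁ * (A * B) - (qa * qb) • c₀ := d.pow_eq_chP k
  have hA1 : Commute A c₁ := d.chP_comm (k + 1)
  have hA0 : Commute A c₀ := d.chP_comm k
  have hB1 : Commute B c₁ := d.chP_comm_B (k + 1)
  have hc : c₁ * (A * B - B * A) = 0 := by
    obtain ⟨u, hu⟩ := d.unit_A ha
    refine u.mul_right_eq_zero.1 (?_ : (u : Matrix X X ℂ) * _ = 0)
    rw [hu]
    have h' := h.eq
    rw [hpow, mul_sub, sub_mul, mul_smul_comm, smul_mul_assoc, hA0.eq, sub_left_inj,
      ← mul_assoc, hA1.eq, mul_assoc c₁ A, mul_assoc c₁ (A * B), ← sub_eq_zero, ← mul_sub] at h'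
    rw [← mul_assoc A, hA1.eq, mul_assoc, mul_sub]
    rw [mul_assoc A B A] at h'
    exact h'
  have hcF : c₁ * F = 0 := by rw [hF, ← d.comm_sq, ← mul_assoc, hc, zero_mul]
  have hFc : F * c₁ = 0 := by
    rw [← hcF]
    have : Commute c₁ (zed qa qb A B) := by
      show c₁ * _ = _ * c₁
      rw [hc₁]
      conv_lhs => arg 2; rw [← Polynomial.aeval_X (R := ℂ) (zed qa qb A B)]
      conv_rhs => arg 1; rw [← Polynomial.aeval_X (R := ℂ) (zed qa qb A B)]
      rw [← map_mul, ← map_mul, mul_comm]
    exact (d.commute_quad this).eq.symm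
  have hMc : (A * B) * c₁ = c₁ * (A * B) := (hA1.mul_left hB1).eq
  have hPF : (A * B) ^ (k + 1) * F = -((qa * qb) • (c₀ * F)) := by
    rw [hpow, sub_mul, smul_mul_assoc, ← hMc, mul_assoc, hcF, mul_zero, zero_sub]
  have hcas : c₁ * c₁ - zed qa qb A B * c₁ * c₀ + (qa * qb) • (c₀ * c₀) =
      (qa * qb) ^ k • (1 : Matrix X X ℂ) := by
    have := congrArg (Polynomial.aeval (zed qa qb A B)) (chP_cassini (qa * qb) k)
    simp only [map_add, map_sub, map_mul, map_pow, Polynomial.aeval_X, Polynomial.aeval_C,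
      ← hc₁, ← hc₀] at this
    simp only [Algebra.algebraMap_eq_smul_one, smul_mul_assoc, mul_smul_comm, one_mul, pow_two,
      smul_pow, one_pow, smul_smul, mul_pow] at this
    rw [mul_comm qa qb, mul_pow]
    exact this
  have hc10 : c₁ * c₀ * F = 0 := by
    rw [hc₁, hc₀, ← map_mul, mul_comm, map_mul, mul_assoc, ← hc₁, hcF, mul_zero]
  have h2 := congrArg (· * F) hcas
  simp only [add_mul, sub_mul, mul_assoc (zed qa qb A B), smul_mul_assoc, one_mul, hc10, mul_zero,
    sub_zero] at h2
  rw [mul_assoc c₁, hcF, mul_zero, zero_add] at h2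
  have hc0F : Commute c₀ F := by
    have : Commute c₀ (zed qa qb A B) := by
      show c₀ * _ = _ * c₀
      rw [hc₀]
      conv_lhs => arg 2; rw [← Polynomial.aeval_X (R := ℂ) (zed qa qb A B)]
      conv_rhs => arg 1; rw [← Polynomial.aeval_X (R := ℂ) (zed qa qb A B)]
      rw [← map_mul, ← map_mul, mul_comm]
    exact d.commute_quad this
  rw [mul_assoc, hPF, mul_neg, mul_smul_comm, hc0F.eq, ← mul_assoc, hPF, neg_mul, smul_neg,
    neg_neg, smul_mul_assoc, mul_assoc c₀ F c₀, ← hc0F.eq, ← mul_assoc, h2, smul_smul,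
    ← pow_succ']

/-- For odd `n` the two parameters agree. -/
lemma eq_of_odd (ha : qa ≠ 0) (hb : qb ≠ 0) (hX : Fintype.card X ≠ 0) {m : ℕ}
    (hm : n = 2 * m + 1) : qa = qb := by
  set D := (A * B) ^ m * A with hD
  have hDu : IsUnit D := (((d.unit_A ha).mul (d.unit_B hb)).pow m).mul (d.unit_A ha)
  have h1 : D * A = B * D := by
    conv_lhs => rw [hD, d.braidOdd m hm, mul_assoc, ← pow_succ]
    rw [hD, ← mul_assoc, show B * (A * B) ^ m = (B * A) ^ m * B from
      (SemiconjBy.pow_right (show SemiconjBy B (A * B) (B * A) by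
        show _ = _; rw [mul_assoc]) m), mul_assoc, ← pow_succ]
  obtain ⟨u, hu⟩ := hDu
  have h2 : B * B * D = ((qa - 1) • B + qa • 1) * D := by
    rw [mul_assoc, ← h1, ← mul_assoc, ← h1, mul_assoc, d.sqA, mul_add, mul_smul_comm, mul_smul_comm,
      mul_one, h1, add_mul, smul_mul_assoc, smul_mul_assoc, one_mul]
  have h3 : B * B = (qa - 1) • B + qa • 1 := by
    rw [← hu] at h2
    exact (Units.mul_left_inj u).1 h2
  have h4 := congrArg Matrix.trace (h3.symm.trans d.sqB)
  simp only [trace_add, trace_smul, d.trB, trace_one, smul_eq_mul, mul_zero, zero_add] at h4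
  exact mul_right_cancel₀ (Nat.cast_ne_zero.2 hX) h4

lemma rho_even (ha : qa ≠ 0) (hb : qb ≠ 0) {m : ℕ} (hm : n = 2 * m) :
    quad qa qb A B * (A * B) ^ n = (qa * qb) ^ m • quad qa qb A B := by
  obtain ⟨k, rfl⟩ := Nat.exists_eq_succ_of_ne_zero (n := m) (by have := d.five; omega)
  have h : Commute A ((A * B) ^ (k + 1)) := by
    show _ = _
    conv_lhs => rw [d.braidEven _ hm]
    exact SemiconjBy.pow_right (show SemiconjBy A (B * A) (A * B) by
      show _ = _; rw [← mul_assoc]) _
  rw [← (d.quad_comm_M.pow_left n).eq, hm, two_mul, pow_add]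
  exact d.sq_of_commute ha hb h

lemma rho_odd (ha : qa ≠ 0) (hq : qa = qb) (hpos : 0 < qa) {m : ℕ} (hm : n = 2 * m + 1) :
    quad qa qb A B * (A * B) ^ n = qa ^ n • quad qa qb A B := by
  have hb : qb ≠ 0 := hq ▸ ha
  set D := (A * B) ^ m * A with hD
  set M := A * B with hM
  have hBM : B * M ^ m = (B * A) ^ m * B :=
    SemiconjBy.pow_right (show SemiconjBy B (A * B) (B * A) by show _ = _; rw [mul_assoc]) m
  have hAM : A * (B * A) ^ m = M ^ m * A :=
    SemiconjBy.pow_right (show SemiconjBy A (B * A) (A * B) by show _ = _; rw [← mul_assoc]) m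
  have h1 : D * A = B * D := by
    conv_lhs => rw [hD, d.braidOdd m hm, mul_assoc, ← pow_succ]
    rw [hD, ← mul_assoc, hBM, mul_assoc, ← pow_succ]
  have h1' : D * B = A * D := by
    conv_rhs => rw [hD, d.braidOdd m hm, ← mul_assoc, hAM]
  have hDD : D * D = M ^ n := by
    calc D * D = M ^ m * A * ((B * A) ^ m * B) := by
          conv_lhs => arg 2; rw [hD, d.braidOdd m hm]
      _ = M ^ m * (A * (B * A) ^ m) * B := by simp only [mul_assoc]
      _ = M ^ n := by
          rw [hAM, hm, two_mul, pow_succ, pow_add, hM]; simp only [mul_assoc]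
  have hDh : Dᴴ = D := by
    rw [hD, conjTranspose_mul, conjTranspose_pow, hM, conjTranspose_mul, d.hermA, d.hermB, hAM]
  obtain ⟨k, rfl⟩ : ∃ k, n = k + 1 := ⟨2 * m, hm⟩
  have hA : Commute A (M ^ (k + 1)) := by
    show _ = _
    rw [← hDD, ← mul_assoc, ← h1', mul_assoc, ← h1, ← mul_assoc]
  have hsq := d.sq_of_commute ha hb hA
  rw [← hM] at hsq
  set F := quad qa qb A B with hF
  set r := qa ^ (k + 1) with hr
  set Y := M ^ (k + 1) * F - r • F with hY
  have hY0 : (D * D) * Y + r • Y = 0 := by
    rw [hDD, hY, mul_sub, ← mul_assoc, hsq, mul_smul_comm, smul_sub, smul_smul, ← hq, mul_pow,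
      ← hr]
    abel
  have hrpos : 0 < r := pow_pos hpos _
  have hY1 : ((D * Y)ᴴ * (D * Y)).trace + r * (Yᴴ * Y).trace = 0 := by
    have h := congrArg (fun W => (Yᴴ * W).trace) hY0
    simp only [mul_add, mul_smul_comm, trace_add, trace_smul, smul_eq_mul, mul_zero,
      trace_zero] at h
    rw [conjTranspose_mul, hDh, mul_assoc, ← mul_assoc D D Y]
    exact h
  have hn1 : (0 : ℂ) ≤ ((D * Y)ᴴ * (D * Y)).trace :=
    (Matrix.posSemidef_conjTranspose_mul_self _).trace_nonneg
  have hn2 : (0 : ℂ) ≤ (Yᴴ * Y).trace :=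
    (Matrix.posSemidef_conjTranspose_mul_self _).trace_nonneg
  have h0 := ((add_eq_zero_iff_of_nonneg hn1 (mul_nonneg hrpos.le hn2)).1 hY1).2
  rcases mul_eq_zero.1 h0 with h | h
  · exact absurd h hrpos.ne'
  · rw [Matrix.trace_conjTranspose_mul_self_eq_zero_iff, hY, sub_eq_zero,
      (d.quad_comm_M.pow_left (k + 1)).eq] at h
    exact h

lemma trace_pred {ρ : ℂ} (ha : qa ≠ 0) (hb : qb ≠ 0)
    (hρ : quad qa qb A B * (A * B) ^ n = ρ • quad qa qb A B) :
    (quad qa qb A B * (A * B) ^ (n - 1)).trace = 0 ∧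
      (quad qa qb A B * (A * B) ^ (n - 2)).trace = ρ * Fintype.card X := by
  set F := quad qa qb A B with hF
  have h5 := d.five
  have e1 : (qa * qb) • (F * (A * B) ^ (n - 1)) = ρ • (F * dual qa qb A B) := by
    rw [← smul_mul_assoc ρ, ← hρ, mul_assoc F ((A * B) ^ n),
      show n = (n - 1) + 1 by omega, pow_succ, Nat.add_sub_cancel,
      mul_assoc ((A * B) ^ (n - 1)) (A * B), d.mul_dual, mul_smul_comm, mul_one, mul_smul_comm]
  have e2 : (qa * qb) • ((qa * qb) • (F * (A * B) ^ (n - 2))) =
      ρ • (F * dual qa qb A B ^ 2) := by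
    have h : (qa * qb) • (F * (A * B) ^ (n - 2)) = F * (A * B) ^ (n - 1) * dual qa qb A B := by
      rw [mul_assoc F ((A * B) ^ (n - 1)), show n - 1 = (n - 2) + 1 by omega, pow_succ,
        mul_assoc ((A * B) ^ (n - 2)) (A * B), d.mul_dual, mul_smul_comm, mul_one, mul_smul_comm]
    rw [h, ← smul_mul_assoc, e1, smul_mul_assoc, pow_two, mul_assoc]
  have hQ : qa * qb ≠ 0 := mul_ne_zero ha hb
  constructor
  · have := congrArg Matrix.trace e1
    rw [trace_smul, trace_smul, ← pow_one (dual qa qb A B), d.trace_dual_pow, pow_one,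
      d.trace_quad_one, smul_zero, smul_eq_mul, mul_eq_zero] at this
    exact this.resolve_left hQ
  · have := congrArg Matrix.trace e2
    rw [trace_smul, trace_smul, trace_smul, d.trace_dual_pow, d.trace_quad_two] at this
    simp only [smul_eq_mul] at this
    refine mul_left_cancel₀ (mul_ne_zero hQ hQ) ?_
    rw [mul_assoc (qa * qb), this]
    ring

/-- The trace identity: a multiplicity for every `n`th root of `ρ`. -/
theorem exists_mult {ρ l : ℂ} (ha : qa ≠ 0) (hb : qb ≠ 0)
    (hρ : quad qa qb A B * (A * B) ^ n = ρ • quad qa qb A B) (hl : l ≠ 0) (hln : l ^ n = ρ)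
    (hF : (l + qa * qb / l) ^ 2 - (qa - 1) * (qb - 1) * (l + qa * qb / l)
      - (qa * qb + 1) * (qa + qb) ≠ 0) :
    ∃ κ : ℕ, (n : ℂ) * κ * ((l + qa * qb / l) ^ 2 - (qa - 1) * (qb - 1) * (l + qa * qb / l)
      - (qa * qb + 1) * (qa + qb)) =
        Fintype.card X * ((l + qa * qb / l) ^ 2 - 4 * (qa * qb)) := by
  have h5 := d.five
  set F := quad qa qb A B with hFdef
  set M := A * B with hM
  set z := l + qa * qb / l with hz
  set c := z ^ 2 - (qa - 1) * (qb - 1) * z - (qa * qb + 1) * (qa + qb) with hc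
  set U := l⁻¹ • M with hU
  set Φ := ∑ i ∈ range n, U ^ i with hΦ
  have hUn : F * U ^ n = F := by
    rw [hU, smul_pow, mul_smul_comm, hρ, smul_smul, ← hln, ← mul_pow, inv_mul_cancel₀ hl, one_pow,
      one_smul]
  have hPU : F * Φ * U = F * Φ := by
    have := geom_sum_mul U n
    rw [← hΦ, mul_sub, mul_one] at this
    have h2 := congrArg (F * ·) this
    simp only [mul_sub, mul_one, hUn, sub_self, ← mul_assoc, sub_eq_zero] at h2
    exact h2
  have hPM : F * Φ * M = l • (F * Φ) := by
    conv_rhs => rw [← hPU, hU, mul_smul_comm, smul_smul, mul_inv_cancel₀ hl, one_smul]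
  have hPD : F * Φ * dual qa qb A B = (qa * qb / l) • (F * Φ) := by
    have : l • (F * Φ * dual qa qb A B) = (qa * qb) • (F * Φ) := by
      rw [← smul_mul_assoc, ← hPM, mul_assoc _ M, hM, d.mul_dual, mul_smul_comm, mul_one]
    rw [div_eq_inv_mul, mul_smul, ← this, smul_smul, inv_mul_cancel₀ hl, one_smul]
  have hPZ : F * Φ * zed qa qb A B = z • (F * Φ) := by
    rw [d.zed_eq, mul_add, hPM, hPD, hz, add_smul]
  have hPF : F * Φ * F = c • (F * Φ) := by
    conv_lhs => arg 2; rw [hFdef, quad]
    rw [mul_sub, mul_sub, ← mul_assoc, hPZ, smul_mul_assoc, hPZ, mul_smul_comm, hPZ, mul_smul_comm,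
      mul_one, smul_smul, smul_smul, ← sub_smul, ← sub_smul, hc, pow_two]
  have hPP : F * Φ * Φ = (n : ℂ) • (F * Φ) := by
    have : ∀ i, F * Φ * U ^ i = F * Φ := by
      intro i
      induction i with
      | zero => rw [pow_zero, mul_one]
      | succ i ih => rw [pow_succ, ← mul_assoc, ih, hPU]
    conv_lhs => arg 2; rw [hΦ]
    rw [mul_sum, sum_congr rfl fun i _ => this i, sum_const, card_range, Nat.cast_smul_eq_nsmul]
  have hidem : IsIdempotentElem (((n : ℂ) * c)⁻¹ • (F * Φ)) := by
    show _ * _ = _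
    have hn0 : (n : ℂ) ≠ 0 := Nat.cast_ne_zero.2 (by omega)
    rw [smul_mul_smul_comm, ← mul_assoc (F * Φ), hPF, smul_mul_assoc, hPP, smul_smul, smul_smul]
    congr 1
    field_simp
  set E := ((n : ℂ) * c)⁻¹ • (F * Φ) with hE
  refine ⟨Module.finrank ℂ (LinearMap.range (Matrix.toLin' E)), ?_⟩
  have hproj : LinearMap.IsProj (LinearMap.range (Matrix.toLin' E)) (Matrix.toLin' E) := by
    rw [LinearMap.isProj_range_iff_isIdempotentElem]
    show _ * _ = _
    rw [Module.End.mul_eq_comp, ← Matrix.toLin'_mul, hidem.eq]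
  have htr := hproj.trace
  rw [Matrix.trace_toLin'_eq] at htr
  rw [← htr, hE, trace_smul, smul_eq_mul]
  have hn0 : (n : ℂ) ≠ 0 := Nat.cast_ne_zero.2 (by omega)
  have hS : (F * Φ).trace = Fintype.card X * (z ^ 2 - 4 * (qa * qb)) := by
    obtain ⟨hp1, hp2⟩ := d.trace_pred ha hb hρ
    have hterm : ∀ i ∈ range n, (F * U ^ i).trace =
        (if i = 0 then -(2 * (qa * qb)) * Fintype.card X else (0 : ℂ))
        + (if i = 2 then l⁻¹ ^ 2 * ((qa * qb) * (qa * qb) * Fintype.card X) else 0)
        + (if i = n - 2 then l⁻¹ ^ (n - 2) * (ρ * Fintype.card X) else 0) := by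
      intro i hi
      rw [mem_range] at hi
      rw [hU, smul_pow, mul_smul_comm, trace_smul, smul_eq_mul]
      by_cases h0 : i = 0
      · subst h0
        rw [pow_zero, pow_zero, mul_one, one_mul, d.trace_quad_zero, if_pos rfl,
          if_neg (by omega), if_neg (by omega)]
        simp
      by_cases h2 : i = 2
      · subst h2
        rw [d.trace_quad_two, if_neg h0, if_pos rfl, if_neg (by omega)]
        simp
      by_cases h3 : i = n - 2
      · subst h3
        rw [hp2, if_neg h0, if_neg h2, if_pos rfl]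
        simp
      rw [if_neg h0, if_neg h2, if_neg h3]
      have : (F * M ^ i).trace = 0 := by
        by_cases h1 : i = 1
        · subst h1; rw [pow_one]; exact d.trace_quad_one
        by_cases h4 : i = n - 1
        · subst h4; exact hp1
        exact d.trace_quad_mid (by omega) (by omega)
      rw [this]; simp
    rw [hΦ, mul_sum, trace_sum, sum_congr rfl hterm, sum_add_distrib, sum_add_distrib,
      sum_ite_eq', sum_ite_eq', sum_ite_eq', if_pos (mem_range.2 (by omega)),
      if_pos (mem_range.2 (by omega)), if_pos (mem_range.2 (by omega))]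
    have e : l⁻¹ ^ (n - 2) * ρ = l ^ 2 := by
      rw [← hln, show l ^ n = l ^ (n - 2) * l ^ 2 by rw [← pow_add]; congr 1; omega, ← mul_assoc,
        ← mul_pow, inv_mul_cancel₀ hl, one_pow, one_mul]
    rw [← mul_assoc _ ρ, e, hz]
    field_simp
    ring
  rw [hS]
  field_simp

end Data

end CfsgLib.FeitHigman
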