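import Mathlib

/-!
The arithmetic behind the theorem of Feit and Higman: rationality of the multiplicities.
-/

set_option autoImplicit false

open Real

namespace CfsgLib.FeitHigman

/-- The eigenvalue of the central element attached to `j`. -/
noncomputable def eig (n qa qb j : ℕ) : ℝ :=
  2 * √((qa : ℝ) * qb) * cos (2 * π * j / n)

/-- The equation of a multiplicity. -/
def Eqn (n qa qb N : ℕ) (z : ℝ) : Prop :=
  ∃ κ : ℕ, (n : ℝ) * κ * (z ^ 2 - ((qa : ℝ) - 1) * ((qb : ℝ) - 1) * z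
    - ((qa : ℝ) * qb + 1) * ((qa : ℝ) + qb)) = (N : ℝ) * (z ^ 2 - 4 * ((qa : ℝ) * qb))

lemma eq_zero_of_sqrt {p : ℕ} (hp : p.Prime) {u v : ℚ} (h : (u : ℝ) + v * √p = 0) :
    u = 0 ∧ v = 0 := by
  have hv : v = 0 := by
    by_contra hv
    refine hp.irrational_sqrt ⟨-u / v, ?_⟩
    have : (v : ℝ) ≠ 0 := by exact_mod_cast hv
    push_cast
    rw [div_eq_iff this]
    linarith
  subst hv
  refine ⟨?_, rfl⟩
  simpa using h

lemma sq_rat_ne_prime {p : ℕ} (hp : p.Prime) (r : ℚ) : (r : ℝ) ^ 2 ≠ p := by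
  intro h
  refine hp.irrational_sqrt ⟨|r|, ?_⟩
  rw [← h, sqrt_sq_eq_abs]
  push_cast
  rfl

variable {n qa qb N : ℕ}

/-- A multiplicity gives a quadratic equation with rational coefficients. -/
lemma exists_quad (hn : 0 < n) (ha : 2 ≤ qa) (hb : 2 ≤ qb) (hN : 0 < N) {z : ℝ}
    (hz : z ^ 2 < 4 * ((qa : ℝ) * qb)) (h : Eqn n qa qb N z) :
    ∃ a b : ℚ, b ≠ 0 ∧ ∃ c : ℚ, (a : ℝ) * z ^ 2 + b * z + c = 0 := by
  obtain ⟨κ, h⟩ := h
  have hκ : κ ≠ 0 := by
    rintro rfl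
    simp only [Nat.cast_zero, mul_zero, zero_mul] at h
    have : (0 : ℝ) < N := by exact_mod_cast hN
    nlinarith
  refine ⟨(n : ℚ) * κ - N, -((n : ℚ) * κ * ((qa : ℚ) - 1) * ((qb : ℚ) - 1)), ?_,
    -((n : ℚ) * κ * ((qa : ℚ) * qb + 1) * ((qa : ℚ) + qb)) + 4 * ((qa : ℚ) * qb) * N, ?_⟩
  · have h1 : (2 : ℚ) ≤ qa := by exact_mod_cast ha
    have h2 : (2 : ℚ) ≤ qb := by exact_mod_cast hb
    have h3 : (0 : ℚ) < n := by exact_mod_cast hn
    have h4 : (0 : ℚ) < κ := by exact_mod_cast Nat.pos_of_ne_zero hκ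
    have : 0 < (n : ℚ) * κ * ((qa : ℚ) - 1) * ((qb : ℚ) - 1) := by
      have : (0 : ℚ) < (qa : ℚ) - 1 := by linarith
      have : (0 : ℚ) < (qb : ℚ) - 1 := by linarith
      positivity
    linarith
  · push_cast
    linear_combination h

/-- Solving for the eigenvalue in a quadratic field. -/
lemma exists_coord {a b c : ℚ} (hb : b ≠ 0) {p : ℕ} {r s : ℚ} {z : ℝ}
    (h : (a : ℝ) * z ^ 2 + b * z + c = 0) (hz : z ^ 2 = r + s * √p) :
    ∃ x y : ℚ, z = x + y * √p := by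
  refine ⟨-(a * r + c) / b, -(a * s) / b, ?_⟩
  have hb' : (b : ℝ) ≠ 0 := by exact_mod_cast hb
  rw [hz] at h
  push_cast
  field_simp
  linear_combination h

lemma coord_sq {p : ℕ} (hp : p.Prime) {r s x y : ℚ} {z : ℝ} (h : z = x + y * √p)
    (hz : z ^ 2 = r + s * √p) : x ^ 2 + p * y ^ 2 = r ∧ 2 * x * y = s := by
  have hsq : √(p : ℝ) * √p = p := mul_self_sqrt (by positivity)
  have h0 : ((x ^ 2 + p * y ^ 2 - r : ℚ) : ℝ) + ((2 * x * y - s : ℚ) : ℝ) * √p = 0 := by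
    push_cast
    rw [h] at hz
    linear_combination hz - (y : ℝ) ^ 2 * hsq
  obtain ⟨h1, h2⟩ := eq_zero_of_sqrt hp h0
  exact ⟨by linarith, by linarith⟩

lemma eig_sq (j : ℕ) : eig n qa qb j ^ 2 =
    2 * ((qa : ℝ) * qb) * (1 + cos (2 * (2 * π * j / n))) := by
  rw [eig, mul_pow, mul_pow, sq_sqrt (by positivity), cos_two_mul]
  ring

lemma eig_sq_lt (hn : 0 < n) (ha : 0 < qa) (hb : 0 < qb) {j : ℕ} (hj : 1 ≤ j) (hjn : 2 * j < n) :
    eig n qa qb j ^ 2 < 4 * ((qa : ℝ) * qb) := by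
  have hn' : (0 : ℝ) < n := by exact_mod_cast hn
  have hj' : (1 : ℝ) ≤ j := by exact_mod_cast hj
  have hjn' : 2 * (j : ℝ) < n := by exact_mod_cast hjn
  have hθ0 : 0 < 2 * π * j / n := by positivity
  have hθ1 : 2 * π * j / n < π := by
    rw [div_lt_iff₀ hn']
    nlinarith [pi_pos]
  have h1 := cos_lt_cos_of_nonneg_of_le_pi le_rfl hθ1.le hθ0
  have h2 := cos_lt_cos_of_nonneg_of_le_pi hθ0.le le_rfl hθ1
  rw [cos_zero] at h1
  rw [cos_pi] at h2
  have hQ : (0 : ℝ) < (qa : ℝ) * qb := by positivity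
  rw [eig, mul_pow, mul_pow, sq_sqrt hQ.le]
  nlinarith [mul_pos hQ (mul_pos (sub_pos.2 h1) (sub_pos.2 h2))]

/-- A rational quadratic equation for `2 √Q cos θ` bounds the degree of `exp (2 i θ)`. -/
lemma totient_le (hn : 0 < n) (ha : 0 < qa) (hb : 0 < qb) {a b c : ℚ} (hb0 : b ≠ 0)
    (h : (a : ℝ) * eig n qa qb 1 ^ 2 + b * eig n qa qb 1 + c = 0) :
    Nat.totient (orderOf (Complex.exp (2 * (2 * π / n * Complex.I)))) ≤ 4 := by
  set z := eig n qa qb 1 with hzdef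
  set ζ := Complex.exp (2 * (2 * π / n * Complex.I)) with hζ
  set Q : ℚ := (qa : ℚ) * qb with hQ
  have hQ0 : Q ≠ 0 := by positivity
  set p : Polynomial ℚ :=
    (Polynomial.C (a * Q) * (Polynomial.X + 1) ^ 2 + Polynomial.C c * Polynomial.X) ^ 2
      - Polynomial.C (b ^ 2 * Q) * Polynomial.X * (Polynomial.X + 1) ^ 2 with hp
  have hp0 : p ≠ 0 := by
    intro e
    have e0 := congrArg (Polynomial.eval (0 : ℚ)) e
    have e1 := congrArg (Polynomial.eval (-1 : ℚ)) e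
    have e2 := congrArg (Polynomial.eval (1 : ℚ)) e
    simp only [hp, Polynomial.eval_sub, Polynomial.eval_pow, Polynomial.eval_add,
      Polynomial.eval_mul, Polynomial.eval_C, Polynomial.eval_X, Polynomial.eval_one,
      Polynomial.eval_zero] at e0 e1 e2
    have ha0 : a = 0 := by
      norm_num at e0
      exact e0.resolve_right hQ0
    have hc0 : c = 0 := by
      norm_num at e1
      exact e1
    subst ha0 hc0
    norm_num at e2
    rcases e2 with e2 | e2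
    · exact hb0 e2
    · exact hQ0 e2
  have hζ0 : ζ ≠ 0 := Complex.exp_ne_zero _
  have hz2 : (z : ℂ) ^ 2 * ζ = (Q : ℂ) * (ζ + 1) ^ 2 := by
    have hcos := Complex.two_cos (2 * π / n : ℂ)
    set w := Complex.exp (2 * π / n * Complex.I) with hw
    have hw0 : w ≠ 0 := Complex.exp_ne_zero _
    have hwz : ζ = w ^ 2 := by rw [hζ, hw, sq, ← Complex.exp_add]; ring_nf
    have hwi : Complex.exp (-(2 * π / n) * Complex.I) = w⁻¹ := by
      rw [hw, neg_mul, Complex.exp_neg]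
    rw [hwi] at hcos
    have e : (z : ℂ) ^ 2 = (Q : ℂ) * (w + w⁻¹) ^ 2 := by
      have e1 : z ^ 2 = ((qa : ℝ) * qb) * (2 * cos (2 * π / n)) ^ 2 := by
        rw [hzdef, eig, mul_pow, mul_pow, sq_sqrt (by positivity)]
        push_cast
        ring_nf
      rw [← Complex.ofReal_pow, e1, ← hcos, hQ]
      push_cast
      ring
    rw [e, hwz]
    field_simp
  have hroot : Polynomial.aeval ζ p = 0 := by
    have h' : (a : ℂ) * (z : ℂ) ^ 2 + b * z + c = 0 := by exact_mod_cast h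
    simp only [hp, map_sub, map_pow, map_add, map_mul, map_one, Polynomial.aeval_C,
      Polynomial.aeval_X, eq_ratCast]
    push_cast
    linear_combination (((a : ℂ) * (z : ℂ) ^ 2 + c - b * z) * ζ ^ 2) * h'
      + (-((a : ℂ) ^ 2 * ((z : ℂ) ^ 2 * ζ + (Q : ℂ) * (ζ + 1) ^ 2)) - 2 * a * c * ζ
        + (b : ℂ) ^ 2 * ζ) * hz2
  have hd : 0 < orderOf ζ := by
    refine (IsOfFinOrder.orderOf_pos (isOfFinOrder_iff_pow_eq_one.2 ⟨n, hn, ?_⟩))
    rw [hζ, ← Complex.exp_nat_mul]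
    have : (n : ℂ) ≠ 0 := Nat.cast_ne_zero.2 hn.ne'
    rw [show (n : ℂ) * (2 * (2 * π / n * Complex.I)) = (2 : ℕ) * (2 * π * Complex.I) by
      push_cast; field_simp]
    exact Complex.exp_nat_mul_two_pi_mul_I 2
  rw [← Polynomial.natDegree_cyclotomic (orderOf ζ) ℚ,
    Polynomial.cyclotomic_eq_minpoly_rat (IsPrimitiveRoot.orderOf ζ) hd]
  refine le_trans (Polynomial.natDegree_le_of_dvd (minpoly.dvd ℚ ζ hroot) hp0) ?_
  rw [hp]
  compute_degree

lemma le_twelve {d : ℕ} (hd : 0 < d) (h : d.totient ≤ 4) :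
    d ∈ ({1, 2, 3, 4, 5, 6, 8, 10, 12} : Finset ℕ) := by
  have h120 : d ∣ 120 := by
    refine (Nat.dvd_iff_prime_pow_dvd_dvd _ _).2 fun p k hp hpk => ?_
    have h1 : (p ^ k).totient ≤ 4 :=
      le_trans (Nat.le_of_dvd (Nat.totient_pos.2 hd) (Nat.totient_dvd_of_dvd hpk)) h
    have h2 : p ^ k ≤ 8 := by
      rcases k with _ | k
      · simp
      rw [Nat.totient_prime_pow_succ hp] at h1
      rw [pow_succ]
      have h4 : p ^ k * p ≤ p ^ k * (2 * (p - 1)) :=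
        Nat.mul_le_mul le_rfl (by have := hp.two_le; omega)
      rw [mul_left_comm] at h4
      omega
    have key : ∀ m, m < 9 → m ≠ 0 → Nat.totient m ≤ 4 → m ∣ 120 := by decide +kernel
    exact key _ (by omega) (pow_ne_zero _ hp.ne_zero) h1
  have key : ∀ m, m < 121 → m ∣ 120 → Nat.totient m ≤ 4 →
      m ∈ ({1, 2, 3, 4, 5, 6, 8, 10, 12} : Finset ℕ) := by decide +kernel
  exact key d (by have := Nat.le_of_dvd (by norm_num) h120; omega) h120 h

lemma order_double (hn : 0 < n) :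
    orderOf (Complex.exp (2 * (2 * π / n * Complex.I))) = n / Nat.gcd n 2 := by
  have e : Complex.exp (2 * (2 * π / n * Complex.I)) =
      Complex.exp (2 * π * Complex.I / n) ^ 2 := by
    rw [← Complex.exp_nat_mul]; push_cast; ring_nf
  rw [e, orderOf_pow' _ (by norm_num),
    ← (Complex.isPrimitiveRoot_exp n hn.ne').eq_orderOf]

/-- The only possibilities left by the degree bound. -/
lemma mem_list (hn : 5 ≤ n) (h6 : n ≠ 6) (h8 : n ≠ 8) (ha : 2 ≤ qa) (hb : 2 ≤ qb) (hN : 0 < N)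
    (h : ∀ j, 1 ≤ j → 2 * j < n → Eqn n qa qb N (eig n qa qb j)) :
    n = 5 ∨ n = 10 ∨ n = 12 ∨ n = 16 ∨ n = 20 ∨ n = 24 := by
  obtain ⟨a, b, hb0, c, hq⟩ := exists_quad (by omega) ha hb hN
    (eig_sq_lt (by omega) (by omega) (by omega) le_rfl (by omega)) (h 1 le_rfl (by omega))
  have ht := totient_le (n := n) (by omega) (by omega) (by omega) hb0 hq
  rw [order_double (by omega)] at ht
  have hg : Nat.gcd n 2 = 1 ∨ Nat.gcd n 2 = 2 :=
    (Nat.dvd_prime Nat.prime_two).1 (Nat.gcd_dvd_right n 2)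
  have hdvd := Nat.gcd_dvd_left n 2
  have hd := le_twelve (Nat.div_pos (Nat.le_of_dvd (by omega) hdvd)
    (Nat.gcd_pos_of_pos_right _ two_pos)) ht
  simp only [Finset.mem_insert, Finset.mem_singleton] at hd
  rcases hg with hg | hg
  · rw [hg, Nat.div_one] at hd
    have hodd : n % 2 = 1 := by
      by_contra hc
      have := Nat.dvd_gcd (show 2 ∣ n by omega) dvd_rfl
      rw [hg] at this
      norm_num at this
    omega
  · rw [hg] at hd hdvd
    omega

/-- Two rational eigenvalues in ratio `√3`. -/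
lemma not_twelve (ha : 2 ≤ qa) (hb : 2 ≤ qb) (hN : 0 < N) {j k : ℕ} (hn : 0 < n)
    (hj : 1 ≤ j) (hjn : 2 * j < n) (hk : 1 ≤ k) (hkn : 2 * k < n)
    (hθj : 2 * π * j / n = π / 6) (hθk : 2 * π * k / n = π / 3)
    (h1 : Eqn n qa qb N (eig n qa qb j)) (h2 : Eqn n qa qb N (eig n qa qb k)) : False := by
  have key : ∀ (z : ℝ) (r : ℚ), z ^ 2 < 4 * ((qa : ℝ) * qb) → z ^ 2 = r → Eqn n qa qb N z →
      ∃ q : ℚ, z = q := by
    intro z r hlt hz he
    obtain ⟨a, b, hb0, c, hq⟩ := exists_quad hn ha hb hN hlt he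
    refine ⟨-(a * r + c) / b, ?_⟩
    have hb' : (b : ℝ) ≠ 0 := by exact_mod_cast hb0
    rw [hz] at hq
    push_cast
    field_simp
    linear_combination hq
  have e1 : eig n qa qb j ^ 2 = ((3 * (qa * qb : ℕ) : ℚ) : ℝ) := by
    rw [eig, hθj, cos_pi_div_six, mul_pow, mul_pow, div_pow, sq_sqrt (by positivity),
      sq_sqrt (by norm_num)]
    push_cast
    ring
  have e2 : eig n qa qb k ^ 2 = (((qa * qb : ℕ) : ℚ) : ℝ) := by
    rw [eig, hθk, cos_pi_div_three, mul_pow, mul_pow, sq_sqrt (by positivity)]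
    push_cast
    ring
  obtain ⟨x, hx⟩ := key _ _ (eig_sq_lt hn (by omega) (by omega) hj hjn) e1 h1
  obtain ⟨y, hy⟩ := key _ _ (eig_sq_lt hn (by omega) (by omega) hk hkn) e2 h2
  rw [hx] at e1
  rw [hy] at e2
  refine sq_rat_ne_prime Nat.prime_three (x / y) ?_
  push_cast at e1 e2 ⊢
  have hQ : (0 : ℝ) < (qa : ℝ) * qb := by positivity
  rw [div_pow, e1, e2]
  field_simp

lemma not_sixteen (ha : 2 ≤ qa) (hb : 2 ≤ qb) (hN : 0 < N)
    (h : Eqn 16 qa qb N (eig 16 qa qb 1)) : False := by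
  obtain ⟨a, b, hb0, c, hq⟩ := exists_quad (by norm_num) ha hb hN
    (eig_sq_lt (by norm_num) (by omega) (by omega) le_rfl (by norm_num)) h
  set Q : ℚ := (qa : ℚ) * qb with hQ
  have e : eig 16 qa qb 1 ^ 2 = ((2 * Q : ℚ) : ℝ) + (Q : ℝ) * √(2 : ℕ) := by
    rw [eig_sq, show 2 * (2 * π * ((1 : ℕ) : ℝ) / ((16 : ℕ) : ℝ)) = π / 4 by push_cast; ring,
      cos_pi_div_four, hQ]
    push_cast
    ring
  obtain ⟨x, y, hxy⟩ := exists_coord hb0 hq e
  obtain ⟨h1, h2⟩ := coord_sq Nat.prime_two hxy e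
  have hQ0 : 0 < Q := by positivity
  have hy : y ≠ 0 := by rintro rfl; linarith
  refine sq_rat_ne_prime Nat.prime_two ((x - 2 * y) / y) ?_
  have : ((x - 2 * y) / y) ^ 2 = 2 := by
    field_simp
    push_cast at h1
    linear_combination h1 - 2 * h2
  exact_mod_cast this

lemma not_twenty (ha : 2 ≤ qa) (hb : 2 ≤ qb) (hN : 0 < N)
    (h : Eqn 20 qa qb N (eig 20 qa qb 1)) : False := by
  obtain ⟨a, b, hb0, c, hq⟩ := exists_quad (by norm_num) ha hb hN
    (eig_sq_lt (by norm_num) (by omega) (by omega) le_rfl (by norm_num)) h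
  set Q : ℚ := (qa : ℚ) * qb with hQ
  have e : eig 20 qa qb 1 ^ 2 = ((5 * Q / 2 : ℚ) : ℝ) + ((Q / 2 : ℚ) : ℝ) * √(5 : ℕ) := by
    rw [eig_sq, show 2 * (2 * π * ((1 : ℕ) : ℝ) / ((20 : ℕ) : ℝ)) = π / 5 by push_cast; ring,
      cos_pi_div_five, hQ]
    push_cast
    ring
  obtain ⟨x, y, hxy⟩ := exists_coord hb0 hq e
  obtain ⟨h1, h2⟩ := coord_sq (by norm_num) hxy e
  have hQ0 : 0 < Q := by positivity
  have hy : y ≠ 0 := by rintro rfl; linarith
  refine sq_rat_ne_prime (p := 5) (by norm_num) ((x - 5 * y) / (2 * y)) ?_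
  have : ((x - 5 * y) / (2 * y)) ^ 2 = 5 := by
    field_simp
    push_cast at h1
    linear_combination h1 - 5 * h2
  exact_mod_cast this

lemma not_ten (ha : 2 ≤ qa) (hb : 2 ≤ qb) (hN : 0 < N)
    (h : Eqn 10 qa qb N (eig 10 qa qb 1)) : False := by
  have hlt := eig_sq_lt (n := 10) (qa := qa) (qb := qb) (by norm_num) (by omega) (by omega)
    le_rfl (by norm_num)
  obtain ⟨a, b, hb0, c, hq⟩ := exists_quad (by norm_num) ha hb hN hlt h
  set Q : ℚ := (qa : ℚ) * qb with hQ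
  have e : eig 10 qa qb 1 ^ 2 = ((3 * Q / 2 : ℚ) : ℝ) + ((Q / 2 : ℚ) : ℝ) * √(5 : ℕ) := by
    rw [eig_sq, show 2 * (2 * π * ((1 : ℕ) : ℝ) / ((10 : ℕ) : ℝ)) = 2 * (π / 5) by
      push_cast; ring, cos_two_mul, cos_pi_div_five, hQ]
    have h5 : √(5 : ℝ) ^ 2 = 5 := sq_sqrt (by norm_num)
    push_cast
    linear_combination ((qa : ℝ) * qb / 4) * h5
  obtain ⟨x, y, hxy⟩ := exists_coord hb0 hq e
  obtain ⟨h1, h2⟩ := coord_sq (by norm_num) hxy e
  have hQ0 : 0 < Q := by positivity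
  have hpos : 0 < eig 10 qa qb 1 := by
    rw [eig, show 2 * π * ((1 : ℕ) : ℝ) / ((10 : ℕ) : ℝ) = π / 5 by push_cast; ring,
      cos_pi_div_five]
    positivity
  obtain ⟨κ, hκ⟩ := h
  have hκ0 : κ ≠ 0 := by
    rintro rfl
    simp only [Nat.cast_zero, mul_zero, zero_mul] at hκ
    have : (0 : ℝ) < N := by exact_mod_cast hN
    nlinarith
  set e1 : ℚ := ((qa : ℚ) - 1) * ((qb : ℚ) - 1) with he1
  set f1 : ℚ := (Q + 1) * ((qa : ℚ) + qb) with hf1
  set K : ℚ := 10 * κ with hK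
  have h0 : (((K - N) * (3 * Q / 2) - K * e1 * x - K * f1 + 4 * Q * N : ℚ) : ℝ)
      + (((K - N) * (Q / 2) - K * e1 * y : ℚ) : ℝ) * √(5 : ℕ) = 0 := by
    rw [e, hxy] at hκ
    simp only [hQ, he1, hf1, hK] at hκ ⊢
    push_cast at hκ ⊢
    linear_combination hκ
  obtain ⟨g1, g2⟩ := eq_zero_of_sqrt (by norm_num) h0
  have hK0 : K ≠ 0 := by
    have : (κ : ℚ) ≠ 0 := by exact_mod_cast hκ0
    positivity
  have g3 : K * (-f1 + 4 * Q - e1 * (x + 5 * y)) = 0 := by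
    linear_combination g1 + 5 * g2
  have g4 : -f1 + 4 * Q - e1 * (x + 5 * y) = 0 := (mul_eq_zero.1 g3).resolve_left hK0
  push_cast at h1
  have hsplit : (x - y) * (x - 5 * y) = 0 := by linear_combination h1 - 3 * h2
  have hs : 0 < x + 5 * y := by
    have h5 : (0 : ℝ) < √(5 : ℕ) := by positivity
    rcases mul_eq_zero.1 hsplit with hc | hc
    · have hx : x = y := by linarith
      subst hx
      rw [hxy, show (x : ℝ) + x * √(5 : ℕ) = x * (1 + √(5 : ℕ)) by ring] at hpos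
      have : (0 : ℝ) < x := by nlinarith
      have : 0 < x := by exact_mod_cast this
      linarith
    · have hx : x = 5 * y := by linarith
      subst hx
      push_cast at hxy
      rw [hxy, show 5 * (y : ℝ) + y * √5 = y * (5 + √5) by ring] at hpos
      have : (0 : ℝ) < √5 := by positivity
      have : (0 : ℝ) < y := by nlinarith
      have : 0 < y := by exact_mod_cast this
      linarith
  have h1' : (2 : ℚ) ≤ qa := by exact_mod_cast ha
  have h2' : (2 : ℚ) ≤ qb := by exact_mod_cast hb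
  have he0 : 0 < e1 := by
    have : (0 : ℚ) < (qa : ℚ) - 1 := by linarith
    have : (0 : ℚ) < (qb : ℚ) - 1 := by linarith
    rw [he1]; positivity
  have hf0 : 4 * Q < f1 := by rw [hf1]; nlinarith
  nlinarith [mul_pos he0 hs]

lemma not_five {q : ℕ} (hq : 2 ≤ q) (hN : 0 < N)
    (h : Eqn 5 q q N (eig 5 q q 1)) : False := by
  have hlt := eig_sq_lt (n := 5) (qa := q) (qb := q) (by norm_num) (by omega) (by omega)
    le_rfl (by norm_num)
  have e : eig 5 q q 1 = ((-(q : ℚ) / 2 : ℚ) : ℝ) + (((q : ℚ) / 2 : ℚ) : ℝ) * √(5 : ℕ) := by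
    rw [eig, sqrt_mul_self (by positivity),
      show 2 * π * ((1 : ℕ) : ℝ) / ((5 : ℕ) : ℝ) = 2 * (π / 5) by push_cast; ring,
      cos_two_mul, cos_pi_div_five]
    have h5 : √(5 : ℝ) ^ 2 = 5 := sq_sqrt (by norm_num)
    push_cast
    linear_combination ((q : ℝ) / 4) * h5
  obtain ⟨κ, hκ⟩ := h
  have hκ0 : κ ≠ 0 := by
    rintro rfl
    simp only [Nat.cast_zero, mul_zero, zero_mul] at hκ
    have : (0 : ℝ) < N := by exact_mod_cast hN
    nlinarith
  set K : ℚ := 5 * κ with hK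
  set Q : ℚ := (q : ℚ) with hQ
  have hsq : √(5 : ℝ) * √5 = 5 := mul_self_sqrt (by norm_num)
  have h0 : (((K - N) * (3 * Q ^ 2 / 2) + K * (Q - 1) ^ 2 * (Q / 2)
        - K * (Q ^ 2 + 1) * (2 * Q) + 4 * Q ^ 2 * N : ℚ) : ℝ)
      + ((-((K - N) * (Q ^ 2 / 2)) - K * (Q - 1) ^ 2 * (Q / 2) : ℚ) : ℝ) * √(5 : ℕ) = 0 := by
    rw [e] at hκ
    simp only [hQ, hK] at hκ ⊢
    push_cast at hκ ⊢
    linear_combination hκ - ((5 * (κ : ℝ) - N) * ((q : ℝ) / 2) ^ 2) * hsq
  obtain ⟨g1, g2⟩ := eq_zero_of_sqrt (by norm_num) h0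
  have g3 : K * (Q * (Q - 1) ^ 2) = 0 := by linear_combination g1 - 5 * g2
  have : (κ : ℚ) ≠ 0 := by exact_mod_cast hκ0
  have hQ2 : (2 : ℚ) ≤ Q := by rw [hQ]; exact_mod_cast hq
  have : 0 < K * (Q * (Q - 1) ^ 2) := by
    have : 0 < Q - 1 := by linarith
    positivity
  linarith

/-- No polygon has another diameter. -/
theorem arith (hn : 5 ≤ n) (h6 : n ≠ 6) (h8 : n ≠ 8) (ha : 2 ≤ qa) (hb : 2 ≤ qb) (hN : 0 < N)
    (hodd : Odd n → qa = qb)
    (h : ∀ j, 1 ≤ j → 2 * j < n → Eqn n qa qb N (eig n qa qb j)) : False := by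
  rcases mem_list hn h6 h8 ha hb hN h with rfl | rfl | rfl | rfl | rfl | rfl
  · obtain rfl := hodd (by decide)
    exact not_five ha hN (h 1 le_rfl (by norm_num))
  · exact not_ten ha hb hN (h 1 le_rfl (by norm_num))
  · exact not_twelve ha hb hN (j := 1) (k := 2) (by norm_num) le_rfl (by norm_num) (by norm_num)
      (by norm_num) (by push_cast; ring) (by push_cast; ring)
      (h 1 le_rfl (by norm_num)) (h 2 (by norm_num) (by norm_num))
  · exact not_sixteen ha hb hN (h 1 le_rfl (by norm_num))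
  · exact not_twenty ha hb hN (h 1 le_rfl (by norm_num))
  · exact not_twelve ha hb hN (j := 2) (k := 4) (by norm_num) (by norm_num) (by norm_num)
      (by norm_num) (by norm_num) (by push_cast; ring) (by push_cast; ring)
      (h 2 (by norm_num) (by norm_num)) (h 4 (by norm_num) (by norm_num))

end CfsgLib.FeitHigman
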