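import Cfsg.Agent.Lib.BNPair.HeckeCenter
import Cfsg.Agent.Lib.BNPair.FHAlg
import Cfsg.Agent.Lib.BNPair.FHArith

/-!
The theorem of Feit and Higman for finite (B, N)-pairs of rank two.
-/

set_option autoImplicit false
set_option linter.unusedSectionVars false

open CfsgLib.Coxeter CfsgLib.BiInv Matrix

namespace CfsgLib.FeitHigman

universe u

section Words

variable {R : Type*} [Monoid R] {ι : Type*} (f : ι → R)

lemma prod_alt_even : ∀ (i : ℕ) (s t : ι), ((alt (2 * i) s t).map f).prod = (f s * f t) ^ i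
  | 0, _, _ => by simp [alt]
  | i + 1, s, t => by
    rw [show 2 * (i + 1) = 2 * i + 1 + 1 by ring]
    simp only [alt, List.map_cons, List.prod_cons]
    rw [prod_alt_even i s t, pow_succ' _ i, mul_assoc]

lemma prod_alt_odd : ∀ (i : ℕ) (s t : ι),
    ((alt (2 * i + 1) s t).map f).prod = (f s * f t) ^ i * f s
  | 0, _, _ => by simp [alt]
  | i + 1, s, t => by
    rw [show 2 * (i + 1) + 1 = 2 * i + 1 + 1 + 1 by ring]
    simp only [alt, List.map_cons, List.prod_cons]
    have := prod_alt_odd i s t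
    simp only [alt, List.map_cons, List.prod_cons] at this
    rw [this, pow_succ' _ i]
    simp only [mul_assoc]

lemma alt_add : ∀ (j m : ℕ) (s t : ι),
    ∃ x y, alt (j + m) s t = alt j s t ++ alt m x y ∧ ((x = s ∧ y = t) ∨ (x = t ∧ y = s))
  | 0, m, s, t => ⟨s, t, by simp [alt], Or.inl ⟨rfl, rfl⟩⟩
  | j + 1, m, s, t => by
    obtain ⟨x, y, e, h⟩ := alt_add j m t s
    exact ⟨x, y, by rw [Nat.succ_add]; simp [alt, e], h.symm⟩

end Words

section Dihedral

variable {W : Type*} [Group W] {ι : Type*} {σ : ι → W} (hσ : Gens σ)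
include hσ

lemma odd_ne_one : ∀ (i : ℕ) (s t : ι), σ s ≠ 1 → σ t ≠ 1 → (σ s * σ t) ^ i * σ s ≠ 1
  | 0, s, t, hs, _ => by simpa using hs
  | i + 1, s, t, hs, ht => by
    intro e
    apply odd_ne_one i t s ht hs
    have h : σ t * (σ s * σ t) ^ i = (σ t * σ s) ^ i * σ t :=
      SemiconjBy.pow_right (show SemiconjBy (σ t) (σ s * σ t) (σ t * σ s) by
        show _ = _; rw [mul_assoc]) i
    rw [pow_succ', mul_assoc (σ s) (σ t), h, mul_assoc] at e
    have h2 := eq_inv_of_mul_eq_one_right e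
    rwa [hσ.inv_eq, mul_eq_right] at h2

variable {s t : ι} (hst : σ s ≠ σ t) (hs : σ s ≠ 1) (ht : σ t ≠ 1)

lemma order_comm (s t : ι) : orderOf (σ t * σ s) = orderOf (σ s * σ t) := by
  rw [← orderOf_inv (σ s * σ t), _root_.mul_inv_rev, hσ.inv_eq, hσ.inv_eq]

/-- A short alternating word is not trivial. -/
lemma alt_ne_one {m : ℕ} {s t : ι} (hs : σ s ≠ 1) (ht : σ t ≠ 1) (h0 : 0 < m)
    (hm : m < 2 * orderOf (σ s * σ t)) : wprod σ (alt m s t) ≠ 1 := by
  obtain ⟨i, rfl | rfl⟩ : ∃ i, m = 2 * i ∨ m = 2 * i + 1 := ⟨m / 2, by omega⟩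
  · rw [wprod, prod_alt_even]
    exact pow_ne_one_of_lt_orderOf (by omega) (by omega)
  · rw [wprod, prod_alt_odd]
    exact odd_ne_one hσ i s t hs ht

lemma inv_mul_alt : ∀ (j k : ℕ) (s t : ι),
    ∃ x y, (wprod σ (alt j t s))⁻¹ * wprod σ (alt k s t) = wprod σ (alt (j + k) x y) ∧
      ((x = s ∧ y = t) ∨ (x = t ∧ y = s))
  | 0, k, s, t => ⟨s, t, by simp [alt], Or.inl ⟨rfl, rfl⟩⟩
  | j + 1, k, s, t => by
    obtain ⟨x, y, e, h⟩ := inv_mul_alt j (k + 1) t s
    refine ⟨x, y, ?_, h.symm⟩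
    rw [show j + 1 + k = j + (k + 1) by ring, ← e]
    simp [alt, hσ.inv_eq, mul_assoc]

/-- The braid relation. -/
lemma braid (s t : ι) : wprod σ (alt (orderOf (σ s * σ t)) s t) =
    wprod σ (alt (orderOf (σ s * σ t)) t s) := by
  have := wprod_alt σ hσ.sq (orderOf (σ s * σ t)) s t
  rwa [pow_orderOf_eq_one, mul_inv_eq_one] at this

variable (htwo : ∀ r : ι, r = s ∨ r = t)
include htwo

/-- A reduced word alternates. -/
lemma red_eq_alt : ∀ {L : List ι}, IsRed σ L →
    ∃ x y, L = alt L.length x y ∧ ((x = s ∧ y = t) ∨ (x = t ∧ y = s))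
  | [], _ => ⟨s, t, rfl, Or.inl ⟨rfl, rfl⟩⟩
  | i :: L, hL => by
    obtain ⟨x, y, e, hxy⟩ := red_eq_alt (hσ.red_tail hL)
    rcases Nat.eq_zero_or_pos L.length with h0 | h0
    · obtain rfl := List.length_eq_zero_iff.1 h0
      rcases htwo i with rfl | rfl
      · exact ⟨i, t, rfl, Or.inl ⟨rfl, rfl⟩⟩
      · exact ⟨i, s, rfl, Or.inr ⟨rfl, rfl⟩⟩
    · have hix : i ≠ x := by
        rintro rfl
        obtain ⟨k, hk⟩ := Nat.exists_eq_succ_of_ne_zero h0.ne'
        rw [hk, alt] at e
        have hl := len_le (σ := σ) (alt k y i)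
        rw [length_alt] at hl
        unfold IsRed at hL
        rw [e] at hL
        simp only [wprod_cons, hσ.cancel_left, List.length_cons, length_alt] at hL
        omega
      have hiy : i = y := by
        rcases hxy with ⟨rfl, rfl⟩ | ⟨rfl, rfl⟩ <;> rcases htwo i with rfl | rfl <;>
          first | rfl | exact absurd rfl hix
      refine ⟨y, x, ?_, hxy.symm.imp (fun h => ⟨h.2, h.1⟩) (fun h => ⟨h.2, h.1⟩)⟩
      subst hiy
      rw [List.length_cons, alt, ← e]

include hst hs ht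

lemma two_le_order [Finite W] : 2 ≤ orderOf (σ s * σ t) := by
  have h0 : 0 < orderOf (σ s * σ t) := orderOf_pos _
  have h1 : orderOf (σ s * σ t) ≠ 1 := by
    rw [Ne, orderOf_eq_one_iff, mul_eq_one_iff_eq_inv, hσ.inv_eq]
    exact hst
  omega

/-- Short alternating words are reduced. -/
lemma len_alt {k : ℕ} (hk : k ≤ orderOf (σ s * σ t)) :
    IsRed σ (alt k s t) ∧ IsRed σ (alt k t s) := by
  suffices H : ∀ a b, ((a = s ∧ b = t) ∨ (a = t ∧ b = s)) → IsRed σ (alt k a b) from
    ⟨H s t (Or.inl ⟨rfl, rfl⟩), H t s (Or.inr ⟨rfl, rfl⟩)⟩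
  intro a b hab
  have hab' : ∀ c d, ((c = a ∧ d = b) ∨ (c = b ∧ d = a)) →
      σ c ≠ 1 ∧ σ d ≠ 1 ∧ orderOf (σ c * σ d) = orderOf (σ s * σ t) := by
    intro c d hcd
    rcases hab with ⟨rfl, rfl⟩ | ⟨rfl, rfl⟩ <;> rcases hcd with ⟨rfl, rfl⟩ | ⟨rfl, rfl⟩ <;>
      first | exact ⟨hs, ht, rfl⟩ | exact ⟨ht, hs, order_comm hσ _ _⟩
  obtain ⟨L, hL, e, hlen⟩ := hσ.exists_red (wprod σ (alt k a b))
  unfold IsRed
  rw [← hlen, length_alt]
  have hle := len_le (σ := σ) (alt k a b)
  rw [length_alt, ← hlen] at hle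
  refine le_antisymm hle (not_lt.1 fun hlt => ?_)
  obtain ⟨x, y, eL, hxy⟩ := red_eq_alt hσ htwo hL
  have hxy' : (x = a ∧ y = b) ∨ (x = b ∧ y = a) := by
    rcases hab with ⟨rfl, rfl⟩ | ⟨rfl, rfl⟩
    exacts [hxy, hxy.symm]
  rw [eL] at e
  obtain ⟨m, rfl⟩ := Nat.exists_eq_add_of_le hlt.le
  rcases hxy' with ⟨rfl, rfl⟩ | ⟨rfl, rfl⟩
  · obtain ⟨c, d, e2, hcd⟩ := alt_add L.length m x y
    rw [e2, wprod_append, left_eq_mul] at e
    obtain ⟨h1, h2, h3⟩ := hab' c d hcd
    exact alt_ne_one hσ h1 h2 (by omega) (by omega) e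
  · obtain ⟨c, d, e2, hcd⟩ := inv_mul_alt hσ L.length (L.length + m) y x
    rw [← e, inv_mul_cancel] at e2
    obtain ⟨h1, h2, h3⟩ := hab' c d hcd
    exact alt_ne_one hσ h1 h2 (by omega) (by omega) e2.symm

/-- The order of the group. -/
lemma card_eq [Finite W] : Nat.card W = 2 * orderOf (σ s * σ t) := by
  set H := Subgroup.zpowers (σ s * σ t) with hH
  have hsH : σ s ∉ H := by
    intro hm
    obtain ⟨i, hi⟩ := (IsOfFinOrder.mem_powers_iff_mem_zpowers (isOfFinOrder_of_finite _)).2 hm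
    simp only at hi
    refine odd_ne_one hσ i s t hs ht ?_
    rw [hi]
    exact hσ.sq s
  have hidx : H.index = 2 := by
    rw [Subgroup.index_eq_two_iff]
    refine ⟨σ s, fun w => ?_⟩
    have hor : w ∈ H ∨ w * σ s ∈ H := by
      obtain ⟨L, hL, rfl, -⟩ := hσ.exists_red w
      obtain ⟨x, y, e, hxy⟩ := red_eq_alt hσ htwo hL
      have hg : σ s * σ t ∈ H := Subgroup.mem_zpowers _
      have hg' : σ t * σ s ∈ H := by
        have := inv_mem hg
        rwa [_root_.mul_inv_rev, hσ.inv_eq, hσ.inv_eq] at this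
      rw [e]
      obtain ⟨i, hi | hi⟩ : ∃ i, L.length = 2 * i ∨ L.length = 2 * i + 1 :=
        ⟨L.length / 2, by omega⟩
      · left
        rw [hi, wprod, prod_alt_even]
        rcases hxy with ⟨rfl, rfl⟩ | ⟨rfl, rfl⟩
        exacts [pow_mem hg i, pow_mem hg' i]
      · right
        rw [hi, wprod, prod_alt_odd, mul_assoc]
        rcases hxy with ⟨rfl, rfl⟩ | ⟨rfl, rfl⟩
        · rw [hσ.sq, mul_one]; exact pow_mem hg i
        · exact mul_mem (pow_mem hg' i) hg'
    rcases hor with h | h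
    · refine Or.inr ⟨h, fun h' => hsH ?_⟩
      have := mul_mem (inv_mem h) h'
      rwa [inv_mul_cancel_left] at this
    · refine Or.inl ⟨h, fun h' => hsH ?_⟩
      have := mul_mem (inv_mem h') h
      rwa [inv_mul_cancel_left] at this
  rw [← H.card_mul_index, hidx, hH, Nat.card_zpowers, mul_comm]

end Dihedral

section Pair

open CfsgLib.BN

open scoped Classical

variable {G : Type u} [Group G] [Fintype G] {P : Cfsg.BNPair G}

/-- The number of cosets in the cell of a generator is at least two. -/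
lemma two_le_cellCard (s : P.S) : 2 ≤ cellCard P (gen P s) := by
  classical
  obtain ⟨b, hb, hne⟩ := exists_sbs s
  rw [cellCard, Nat.succ_le_iff, Finite.one_lt_card_iff_nontrivial]
  refine ⟨⟨((s : G) : G ⧸ P.B), mk_mem_cosets.2 (gen_mem_cell s)⟩,
    ⟨((b * s : G) : G ⧸ P.B), mk_mem_cosets.2 (left_cell (gen_mem_cell s) hb)⟩, fun e => hne ?_⟩
  have e' := QuotientGroup.eq.1 (congrArg Subtype.val e)
  have := mul_mem (P.sq_mem s s.2) e'
  convert this using 1
  group

/-- Left multiplication by a generator, with the parameter of that generator only. -/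
theorem conv_gen' (s : P.S) (f : Weyl P → ℂ) :
    conv (lift' P (Hecke.single (gen P s))) (lift' P f) =
      lift' P (Hecke.lgen (gen P) (cellCard P (gen P s) : ℂ) s f) := by
  classical
  funext x
  set v := typ P x with hv
  have hx := mem_typ (P := P) x
  rw [← hv] at hx
  set C := Finset.univ.filter fun y : G => y ∈ cell P (gen P s) with hC
  have hcardC : (C.card : ℂ) = (cellCard P (gen P s) : ℂ) * (Nat.card P.B : ℂ) := by
    rw [hC, ← Fintype.card_subtype, ← Nat.card_eq_fintype_card, card_cell, Nat.cast_mul]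
  have hB0 : (Nat.card P.B : ℂ) ≠ 0 := Nat.cast_ne_zero.2 Nat.card_pos.ne'
  have hsum : conv (lift' P (Hecke.single (gen P s))) (lift' P f) x =
      (Nat.card P.B : ℂ)⁻¹ * ((Nat.card P.B : ℂ)⁻¹ * ∑ y ∈ C, f (typ P (y⁻¹ * x))) := by
    rw [Finset.mul_sum, Finset.mul_sum, hC, Finset.sum_filter]
    refine Finset.sum_congr rfl fun y _ => ?_
    simp only [lift'_apply, Hecke.single]
    by_cases hy : y ∈ cell P (gen P s)
    · rw [typ_eq hy, if_pos rfl, if_pos hy]; ring
    · rw [if_neg, if_neg hy]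
      · ring
      · exact fun e => hy (e ▸ mem_typ y)
  rw [hsum, lift'_apply, ← hv]
  congr 1
  simp only [Hecke.lgen, LinearMap.coe_mk, AddHom.coe_mk]
  have hinv : ∀ y ∈ C, y⁻¹ ∈ cell P (gen P s) := fun y hy => by
    have := inv_cell (Finset.mem_filter.1 hy).2
    rwa [gen_inv] at this
  by_cases hdown : len (gen P) (gen P s * v) < len (gen P) v
  · rw [if_pos hdown]
    -- the elements lowering the type form one coset
    obtain ⟨n, hn⟩ := QuotientGroup.mk_surjective (gen P s * v)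
    have hw : v = QuotientGroup.mk ((⟨(s : G), P.subset s.2⟩ : P.N) * n) := by
      rw [QuotientGroup.mk_mul, hn, ← gen, gens.cancel_left]
    rw [hw] at hx
    obtain ⟨c, hc, c', hc', ex⟩ := mem_cell_mk.1 hx
    set y₀ : G := c * (s : G) with hy₀
    have hy₀C : y₀ ∈ cell P (gen P s) := left_cell (gen_mem_cell s) hc
    have hy₀x : y₀⁻¹ * x ∈ cell P (gen P s * v) := by
      rw [← hn, ex, hy₀]
      have h3 := right_cell (mk_mem_cell n) hc'
      convert h3 using 1
      simp [Subgroup.coe_mul, mul_assoc]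
    have hiff : ∀ y ∈ C, typ P (y⁻¹ * x) = gen P s * v ↔ y₀⁻¹ * y ∈ P.B := by
      intro y hy
      constructor
      · intro e
        have hyx : y⁻¹ * x ∈ cell P (gen P s * v) := e ▸ mem_typ _
        have h0 : y₀⁻¹ ∈ cell P (gen P s) := by
          have := inv_cell hy₀C
          rwa [gen_inv] at this
        rcases step' h0 (Finset.mem_filter.1 hy).2 with h | h
        · rwa [gen_sq, mem_cell_one] at h
        · exfalso
          have h4 := mul_cell_of_len s h (w := gen P s * v)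
            (by rw [gens.cancel_left]; exact hdown.le) hyx
          rw [gens.cancel_left, show y₀⁻¹ * y * (y⁻¹ * x) = y₀⁻¹ * x by group] at h4
          have h5 := cell_inj h4 hy₀x
          rw [← h5] at hdown
          omega
      · intro hb
        refine typ_eq ?_
        have := left_cell hy₀x (inv_mem hb)
        rwa [show (y₀⁻¹ * y)⁻¹ * (y₀⁻¹ * x) = y⁻¹ * x by group] at this
    have hcase : ∀ y ∈ C, f (typ P (y⁻¹ * x)) =
        f v + (if y₀⁻¹ * y ∈ P.B then f (gen P s * v) - f v else 0) := by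
      intro y hy
      rcases step' (hinv y hy) (mem_typ (P := P) x) with h | h
      · rw [← hv] at h
        rw [typ_eq h, if_pos ((hiff y hy).1 (typ_eq h))]
        ring
      · rw [← hv] at h
        rw [typ_eq h, if_neg, add_zero]
        intro hb
        have := (hiff y hy).2 hb
        rw [typ_eq h] at this
        rw [← this] at hdown
        omega
    rw [Finset.sum_congr rfl hcase, Finset.sum_add_distrib, Finset.sum_const, ← Finset.sum_filter,
      Finset.sum_const, nsmul_eq_mul, nsmul_eq_mul, hcardC]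
    have hA : ((C.filter fun y => y₀⁻¹ * y ∈ P.B).card : ℂ) = (Nat.card P.B : ℂ) := by
      rw [Nat.cast_inj, Nat.card_eq_fintype_card, Fintype.card_subtype]
      refine (Finset.card_bij (fun b _ => y₀ * b) ?_ (fun a _ b _ e => mul_left_cancel e) ?_).symm
      · intro b hb
        simp only [hC, Finset.mem_filter, Finset.mem_univ, true_and] at hb ⊢
        exact ⟨right_cell hy₀C hb, by simpa using hb⟩
      · intro y hy
        simp only [Finset.mem_filter] at hy
        exact ⟨y₀⁻¹ * y, by simp [hy.2], by group⟩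
    rw [hA]
    field_simp
    ring
  · rw [if_neg hdown]
    have hcase : ∀ y ∈ C, f (typ P (y⁻¹ * x)) = f (gen P s * v) := fun y hy => by
      rw [typ_eq (mul_cell_of_len s (hinv y hy) (not_lt.1 hdown) (mem_typ x))]
    rw [Finset.sum_congr rfl hcase, Finset.sum_const, nsmul_eq_mul, hcardC]
    field_simp

open Classical in
/-- The matrix of a function on the Weyl group on the cosets of `B`. -/
noncomputable def mat (P : Cfsg.BNPair G) (f : Weyl P → ℂ) : Matrix (G ⧸ P.B) (G ⧸ P.B) ℂ :=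
  fun x y => f (typ P (x.out⁻¹ * y.out))

lemma mat_mk (f : Weyl P → ℂ) (g h : G) :
    mat P f (g : G ⧸ P.B) (h : G ⧸ P.B) = f (typ P (g⁻¹ * h)) := by
  obtain ⟨a, ha⟩ := QuotientGroup.mk_out_eq_mul P.B g
  obtain ⟨b, hb⟩ := QuotientGroup.mk_out_eq_mul P.B h
  show f (typ P _) = _
  rw [ha, hb]
  congr 1
  refine typ_eq ?_
  have := mul_cell (mem_typ (P := P) (g⁻¹ * h)) (inv_mem a.2) b.2
  convert this using 1
  group

open Classical in
lemma mat_add (f f' : Weyl P → ℂ) : mat P (f + f') = mat P f + mat P f' := rfl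

lemma mat_smul (c : ℂ) (f : Weyl P → ℂ) : mat P (c • f) = c • mat P f := rfl

open Classical in
lemma mat_one : mat P (Hecke.single 1) = 1 := by
  ext x y
  induction x using QuotientGroup.induction_on with | H g => ?_
  induction y using QuotientGroup.induction_on with | H h => ?_
  rw [mat_mk, Matrix.one_apply]
  simp only [Hecke.single]
  by_cases hb : g⁻¹ * h ∈ P.B
  · rw [if_pos (typ_eq (mem_cell_one.2 hb)), if_pos (QuotientGroup.eq.2 hb)]
  · have h1 : typ P (g⁻¹ * h) ≠ 1 := fun e => hb (mem_cell_one.1 (e ▸ mem_typ _))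
    rw [if_neg h1, if_neg (fun e => hb (QuotientGroup.eq.1 e))]

lemma sum_lift (Φ : G ⧸ P.B → ℂ) :
    ∑ y : G, Φ (y : G ⧸ P.B) = (Nat.card P.B : ℂ) * ∑ x, Φ x := by
  classical
  rw [← Finset.sum_fiberwise Finset.univ (fun y : G => (y : G ⧸ P.B)), Finset.mul_sum]
  refine Finset.sum_congr rfl fun x _ => ?_
  rw [Finset.sum_congr rfl fun y hy => congrArg Φ (Finset.mem_filter.1 hy).2, Finset.sum_const,
    nsmul_eq_mul]
  congr 1
  rw [Nat.cast_inj, ← Fintype.card_subtype, ← Nat.card_eq_fintype_card]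
  have := Nat.card_congr (QuotientGroup.preimageMkEquivSubgroupProdSet P.B {x})
  rw [Nat.card_prod, Nat.card_unique (α := ({x} : Set (G ⧸ P.B))), mul_one] at this
  rw [← this]
  rfl

/-- Products of matrices are convolutions. -/
lemma mat_mul {f f' φ : Weyl P → ℂ} (h : conv (lift' P f) (lift' P f') = lift' P φ) :
    mat P f * mat P f' = mat P φ := by
  classical
  ext x z
  induction x using QuotientGroup.induction_on with | H g => ?_
  induction z using QuotientGroup.induction_on with | H k => ?_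
  rw [Matrix.mul_apply, mat_mk]
  have hB : (Nat.card P.B : ℂ) ≠ 0 := Nat.cast_ne_zero.2 Nat.card_pos.ne'
  have e := congrFun h (g⁻¹ * k)
  rw [lift'_apply] at e
  refine mul_left_cancel₀ (inv_ne_zero hB) ?_
  rw [← e, conv]
  conv_lhs => rw [show ∑ y : G ⧸ P.B, mat P f (g : G ⧸ P.B) y * mat P f' y (k : G ⧸ P.B) =
    (Nat.card P.B : ℂ)⁻¹ * ∑ y : G, mat P f (g : G ⧸ P.B) (y : G ⧸ P.B) *
      mat P f' (y : G ⧸ P.B) (k : G ⧸ P.B) by
    rw [sum_lift (fun y => mat P f (g : G ⧸ P.B) y * mat P f' y (k : G ⧸ P.B)), ← mul_assoc,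
      inv_mul_cancel₀ hB, one_mul]]
  rw [← mul_assoc, Finset.mul_sum]
  refine Fintype.sum_equiv (Equiv.mulLeft g⁻¹) _ _ fun y => ?_
  simp only [lift'_apply, mat_mk, Equiv.coe_mulLeft, _root_.mul_inv_rev, inv_inv]
  rw [show y⁻¹ * g * (g⁻¹ * k) = y⁻¹ * k by group]
  ring

/-- The matrix of a generator. -/
noncomputable def gmat (P : Cfsg.BNPair G) (s : P.S) : Matrix (G ⧸ P.B) (G ⧸ P.B) ℂ :=
  mat P (Hecke.single (gen P s))

lemma gmat_mul (s : P.S) (f : Weyl P → ℂ) :
    gmat P s * mat P f = mat P (Hecke.lgen (gen P) (cellCard P (gen P s) : ℂ) s f) :=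
  mat_mul (conv_gen' s f)

open Classical in
/-- A product along a reduced word. -/
lemma gmat_prod : ∀ {L : List P.S}, IsRed (gen P) L →
    (L.map (gmat P)).prod = mat P (Hecke.single (wprod (gen P) L))
  | [], _ => by rw [wprod_nil, mat_one]; rfl
  | s :: L, hL => by
    have h1 := gens.red_tail hL
    rw [List.map_cons, List.prod_cons, gmat_prod h1, gmat_mul,
      Hecke.lgen_single_up gens exchange len_gen_mul_ne, wprod_cons]
    unfold IsRed at hL h1
    rw [wprod_cons, List.length_cons] at hL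
    omega

open Classical in
lemma gmat_sq (s : P.S) : gmat P s * gmat P s =
    ((cellCard P (gen P s) : ℂ) - 1) • gmat P s + (cellCard P (gen P s) : ℂ) • 1 := by
  conv_lhs => arg 2; rw [gmat]
  rw [gmat_mul, Hecke.lgen_single_down gens exchange len_gen_mul_ne, gen_sq, mat_add, mat_smul,
    mat_smul, mat_one, add_comm]
  · rfl
  · rw [gen_sq, len_gen_eq_one, (gens (P := P)).len_eq_zero.2 rfl]
    omega

lemma mat_transpose (w : Weyl P) :
    (mat P (Hecke.single w))ᵀ = mat P (Hecke.single w⁻¹) := by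
  classical
  ext x y
  induction x using QuotientGroup.induction_on with | H g => ?_
  induction y using QuotientGroup.induction_on with | H h => ?_
  rw [Matrix.transpose_apply, mat_mk, mat_mk, show h⁻¹ * g = (g⁻¹ * h)⁻¹ by group, typ_inv]
  simp only [Hecke.single]
  by_cases hw : typ P (g⁻¹ * h) = w⁻¹
  · rw [if_pos (by rw [hw, inv_inv]), if_pos hw]
  · rw [if_neg (fun e => hw (inv_eq_iff_eq_inv.1 e)), if_neg hw]

lemma mat_herm (w : Weyl P) :
    (mat P (Hecke.single w))ᴴ = mat P (Hecke.single w⁻¹) := by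
  classical
  rw [← mat_transpose]
  ext x y
  rw [Matrix.conjTranspose_apply, Matrix.transpose_apply]
  show star (Hecke.single w _) = Hecke.single w _
  simp only [Hecke.single]
  split_ifs <;> simp

open Classical in
lemma trace_single {w : Weyl P} (hw : w ≠ 1) : (mat P (Hecke.single w)).trace = 0 := by
  refine Finset.sum_eq_zero fun x _ => ?_
  show Hecke.single w (typ P _) = 0
  rw [inv_mul_cancel, typ_eq (mem_cell_one.2 (one_mem _))]
  simp [Hecke.single, Ne.symm hw]

open Classical in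
lemma trace_single_mul {v w : Weyl P} (h : w ≠ v⁻¹) :
    (mat P (Hecke.single v) * mat P (Hecke.single w)).trace = 0 := by
  refine Finset.sum_eq_zero fun x _ => ?_
  rw [Matrix.diag_apply, Matrix.mul_apply]
  refine Finset.sum_eq_zero fun y _ => ?_
  induction x using QuotientGroup.induction_on with | H g => ?_
  induction y using QuotientGroup.induction_on with | H k => ?_
  rw [mat_mk, mat_mk, show k⁻¹ * g = (g⁻¹ * k)⁻¹ by group, typ_inv]
  simp only [Hecke.single]
  split_ifs with h1 h2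
  · exact absurd (h1 ▸ h2.symm) h
  all_goals simp

open Classical in
lemma data (s t : P.S) (hst : s ≠ t) (htwo : ∀ r : P.S, r = s ∨ r = t)
    (h5 : 5 ≤ orderOf (gen P s * gen P t)) :
    Data (orderOf (gen P s * gen P t)) (cellCard P (gen P s) : ℂ) (cellCard P (gen P t) : ℂ)
      (gmat P s) (gmat P t) := by
  have hne : gen P s ≠ gen P t := fun e => hst (gen_injective e)
  have hred := fun {k : ℕ} (hk : k ≤ orderOf (gen P s * gen P t)) =>
    len_alt gens hne (gen_ne_one s) (gen_ne_one t) htwo hk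
  set n := orderOf (gen P s * gen P t) with hn
  have hbraid := congrArg (fun w => mat P (Hecke.single w)) (braid (gens (P := P)) s t)
  simp only [← hn, ← gmat_prod (hred le_rfl).1, ← gmat_prod (hred le_rfl).2] at hbraid
  refine ⟨h5, gmat_sq s, gmat_sq t, ?_, ?_, ?_, ?_, trace_single (gen_ne_one s),
    trace_single (gen_ne_one t), fun r hr1 hr2 => ?_, fun m hm => ?_, fun m hm => ?_⟩
  · rw [gmat, mat_transpose, gen_inv]
  · rw [gmat, mat_transpose, gen_inv]
  · rw [gmat, mat_herm, gen_inv]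
  · rw [gmat, mat_herm, gen_inv]
  · rw [← prod_alt_even (gmat P) r s t]
    rcases le_or_gt (2 * r) n with hle | hgt
    · rw [gmat_prod (hred hle).1]
      exact trace_single (alt_ne_one gens (gen_ne_one s) (gen_ne_one t) (by omega) (by omega))
    · obtain ⟨k, hk⟩ := Nat.exists_eq_add_of_le hgt.le
      obtain ⟨x, y, e, hxy⟩ := alt_add n k s t
      have hk' : k < n := by omega
      have hr : IsRed (gen P) (alt k x y) := by
        rcases hxy with ⟨rfl, rfl⟩ | ⟨rfl, rfl⟩
        exacts [(hred hk'.le).1, (hred hk'.le).2]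
      rw [hk, e, List.map_append, List.prod_append, gmat_prod (hred le_rfl).1, gmat_prod hr]
      refine trace_single_mul fun h => ?_
      have h1 := congrArg (len (gen P)) h
      rw [gens.len_inv, hr, (hred le_rfl).1, length_alt, length_alt] at h1
      omega
  · rwa [hm, prod_alt_even, prod_alt_even] at hbraid
  · rwa [hm, prod_alt_odd, prod_alt_odd] at hbraid

/-- The theorem of Feit and Higman. -/
theorem weyl_card (h2 : P.rank = 2) :
    Nat.card (Weyl P) ∈ ({4, 6, 8, 12, 16} : Set ℕ) := by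
  classical
  obtain ⟨s, t, hst, huniv⟩ := Nat.card_eq_two_iff.1 h2
  have htwo : ∀ r : P.S, r = s ∨ r = t := fun r => by
    simpa [← huniv] using Set.mem_univ r
  have hne : gen P s ≠ gen P t := fun e => hst (gen_injective e)
  have hcard := card_eq gens hne (gen_ne_one s) (gen_ne_one t) htwo
  have hn2 := two_le_order gens hne (gen_ne_one s) (gen_ne_one t) htwo
  set n := orderOf (gen P s * gen P t) with hn
  suffices n = 2 ∨ n = 3 ∨ n = 4 ∨ n = 6 ∨ n = 8 by
    simp only [Set.mem_insert_iff, Set.mem_singleton_iff]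
    omega
  by_contra hc
  have h5 : 5 ≤ n := by omega
  have d := data s t hst htwo h5
  set qa := cellCard P (gen P s) with hqa
  set qb := cellCard P (gen P t) with hqb
  have ha : 2 ≤ qa := two_le_cellCard s
  have hb : 2 ≤ qb := two_le_cellCard t
  have ha0 : (qa : ℂ) ≠ 0 := Nat.cast_ne_zero.2 (by omega)
  have hb0 : (qb : ℂ) ≠ 0 := Nat.cast_ne_zero.2 (by omega)
  set N := Fintype.card (G ⧸ P.B) with hN
  have hN0 : 0 < N := Fintype.card_pos
  have hodd : Odd n → qa = qb := by
    rintro ⟨m, hm⟩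
    exact_mod_cast d.eq_of_odd ha0 hb0 hN0.ne' hm
  set ρ : ℂ := ((√((qa : ℝ) * qb) : ℝ) : ℂ) ^ n with hρdef
  have hs2 : ((√((qa : ℝ) * qb) : ℝ) : ℂ) ^ 2 = (qa : ℂ) * qb := by
    rw [← Complex.ofReal_pow, Real.sq_sqrt (by positivity)]
    push_cast
    rfl
  have hρ : quad (qa : ℂ) qb (gmat P s) (gmat P t) * (gmat P s * gmat P t) ^ n =
      ρ • quad (qa : ℂ) qb (gmat P s) (gmat P t) := by
    rcases Nat.even_or_odd n with ⟨m, hm⟩ | ⟨m, hm⟩
    · rw [d.rho_even ha0 hb0 (m := m) (by omega), hρdef,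
        show n = 2 * m by omega, pow_mul, hs2]
    · have e := hodd ⟨m, hm⟩
      rw [d.rho_odd ha0 (by rw [e]) (by
        rw [show (qa : ℂ) = ((qa : ℝ) : ℂ) by push_cast; rfl, ← Complex.ofReal_zero,
          Complex.real_lt_real]
        exact_mod_cast (show 0 < qa by omega)) hm, hρdef, ← e,
        Real.sqrt_mul_self (Nat.cast_nonneg _)]
      push_cast
      rfl
  refine arith (n := n) (qa := qa) (qb := qb) (N := N) h5 (fun e => hc (by omega))
    (fun e => hc (by omega)) ha hb hN0 hodd fun j hj hjn => ?_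
  set θ : ℝ := 2 * Real.pi * j / n with hθ
  set r : ℝ := √((qa : ℝ) * qb) with hr
  have hr0 : r ≠ 0 := Real.sqrt_ne_zero'.2 (by positivity)
  set l : ℂ := (r : ℂ) * Complex.exp ((θ : ℂ) * Complex.I) with hl
  have hl0 : l ≠ 0 := mul_ne_zero (Complex.ofReal_ne_zero.2 hr0) (Complex.exp_ne_zero _)
  have hn0 : (n : ℂ) ≠ 0 := Nat.cast_ne_zero.2 (by omega)
  have hln : l ^ n = ρ := by
    rw [hl, mul_pow, hρdef, ← Complex.exp_nat_mul,
      show (n : ℂ) * ((θ : ℂ) * Complex.I) = (j : ℕ) * (2 * Real.pi * Complex.I) by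
        rw [hθ]; push_cast; field_simp,
      Complex.exp_nat_mul_two_pi_mul_I, mul_one]
  have hz : l + (qa : ℂ) * qb / l = ((eig n qa qb j : ℝ) : ℂ) := by
    have hc := Complex.two_cos (θ : ℂ)
    have hi : Complex.exp (-(θ : ℂ) * Complex.I) = (Complex.exp ((θ : ℂ) * Complex.I))⁻¹ := by
      rw [neg_mul, Complex.exp_neg]
    rw [hi] at hc
    have hr0' : (r : ℂ) ≠ 0 := Complex.ofReal_ne_zero.2 hr0
    have he := Complex.exp_ne_zero ((θ : ℂ) * Complex.I)
    rw [eig, ← hθ, ← hr, Complex.ofReal_mul, Complex.ofReal_mul, Complex.ofReal_cos,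
      Complex.ofReal_ofNat, mul_comm (2 : ℂ) (r : ℂ), mul_assoc (r : ℂ), hc, hl, ← hs2]
    field_simp
  set z := eig n qa qb j with hzdef
  have hlt := eig_sq_lt (n := n) (qa := qa) (qb := qb) (by omega) (by omega) (by omega) hj hjn
  rw [← hzdef] at hlt
  have hF : z ^ 2 - ((qa : ℝ) - 1) * ((qb : ℝ) - 1) * z
      - ((qa : ℝ) * qb + 1) * ((qa : ℝ) + qb) < 0 := by
    have h1 : (2 : ℝ) ≤ qa := by exact_mod_cast ha
    have h2' : (2 : ℝ) ≤ qb := by exact_mod_cast hb
    have hQ : (4 : ℝ) ≤ qa * qb := by nlinarith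
    have b1 : z < (qa : ℝ) * qb + 1 := by
      nlinarith [sq_nonneg ((qa : ℝ) * qb - 1)]
    have b2 : -((qa : ℝ) + qb) < z := by
      nlinarith [sq_nonneg ((qa : ℝ) - qb)]
    nlinarith [mul_pos (sub_pos.2 b1) (show 0 < z + ((qa : ℝ) + qb) by linarith)]
  obtain ⟨κ, hκ⟩ := d.exists_mult ha0 hb0 hρ hl0 hln (by
    rw [hz]
    exact_mod_cast hF.ne)
  refine ⟨κ, ?_⟩
  rw [hz] at hκ
  exact_mod_cast hκ

end Pair

end CfsgLib.FeitHigman
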