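import Cfsg.Agent.Lib.BNPair.PCount
import Cfsg.Agent.Lib.Coxeter.Hecke
import Cfsg.Agent.Lib.Char.BiInvariant

/-!
The functions invariant under `B` on both sides as the Hecke algebra of the Weyl group, and the
number of constituents of the permutation character on the cosets of `B`.
-/

set_option autoImplicit false
set_option linter.unusedSectionVars false

open CfsgLib.Coxeter CfsgLib.BiInv

namespace CfsgLib.BN

universe u

variable {G : Type u} [Group G] [Fintype G] {P : Cfsg.BNPair G}

/-- The type of an element. -/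
noncomputable def typ (P : Cfsg.BNPair G) (x : G) : Weyl P := (exists_cell (P := P) x).choose

lemma mem_typ (x : G) : x ∈ cell P (typ P x) := (exists_cell (P := P) x).choose_spec

lemma typ_eq {x : G} {w : Weyl P} (h : x ∈ cell P w) : typ P x = w := cell_inj (mem_typ x) h

lemma typ_inv (x : G) : typ P x⁻¹ = (typ P x)⁻¹ := typ_eq (inv_cell (mem_typ x))

/-- A function on the Weyl group as a function invariant under `B`. -/
noncomputable def lift' (P : Cfsg.BNPair G) : (Weyl P → ℂ) →ₗ[ℂ] (G → ℂ) :=
  (Nat.card P.B : ℂ)⁻¹ • LinearMap.funLeft ℂ ℂ (typ P)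

lemma lift'_apply (f : Weyl P → ℂ) (x : G) : lift' P f x = (Nat.card P.B : ℂ)⁻¹ * f (typ P x) :=
  rfl

lemma lift'_mem (f : Weyl P → ℂ) : lift' P f ∈ biInv P.B := fun b hb x =>
  ⟨by rw [lift'_apply, lift'_apply, typ_eq (left_cell (mem_typ x) hb)],
    by rw [lift'_apply, lift'_apply, typ_eq (right_cell (mem_typ x) hb)]⟩

lemma exists_cell_elem (w : Weyl P) : ∃ g : G, g ∈ cell P w := by
  obtain ⟨n, rfl⟩ := QuotientGroup.mk_surjective w
  exact ⟨n, mk_mem_cell n⟩

lemma lift'_injective : Function.Injective (lift' P) := by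
  intro f f' e
  funext w
  obtain ⟨g, hg⟩ := exists_cell_elem w
  have := congrFun e g
  rw [lift'_apply, lift'_apply, typ_eq hg] at this
  exact mul_left_cancel₀ (inv_ne_zero (Nat.cast_ne_zero.2 Nat.card_pos.ne')) this

lemma exists_lift' {f : G → ℂ} (hf : f ∈ biInv P.B) : ∃ φ, lift' P φ = f := by
  refine ⟨fun w => (Nat.card P.B : ℂ) * f (exists_cell_elem w).choose, funext fun x => ?_⟩
  rw [lift'_apply, ← mul_assoc, inv_mul_cancel₀ (Nat.cast_ne_zero.2 Nat.card_pos.ne'), one_mul]
  obtain ⟨n, hn⟩ := QuotientGroup.mk_surjective (typ P x)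
  have h1 := mem_typ (P := P) x
  have h2 := (exists_cell_elem (typ P x)).choose_spec
  revert h2
  generalize (exists_cell_elem (typ P x)).choose = y
  intro h2
  rw [← hn] at h1 h2
  obtain ⟨b, hb, b', hb', rfl⟩ := mem_cell_mk.1 h1
  obtain ⟨c, hc, c', hc', rfl⟩ := mem_cell_mk.1 h2
  rw [(hf b' hb' (b * n)).2, (hf b hb n).1, (hf c' hc' (c * n)).2, (hf c hc n).1]

lemma lift'_one : lift' P (Hecke.single 1) = unit P.B := by
  classical
  funext x
  simp only [lift'_apply, Hecke.single, unit]
  by_cases hx : x ∈ P.B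
  · rw [typ_eq (mem_cell_one.2 hx), if_pos rfl, if_pos hx, mul_one]
  · rw [if_neg, if_neg hx, mul_zero]
    exact fun e => hx (mem_cell_one.1 (e ▸ mem_typ x))

lemma card_cell (w : Weyl P) :
    Nat.card {y : G // y ∈ cell P w} = cellCard P w * Nat.card P.B := by
  have e : {y : G | y ∈ cell P w} = QuotientGroup.mk ⁻¹' cosets P w := by
    ext y
    exact (mk_mem_cosets).symm
  rw [cellCard, mul_comm, ← Nat.card_prod]
  exact Nat.card_congr ((Equiv.setCongr e).trans
    (QuotientGroup.preimageMkEquivSubgroupProdSet P.B (cosets P w)))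

/-- Left multiplication by a generator. -/
theorem conv_gen {q : ℕ} (hq : ∀ s : P.S, cellCard P (gen P s) = q) (s : P.S)
    (f : Weyl P → ℂ) :
    conv (lift' P (Hecke.single (gen P s))) (lift' P f) =
      lift' P (Hecke.lgen (gen P) (q : ℂ) s f) := by
  classical
  funext x
  set v := typ P x with hv
  have hx := mem_typ (P := P) x
  rw [← hv] at hx
  set C := Finset.univ.filter fun y : G => y ∈ cell P (gen P s) with hC
  have hcardC : (C.card : ℂ) = (q : ℂ) * (Nat.card P.B : ℂ) := by
    rw [hC, ← Fintype.card_subtype, ← Nat.card_eq_fintype_card, card_cell, hq, Nat.cast_mul]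
  have hB0 : (Nat.card P.B : ℂ) ≠ 0 := Nat.cast_ne_zero.2 Nat.card_pos.ne'
  have hsum : conv (lift' P (Hecke.single (gen P s))) (lift' P f) x =
      (Nat.card P.B : ℂ)⁻¹ * ((Nat.card P.B : ℂ)⁻¹ * ∑ y ∈ C, f (typ P (y⁻¹ * x))) := by
    rw [Finset.mul_sum, Finset.mul_sum, hC, Finset.sum_filter]
    refine Finset.sum_congr rfl fun y _ => ?_
    simp only [lift'_apply, Hecke.single]
    by_cases hy : y ∈ cell P (gen P s)
    · rw [typ_eq hy, if_pos rfl, if_pos hy]; ring
    · rw [if_neg, if_neg hy]
      · ring
      · exact fun e => hy (e ▸ mem_typ y)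
  rw [hsum, lift'_apply, ← hv]
  congr 1
  simp only [Hecke.lgen, LinearMap.coe_mk, AddHom.coe_mk]
  have hinv : ∀ y ∈ C, y⁻¹ ∈ cell P (gen P s) := fun y hy => by
    have := inv_cell (Finset.mem_filter.1 hy).2
    rwa [gen_inv] at this
  by_cases hdown : len (gen P) (gen P s * v) < len (gen P) v
  · rw [if_pos hdown]
    -- the elements lowering the type form one coset
    obtain ⟨n, hn⟩ := QuotientGroup.mk_surjective (gen P s * v)
    have hw : v = QuotientGroup.mk ((⟨(s : G), P.subset s.2⟩ : P.N) * n) := by
      rw [QuotientGroup.mk_mul, hn, ← gen, gens.cancel_left]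
    rw [hw] at hx
    obtain ⟨c, hc, c', hc', ex⟩ := mem_cell_mk.1 hx
    set y₀ : G := c * (s : G) with hy₀
    have hy₀C : y₀ ∈ cell P (gen P s) := left_cell (gen_mem_cell s) hc
    have hy₀x : y₀⁻¹ * x ∈ cell P (gen P s * v) := by
      rw [← hn, ex, hy₀]
      have h3 := right_cell (mk_mem_cell n) hc'
      convert h3 using 1
      simp [Subgroup.coe_mul, mul_assoc]
    have hiff : ∀ y ∈ C, typ P (y⁻¹ * x) = gen P s * v ↔ y₀⁻¹ * y ∈ P.B := by
      intro y hy
      constructor
      · intro e
        have hyx : y⁻¹ * x ∈ cell P (gen P s * v) := e ▸ mem_typ _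
        have h0 : y₀⁻¹ ∈ cell P (gen P s) := by
          have := inv_cell hy₀C
          rwa [gen_inv] at this
        rcases step' h0 (Finset.mem_filter.1 hy).2 with h | h
        · rwa [gen_sq, mem_cell_one] at h
        · exfalso
          have h4 := mul_cell_of_len s h (w := gen P s * v)
            (by rw [gens.cancel_left]; exact hdown.le) hyx
          rw [gens.cancel_left, show y₀⁻¹ * y * (y⁻¹ * x) = y₀⁻¹ * x by group] at h4
          have h5 := cell_inj h4 hy₀x
          rw [← h5] at hdown
          omega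
      · intro hb
        refine typ_eq ?_
        have := left_cell hy₀x (inv_mem hb)
        rwa [show (y₀⁻¹ * y)⁻¹ * (y₀⁻¹ * x) = y⁻¹ * x by group] at this
    have hcase : ∀ y ∈ C, f (typ P (y⁻¹ * x)) =
        f v + (if y₀⁻¹ * y ∈ P.B then f (gen P s * v) - f v else 0) := by
      intro y hy
      rcases step' (hinv y hy) (mem_typ (P := P) x) with h | h
      · rw [← hv] at h
        rw [typ_eq h, if_pos ((hiff y hy).1 (typ_eq h))]
        ring
      · rw [← hv] at h
        rw [typ_eq h, if_neg, add_zero]
        intro hb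
        have := (hiff y hy).2 hb
        rw [typ_eq h] at this
        rw [← this] at hdown
        omega
    rw [Finset.sum_congr rfl hcase, Finset.sum_add_distrib, Finset.sum_const, ← Finset.sum_filter,
      Finset.sum_const, nsmul_eq_mul, nsmul_eq_mul, hcardC]
    have hA : ((C.filter fun y => y₀⁻¹ * y ∈ P.B).card : ℂ) = (Nat.card P.B : ℂ) := by
      rw [Nat.cast_inj, Nat.card_eq_fintype_card, Fintype.card_subtype]
      refine (Finset.card_bij (fun b _ => y₀ * b) ?_ (fun a _ b _ e => mul_left_cancel e) ?_).symm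
      · intro b hb
        simp only [hC, Finset.mem_filter, Finset.mem_univ, true_and] at hb ⊢
        exact ⟨right_cell hy₀C hb, by simpa using hb⟩
      · intro y hy
        simp only [Finset.mem_filter] at hy
        exact ⟨y₀⁻¹ * y, by simp [hy.2], by group⟩
    rw [hA]
    field_simp
    ring
  · rw [if_neg hdown]
    have hcase : ∀ y ∈ C, f (typ P (y⁻¹ * x)) = f (gen P s * v) := fun y hy => by
      rw [typ_eq (mul_cell_of_len s (hinv y hy) (not_lt.1 hdown) (mem_typ x))]
    rw [Finset.sum_congr rfl hcase, Finset.sum_const, nsmul_eq_mul, hcardC]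
    field_simp

/-- Reversing a convolution. -/
lemma conv_inv (a b : G → ℂ) (x : G) :
    conv a b x⁻¹ = conv (fun y => b y⁻¹) (fun y => a y⁻¹) x := by
  rw [conv_eq_sum_right (fun y => b y⁻¹)]
  refine Finset.sum_congr rfl fun y _ => ?_
  rw [inv_inv, mul_inv_rev, mul_comm]

/-- Right multiplication by a generator. -/
theorem conv_gen_right {q : ℕ} (hq : ∀ s : P.S, cellCard P (gen P s) = q) (s : P.S)
    (f : Weyl P → ℂ) :
    conv (lift' P f) (lift' P (Hecke.single (gen P s))) =
      lift' P (Hecke.rgen (gen P) (q : ℂ) s f) := by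
  classical
  funext x
  have h1 : (fun y => lift' P f y⁻¹) = lift' P (Hecke.flip' f) := by
    funext y; simp only [lift'_apply, typ_inv, Hecke.flip_apply]
  have h2 : (fun y => lift' P (Hecke.single (gen P s)) y⁻¹) =
      lift' P (Hecke.single (gen P s)) := by
    funext y
    simp only [lift'_apply, typ_inv, Hecke.single]
    congr 1
    simp only [inv_eq_iff_eq_inv, gen_inv]
    congr
  conv_lhs => rw [← inv_inv x, conv_inv, h1, h2, conv_gen hq]
  simp only [lift'_apply, Hecke.rgen, LinearMap.comp_apply, Hecke.flip_apply, typ_inv]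

/-- The number of constituents of the permutation character on the cosets of `B`. -/
theorem card_constituents {q : ℕ} (hq0 : 0 < q) (hq : ∀ s : P.S, cellCard P (gen P s) = q) :
    Nat.card {χ : Cfsg.IrrCharacter G // ∃ φ : G → ℂ, Cfsg.IsCharacter G φ ∧
      Cfsg.fixedPointCharacter P.B = (χ : G → ℂ) + φ} = Nat.card (ConjClasses (Weyl P)) := by
  classical
  have : Fintype P.B := Fintype.ofFinite _
  rw [Nat.card_congr (Equiv.subtypeEquivRight fun χ => constituent_iff P.B χ), ← finrank_biCenter]
  have : Fintype (Weyl P) := Fintype.ofFinite _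
  have : Finite P.S := Subtype.finite
  rw [← Hecke.finrank_center gens exchange len_gen_mul_ne (ι := P.S) hq0]
  have e : biCenter P.B = (Hecke.center (gen P) (q : ℂ)).map (lift' P) := by
    refine le_antisymm (fun z hz => ?_) ?_
    · obtain ⟨φ, rfl⟩ := exists_lift' hz.1
      refine ⟨φ, (Hecke.mem_center _).2 fun s => lift'_injective ?_, rfl⟩
      rw [← conv_gen hq, ← conv_gen_right hq, ← hz.2 _ (lift'_mem _)]
    · rintro _ ⟨φ, hφ, rfl⟩
      refine ⟨lift'_mem φ, fun f hf => ?_⟩
      obtain ⟨ψ, rfl⟩ := exists_lift' hf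
      have key : ∀ L : List P.S, IsRed (gen P) L →
          conv (lift' P φ) (lift' P (Hecke.single (wprod (gen P) L))) =
            conv (lift' P (Hecke.single (wprod (gen P) L))) (lift' P φ) := by
        intro L
        induction L with
        | nil =>
          intro _
          rw [wprod_nil, lift'_one, conv_unit fun b hb x => ((lift'_mem φ) b hb x).2,
            unit_conv fun b hb x => ((lift'_mem φ) b hb x).1]
        | cons s L ih =>
          intro hL
          have h1 := gens.red_tail hL
          have hup : len (gen P) (wprod (gen P) L) ≤ len (gen P) (gen P s * wprod (gen P) L) := by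
            unfold IsRed at hL h1
            rw [wprod_cons, List.length_cons] at hL
            omega
          rw [wprod_cons, ← Hecke.lgen_single_up gens exchange len_gen_mul_ne (t := (q : ℂ)) hup,
            ← conv_gen hq, ← conv_assoc, conv_gen_right hq, ← (Hecke.mem_center _).1 hφ s,
            ← conv_gen hq, conv_assoc, ih h1, ← conv_assoc]
      have hψ : ψ = ∑ w, ψ w • Hecke.single w := by
        funext v
        simp [Finset.sum_apply, Hecke.single]
      rw [hψ, map_sum, conv_sum_left, conv_sum_right]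
      refine Finset.sum_congr rfl fun w _ => ?_
      rw [map_smul, conv_smul_left, conv_smul_right]
      congr 1
      obtain ⟨L, hL, hw, -⟩ := gens.exists_red w
      rw [← hw]
      exact key L hL
  rw [(LinearEquiv.ofEq _ _ e).finrank_eq,
    ← (Submodule.equivMapOfInjective _ lift'_injective _).finrank_eq]

end CfsgLib.BN
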