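import Cfsg.Agent.Lib.BNPair.Basic

/-!
Consequences: parabolic subgroups, Tits's simplicity criterion, rank one.
-/

set_option autoImplicit false

namespace CfsgLib.BN

open CfsgLib.Coxeter

variable {G : Type*} [Group G] {P : Cfsg.BNPair G}

/-- A conjugate of a parabolic subgroup lying over a parabolic subgroup. -/
theorem conj_parabolic {J K : Set G} {g : G}
    (h : (P.parabolic J).map (MulAut.conj g).toMonoidHom = P.parabolic K) :
    g ∈ P.parabolic K ∧ P.parabolic J = P.parabolic K := by
  have hconj : ∀ x, x ∈ P.parabolic J ↔ g * x * g⁻¹ ∈ P.parabolic K := fun x => by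
    rw [← h]
    exact ⟨fun hx => ⟨x, hx, rfl⟩, fun ⟨y, hy, e⟩ => by
      have : y = x := by simpa using e
      exact this ▸ hy⟩
  obtain ⟨w, hw⟩ := exists_cell (P := P) g
  obtain ⟨L, hL, rfl, -⟩ := gens.exists_red w
  have hgK : g ∈ P.parabolic K := by
    refine (letters_mem hL hw (B_le_parabolic K) fun b hb => ?_).1
    exact (hconj b).1 (B_le_parabolic J hb)
  refine ⟨hgK, le_antisymm (fun x hx => ?_) (fun x hx => ?_)⟩
  · have := mul_mem (mul_mem (inv_mem hgK) ((hconj x).1 hx)) hgK
    simpa [mul_assoc] using this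
  · rw [hconj]; exact mul_mem (mul_mem hgK hx) (inv_mem hgK)

theorem normalizer_parabolic {J : Set G} :
    Subgroup.normalizer (P.parabolic J : Set G) = P.parabolic J := by
  refine le_antisymm (fun g hg => (conj_parabolic (J := J) (K := J) (g := g) ?_).1) Subgroup.le_normalizer
  ext x
  rw [Subgroup.mem_normalizer_iff] at hg
  constructor
  · rintro ⟨y, hy, rfl⟩; exact (hg y).1 hy
  · intro hx
    refine ⟨g⁻¹ * x * g, (hg _).2 (by simpa [mul_assoc] using hx), ?_⟩
    simp [mul_assoc]

theorem parabolic_le_iff {J K : Set G} (hJ : J ⊆ P.S) (hK : K ⊆ P.S) :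
    P.parabolic J ≤ P.parabolic K ↔ J ⊆ K := by
  refine ⟨fun h s hs => ?_, fun h => sup_le_sup_left (Subgroup.closure_mono h) _⟩
  exact mem_of_mem_parabolic hK (s := ⟨s, hJ hs⟩)
    (h (Subgroup.mem_sup_right (Subgroup.subset_closure hs)))

theorem parabolic_injective {J K : Set G} (hJ : J ⊆ P.S) (hK : K ⊆ P.S)
    (h : P.parabolic J = P.parabolic K) : J = K :=
  ((parabolic_le_iff hJ hK).1 h.le).antisymm ((parabolic_le_iff hK hJ).1 h.ge)

theorem parabolic_inf {J K : Set G} (hJ : J ⊆ P.S) (hK : K ⊆ P.S) :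
    P.parabolic J ⊓ P.parabolic K = P.parabolic (J ∩ K) := by
  have hB : P.B ≤ P.parabolic J ⊓ P.parabolic K := le_inf (B_le_parabolic J) (B_le_parabolic K)
  conv_lhs => rw [eq_parabolic_of_le hB]
  congr 1
  ext s
  constructor
  · rintro ⟨hs, hsJ, hsK⟩
    exact ⟨mem_of_mem_parabolic hJ (s := ⟨s, hs⟩) hsJ, mem_of_mem_parabolic hK (s := ⟨s, hs⟩) hsK⟩
  · rintro ⟨hsJ, hsK⟩
    exact ⟨hJ hsJ, Subgroup.mem_sup_right (Subgroup.subset_closure hsJ),
      Subgroup.mem_sup_right (Subgroup.subset_closure hsK)⟩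

theorem gen_not_mem {s : G} (hs : s ∈ P.S) :
    s ∉ Subgroup.closure (P.S \ {s}) ⊔ (P.B ⊓ P.N) := fun h => by
  have h1 : s ∈ P.parabolic (P.S \ {s}) :=
    (sup_le le_sup_right (inf_le_left.trans le_sup_left) :
      Subgroup.closure (P.S \ {s}) ⊔ (P.B ⊓ P.N) ≤ P.B ⊔ Subgroup.closure (P.S \ {s})) h
  exact (mem_of_mem_parabolic Set.sdiff_subset (s := ⟨s, hs⟩) h1).2 rfl

theorem sup_closure_singleton {n : G} (hn : n ∈ P.N) :
    P.B ⊔ Subgroup.closure {n} = P.B ⊔ P.B.map (MulAut.conj n).toMonoidHom := by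
  obtain ⟨L, hL, e, -⟩ := gens.exists_red (QuotientGroup.mk (⟨n, hn⟩ : P.N) : Weyl P)
  refine le_antisymm (sup_le le_sup_left ((Subgroup.closure_le _).2 ?_))
    (sup_le le_sup_left ?_)
  · rintro x rfl
    exact (letters_mem hL (e ▸ mk_mem_cell _) (M := P.B ⊔ P.B.map (MulAut.conj x).toMonoidHom)
      le_sup_left fun b hb => Subgroup.mem_sup_right ⟨b, hb, rfl⟩).1
  · rintro _ ⟨b, hb, rfl⟩
    have h1 : n ∈ P.B ⊔ Subgroup.closure {n} :=
      Subgroup.mem_sup_right (Subgroup.subset_closure rfl)
    exact mul_mem (mul_mem h1 (Subgroup.mem_sup_left hb)) (inv_mem h1)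

/-- The parabolic of one generator. -/
theorem mem_parabolic_singleton {s : P.S} {g : G} :
    g ∈ P.parabolic {(s : G)} ↔ g ∈ P.B ∨ g ∈ cell P (gen P s) := by
  constructor
  · intro hg
    obtain ⟨L, hL, hLJ, hw⟩ := (mem_parabolic (Set.singleton_subset_iff.2 s.2)).1 hg
    have hL' : ∀ a ∈ L, a = s := fun a ha => Subtype.ext (hLJ a ha)
    rcases L with _ | ⟨a, _ | ⟨b, L⟩⟩
    · exact Or.inl (mem_cell_one.1 hw)
    · right
      rw [hL' a List.mem_cons_self] at hw
      simpa using hw
    · exfalso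
      obtain rfl := hL' a List.mem_cons_self
      obtain rfl := hL' b (List.mem_cons_of_mem _ List.mem_cons_self)
      have h1 := len_le (σ := gen P) L
      unfold IsRed at hL
      rw [wprod_cons, wprod_cons, gens.cancel_left, List.length_cons, List.length_cons] at hL
      omega
  · rintro (hg | hg)
    · exact B_le_parabolic _ hg
    · obtain ⟨b, hb, b', hb', rfl⟩ := mem_gen_cell hg
      exact mul_mem (mul_mem (B_le_parabolic _ hb) (Subgroup.mem_sup_right (Subgroup.subset_closure rfl)))
        (B_le_parabolic _ hb')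

theorem two_pretransitive (h : P.rank = 1) : MulAction.IsMultiplyPretransitive G (G ⧸ P.B) 2 := by
  obtain ⟨hsub, ⟨s⟩⟩ := Nat.card_eq_one_iff_unique.1 h
  have hS : P.S = {(s : G)} := Set.eq_singleton_iff_unique_mem.2
    ⟨s.2, fun x hx => congrArg Subtype.val (hsub.elim (⟨x, hx⟩ : P.S) s)⟩
  have hsplit : ∀ g : G, g ∉ P.B → ∃ b ∈ P.B, ∃ b' ∈ P.B, g = b * s * b' := fun g hg => by
    have hmem : g ∈ P.parabolic {(s : G)} := by
      rw [← hS]
      have htop : P.parabolic P.S = ⊤ := by
        rw [eq_top_iff, ← P.sup_eq_top, ← P.closure_sup]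
        exact sup_le le_sup_left (sup_le le_sup_right (inf_le_left.trans le_sup_left))
      rw [htop]; exact Subgroup.mem_top g
    exact mem_gen_cell ((mem_parabolic_singleton.1 hmem).resolve_left hg)
  -- every pair is a translate of the standard one
  have key : ∀ a b : G ⧸ P.B, a ≠ b → ∃ g : G, g • ((1 : G) : G ⧸ P.B) = a ∧
      g • ((s : G) : G ⧸ P.B) = b := by
    intro a b hab
    induction a using QuotientGroup.induction_on with | H x => ?_
    induction b using QuotientGroup.induction_on with | H y => ?_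
    have hxy : x⁻¹ * y ∉ P.B := fun e => hab (QuotientGroup.eq.2 e)
    obtain ⟨c, hc, c', hc', e⟩ := hsplit _ hxy
    refine ⟨x * c, ?_, ?_⟩
    · rw [MulAction.Quotient.smul_mk, smul_eq_mul, mul_one, QuotientGroup.eq]
      simpa using inv_mem hc
    · rw [MulAction.Quotient.smul_mk, smul_eq_mul, QuotientGroup.eq]
      have : y = x * (c * s * c') := by rw [← e]; group
      rw [this]; simpa [mul_assoc] using hc'
  rw [MulAction.is_two_pretransitive_iff]
  intro a b c d hab hcd
  obtain ⟨g, hga, hgb⟩ := key a b hab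
  obtain ⟨g', hgc, hgd⟩ := key c d hcd
  exact ⟨g' * g⁻¹, by rw [mul_smul, ← hga, inv_smul_smul, hgc],
    by rw [mul_smul, ← hgb, inv_smul_smul, hgd]⟩

/-- Tits's simplicity criterion. -/
theorem isSimpleGroup [Nontrivial G] (hirr : P.Irreducible) (hsolv : Group.IsSolvable P.B)
    (hperf : commutator G = ⊤) (hcore : P.B.normalCore = ⊥) : IsSimpleGroup G := by
  refine ⟨fun H hH => ?_⟩
  let M : Subgroup G := P.B ⊔ H
  set J : Set G := P.S ∩ (M : Set G) with hJdef
  have hM : M = P.parabolic J := eq_parabolic_of_le le_sup_left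
  have hcomm : ∀ r ∈ J, ∀ s ∈ P.S \ J, r * s * r⁻¹ * s⁻¹ ∈ P.B := by
    rintro r₀ ⟨hrS, hrM⟩ s₀ ⟨hsS, hsJ⟩
    let r : P.S := ⟨r₀, hrS⟩
    let s : P.S := ⟨s₀, hsS⟩
    have hsM : (s : G) ∉ M := fun e => hsJ ⟨hsS, e⟩
    have hne : gen P r ≠ gen P s := fun e => hsM (by
      rw [← gen_injective e]; exact hrM)
    obtain ⟨b, hb, h, hh, e⟩ : ∃ b ∈ P.B, ∃ h ∈ H, (r : G) = b * h := by
      have : (r : G) ∈ (↑(P.B ⊔ H) : Set G) := hrM
      rw [Subgroup.mul_normal] at this
      obtain ⟨b, hb, h, hh, e⟩ := this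
      exact ⟨b, hb, h, hh, e.symm⟩
    have hhr : h ∈ cell P (gen P r) := by
      have : h = b⁻¹ * r := by rw [e]; group
      rw [this]; exact left_cell (gen_mem_cell r) (inv_mem hb)
    have hr1 : len (gen P) (gen P r) = 1 := len_gen_eq_one r
    have hsr : len (gen P) (gen P s * gen P r) = 2 := by
      have h1 := gens.len_gen_mul_le s (gen P r)
      have h2 : len (gen P) (gen P s * gen P r) ≠ 0 := fun e0 =>
        hne (by
          have := gens.len_eq_zero.1 e0
          rw [mul_eq_one_iff_inv_eq, gen_inv] at this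
          exact this.symm)
      have h3 := len_gen_mul_ne s (gen P r)
      omega
    have hsh : (s : G) * h ∈ cell P (gen P s * gen P r) :=
      mul_cell_of_len s (gen_mem_cell s) (by omega) hhr
    have hred : IsRed (gen P) [s, r] := by
      unfold IsRed; simpa using hsr
    have hconjM : (s : G) * h * (s : G)⁻¹ ∈ M :=
      Subgroup.mem_sup_right (hH.conj_mem h hh _)
    rcases step_right hsh (inv_gen_mem s) with hc | hc
    swap
    · exact absurd (letters_mem_of_mem hred (by simpa using hc) le_sup_left hconjM s List.mem_cons_self)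
        hsM
    suffices gen P s * gen P r * gen P s = gen P r by
      have hmk : (QuotientGroup.mk ((⟨r₀, P.subset hrS⟩ : P.N) * ⟨s₀, P.subset hsS⟩ *
          (⟨r₀, P.subset hrS⟩ : P.N)⁻¹ * (⟨s₀, P.subset hsS⟩ : P.N)⁻¹) : Weyl P) = 1 := by
        rw [QuotientGroup.mk_mul, QuotientGroup.mk_mul, QuotientGroup.mk_mul,
          QuotientGroup.mk_inv, QuotientGroup.mk_inv]
        show gen P r * gen P s * (gen P r)⁻¹ * (gen P s)⁻¹ = 1
        rw [gen_inv, gen_inv, mul_assoc, mul_assoc, ← mul_assoc (gen P s), this, gen_sq]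
      simpa using mk_eq_one.1 hmk
    have hnot : ¬ IsRed (gen P) [s, r, s] := fun hr3 => hsM
      (letters_mem_of_mem hr3 (by simpa [mul_assoc] using hc) le_sup_left hconjM s
        List.mem_cons_self)
    -- exchange in `[r, s]`
    have hrs : IsRed (gen P) [r, s] := by
      unfold IsRed
      have h0 := gens.len_inv (gen P s * gen P r)
      rw [_root_.mul_inv_rev, gen_inv, gen_inv, hsr] at h0
      simpa using h0
    have hle : len (gen P) (gen P s * wprod (gen P) [r, s]) ≤ [r, s].length := by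
      by_contra hgt
      refine hnot ?_
      have := len_le (σ := gen P) [s, r, s]
      unfold IsRed
      simp only [wprod_cons, wprod_nil, mul_one, List.length_cons, List.length_nil] at hgt this ⊢
      omega
    obtain ⟨j, hj, ej⟩ := exchange [r, s] s hrs hle
    simp only [List.length_cons, List.length_nil] at hj
    rcases j with _ | _ | j
    · exfalso
      simp only [wprod_cons, wprod_nil, mul_one, List.eraseIdx_cons_zero] at ej
      exact hne (by
        have h4 : gen P r * gen P s = 1 := mul_eq_left.1 ej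
        rw [mul_eq_one_iff_eq_inv, gen_inv] at h4
        exact h4)
    · simpa [mul_assoc] using ej
    · omega
  rcases J.eq_empty_or_nonempty with hJ | hJ
  · left
    have hle : H ≤ P.B := by
      have : M = P.B := by
        rw [hM, hJ, Cfsg.BNPair.parabolic, Subgroup.closure_empty, sup_bot_eq]
      rw [← this]; exact le_sup_right
    have := Subgroup.normal_le_normalCore.2 hle
    rw [hcore] at this
    exact le_bot_iff.1 this
  rcases (P.S \ J).eq_empty_or_nonempty with hJ' | hJ'
  swap
  · obtain ⟨r, hr, s, hs, hne⟩ := hirr J Set.inter_subset_left hJ hJ'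
    exact absurd (hcomm r hr s hs) hne
  right
  have hMtop : M = ⊤ := by
    have hle : P.N ≤ M := by
      rw [← P.closure_sup]
      refine sup_le ((Subgroup.closure_le _).2 fun s hs => ?_) (inf_le_left.trans le_sup_left)
      by_contra hsM
      exact (Set.eq_empty_iff_forall_notMem.1 hJ' s) ⟨hs, fun h => hsM h.2⟩
    rw [eq_top_iff, ← P.sup_eq_top]
    exact sup_le le_sup_left hle
  have hsurj : Function.Surjective ((QuotientGroup.mk' H).comp P.B.subtype) := by
    intro q
    induction q using QuotientGroup.induction_on with | H g => ?_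
    have : g ∈ (↑(P.B ⊔ H) : Set G) := by
      show g ∈ M
      rw [hMtop]; exact Subgroup.mem_top g
    rw [Subgroup.mul_normal] at this
    obtain ⟨b, hb, x, hx, rfl⟩ := this
    exact ⟨⟨b, hb⟩, QuotientGroup.eq.2 (by simpa using hx)⟩
  by_contra hne
  have := hsolv
  have : Group.IsSolvable (G ⧸ H) := Group.isSolvable_of_surjective hsurj
  have : Nontrivial (G ⧸ H) := by
    obtain ⟨g, hg⟩ : ∃ g, g ∉ H := by
      by_contra h; push Not at h; exact hne (eq_top_iff.2 fun x _ => h x)
    exact ⟨⟨g, 1, fun e => hg ((QuotientGroup.eq_one_iff g).1 e)⟩⟩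
  refine (Group.IsSolvable.commutator_lt_top_of_nontrivial (G := G ⧸ H)).ne ?_
  rw [eq_top_iff, ← Subgroup.map_top_of_surjective (QuotientGroup.mk' H)
    (QuotientGroup.mk'_surjective H), ← hperf]
  simp only [commutator_def, Subgroup.map_commutator]
  exact Subgroup.commutator_mono le_top le_top

/-- The Weyl group is a Coxeter group. -/
theorem exists_coxeter : ∃ (M : CoxeterMatrix P.S) (cs : CoxeterSystem M (Weyl P)),
    ∀ s, cs.simple s = gen P s :=
  ⟨_, exists_coxeterSystem gens gen_injective exchange⟩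

end CfsgLib.BN
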