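import Cfsg.Agent.Lib.BNPair.Main

/-!
A nontrivial normal subgroup of a group with an irreducible (B, N)-pair and core-free `B` generates
the group with `B` (Tits), without perfection.
-/

set_option autoImplicit false

namespace CfsgLib.BN

open CfsgLib.Coxeter

variable {G : Type*} [Group G] {P : Cfsg.BNPair G}

/-- A nontrivial normal subgroup and `B` generate the group. -/
theorem sup_eq_top_of_normal (hirr : P.Irreducible) (hcore : P.B.normalCore = ⊥) {H : Subgroup G}
    (hH : H.Normal) (hbot : H ≠ ⊥) : P.B ⊔ H = ⊤ := by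
  let M : Subgroup G := P.B ⊔ H
  set J : Set G := P.S ∩ (M : Set G) with hJdef
  have hM : M = P.parabolic J := eq_parabolic_of_le le_sup_left
  have hcomm : ∀ r ∈ J, ∀ s ∈ P.S \ J, r * s * r⁻¹ * s⁻¹ ∈ P.B := by
    rintro r₀ ⟨hrS, hrM⟩ s₀ ⟨hsS, hsJ⟩
    let r : P.S := ⟨r₀, hrS⟩
    let s : P.S := ⟨s₀, hsS⟩
    have hsM : (s : G) ∉ M := fun e => hsJ ⟨hsS, e⟩
    have hne : gen P r ≠ gen P s := fun e => hsM (by
      rw [← gen_injective e]; exact hrM)
    obtain ⟨b, hb, h, hh, e⟩ : ∃ b ∈ P.B, ∃ h ∈ H, (r : G) = b * h := by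
      have : (r : G) ∈ (↑(P.B ⊔ H) : Set G) := hrM
      rw [Subgroup.mul_normal] at this
      obtain ⟨b, hb, h, hh, e⟩ := this
      exact ⟨b, hb, h, hh, e.symm⟩
    have hhr : h ∈ cell P (gen P r) := by
      have : h = b⁻¹ * r := by rw [e]; group
      rw [this]; exact left_cell (gen_mem_cell r) (inv_mem hb)
    have hr1 : len (gen P) (gen P r) = 1 := len_gen_eq_one r
    have hsr : len (gen P) (gen P s * gen P r) = 2 := by
      have h1 := gens.len_gen_mul_le s (gen P r)
      have h2 : len (gen P) (gen P s * gen P r) ≠ 0 := fun e0 =>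
        hne (by
          have := gens.len_eq_zero.1 e0
          rw [mul_eq_one_iff_inv_eq, gen_inv] at this
          exact this.symm)
      have h3 := len_gen_mul_ne s (gen P r)
      omega
    have hsh : (s : G) * h ∈ cell P (gen P s * gen P r) :=
      mul_cell_of_len s (gen_mem_cell s) (by omega) hhr
    have hred : IsRed (gen P) [s, r] := by
      unfold IsRed; simpa using hsr
    have hconjM : (s : G) * h * (s : G)⁻¹ ∈ M :=
      Subgroup.mem_sup_right (hH.conj_mem h hh _)
    rcases step_right hsh (inv_gen_mem s) with hc | hc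
    swap
    · exact absurd (letters_mem_of_mem hred (by simpa using hc) le_sup_left hconjM s List.mem_cons_self)
        hsM
    suffices gen P s * gen P r * gen P s = gen P r by
      have hmk : (QuotientGroup.mk ((⟨r₀, P.subset hrS⟩ : P.N) * ⟨s₀, P.subset hsS⟩ *
          (⟨r₀, P.subset hrS⟩ : P.N)⁻¹ * (⟨s₀, P.subset hsS⟩ : P.N)⁻¹) : Weyl P) = 1 := by
        rw [QuotientGroup.mk_mul, QuotientGroup.mk_mul, QuotientGroup.mk_mul,
          QuotientGroup.mk_inv, QuotientGroup.mk_inv]
        show gen P r * gen P s * (gen P r)⁻¹ * (gen P s)⁻¹ = 1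
        rw [gen_inv, gen_inv, mul_assoc, mul_assoc, ← mul_assoc (gen P s), this, gen_sq]
      simpa using mk_eq_one.1 hmk
    have hnot : ¬ IsRed (gen P) [s, r, s] := fun hr3 => hsM
      (letters_mem_of_mem hr3 (by simpa [mul_assoc] using hc) le_sup_left hconjM s
        List.mem_cons_self)
    -- exchange in `[r, s]`
    have hrs : IsRed (gen P) [r, s] := by
      unfold IsRed
      have h0 := gens.len_inv (gen P s * gen P r)
      rw [_root_.mul_inv_rev, gen_inv, gen_inv, hsr] at h0
      simpa using h0
    have hle : len (gen P) (gen P s * wprod (gen P) [r, s]) ≤ [r, s].length := by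
      by_contra hgt
      refine hnot ?_
      have := len_le (σ := gen P) [s, r, s]
      unfold IsRed
      simp only [wprod_cons, wprod_nil, mul_one, List.length_cons, List.length_nil] at hgt this ⊢
      omega
    obtain ⟨j, hj, ej⟩ := exchange [r, s] s hrs hle
    simp only [List.length_cons, List.length_nil] at hj
    rcases j with _ | _ | j
    · exfalso
      simp only [wprod_cons, wprod_nil, mul_one, List.eraseIdx_cons_zero] at ej
      exact hne (by
        have h4 : gen P r * gen P s = 1 := mul_eq_left.1 ej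
        rw [mul_eq_one_iff_eq_inv, gen_inv] at h4
        exact h4)
    · simpa [mul_assoc] using ej
    · omega
  rcases J.eq_empty_or_nonempty with hJ | hJ
  · exfalso
    have hle : H ≤ P.B := by
      have : M = P.B := by
        rw [hM, hJ, Cfsg.BNPair.parabolic, Subgroup.closure_empty, sup_bot_eq]
      rw [← this]; exact le_sup_right
    have := Subgroup.normal_le_normalCore.2 hle
    rw [hcore] at this
    exact hbot (le_bot_iff.1 this)
  rcases (P.S \ J).eq_empty_or_nonempty with hJ' | hJ'
  swap
  · obtain ⟨r, hr, s, hs, hne⟩ := hirr J Set.inter_subset_left hJ hJ'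
    exact absurd (hcomm r hr s hs) hne
  have hMtop : M = ⊤ := by
    have hle : P.N ≤ M := by
      rw [← P.closure_sup]
      refine sup_le ((Subgroup.closure_le _).2 fun s hs => ?_) (inf_le_left.trans le_sup_left)
      by_contra hsM
      exact (Set.eq_empty_iff_forall_notMem.1 hJ' s) ⟨hs, fun h => hsM h.2⟩
    rw [eq_top_iff, ← P.sup_eq_top]
    exact sup_le le_sup_left hle
  exact hMtop

end CfsgLib.BN
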