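import Cfsg.Agent.Lib.BNPair.Alternating

/-!
Counting a conjugation invariant set of elements in the parabolic subgroups, by the alternating
sums over the parabolic subgroups inside one of them.
-/

set_option autoImplicit false

open CfsgLib.Coxeter

namespace CfsgLib.BN

universe u

variable {G : Type u} [Group G] {P : Cfsg.BNPair G}

lemma par_mono {J K : Set P.S} (hKJ : K ⊆ J) : par P K ≤ par P J :=
  sup_le_sup_left (Subgroup.closure_mono (Set.image_mono hKJ)) _

lemma cell_subset_par {J : Set P.S} {w : Weyl P} (hw : w ∈ std (gen P) J) {g : G}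
    (hg : g ∈ cell P w) : g ∈ par P J := by
  obtain ⟨L, hL, rfl⟩ := gens.exists_std_word hw
  obtain ⟨b, hb, b', hb', rfl⟩ := (mk_rep L ▸ mem_cell_mk).1 hg
  exact mul_mem (mul_mem (B_le_par J hb) (rep_mem_par hL)) (B_le_par J hb')

lemma par_cell_mem {J : Set P.S} {w : Weyl P} {g : G} (hg : g ∈ cell P w) (hJ : g ∈ par P J) :
    w ∈ std (gen P) J := by
  obtain ⟨v, hv, hgv⟩ := cell_par hJ
  exact cell_inj hg hgv ▸ hv

lemma empty_lfree (z : Weyl P) : LFree (gen P) (∅ : Set P.S) z :=
  fun j hj => absurd hj (Set.notMem_empty j)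

/-- A free element times an element of the standard subgroup is length additive. -/
lemma len_free_mul {K : Set P.S} {w v : Weyl P} (hw : RFree (gen P) K w)
    (hv : v ∈ std (gen P) K) :
    len (gen P) (w * v) = len (gen P) w + len (gen P) v := by
  obtain ⟨p, hp, q, hq, hmin⟩ := Gens.exists_min (σ := gen P) (∅ : Set P.S) K w
  have hw1 : p⁻¹ * (p * w * q) * q⁻¹ = w := by group
  have e3 := gens.eq_min_of_free exchange hmin (inv_mem hp) (inv_mem hq)
    (by rw [hw1]; exact empty_lfree _) (by rw [hw1]; exact hw)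
  rw [hw1] at e3
  rw [← e3] at hmin
  obtain ⟨A, C, hA, -, e, hlen⟩ := gens.additive3_of_min exchange hmin (one_mem _) hv
  have hA0 : A = [] := List.eq_nil_iff_forall_not_mem.2 fun i hi => hA i hi
  subst hA0
  rw [one_mul, wprod_nil, one_mul, mul_right_inj] at e
  rw [one_mul, List.length_nil, zero_add] at hlen
  have h1 := gens.len_mul_le w v
  have h2 : len (gen P) v ≤ C.length := e ▸ len_le C
  omega

variable [Finite G]

/-- The fixed cosets of `P_K` inside `P_J`. -/
noncomputable def fixIn (P : Cfsg.BNPair G) (J K : Set P.S) (g : G) : ℕ :=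
  Nat.card {z : G ⧸ par P K // (∃ y ∈ par P J, (y : G ⧸ par P K) = z) ∧ g • z = z}

/-- The number of cosets of `B` in a cell. -/
noncomputable def cellCard (P : Cfsg.BNPair G) (w : Weyl P) : ℕ :=
  Nat.card {z : G ⧸ P.B // z ∈ cosets P w}

open Classical in
theorem fixIn_apply [Fintype (Weyl P)] {J K : Set P.S} (hKJ : K ⊆ J) {b : G} (hb : b ∈ P.B) :
    fixIn P J K b = ∑ w ∈ Finset.univ.filter (fun w => w ∈ std (gen P) J ∧ RFree (gen P) K w),
      fixCell P b w := by
  set Z := {z : G ⧸ P.B // ∃ w, (w ∈ std (gen P) J ∧ RFree (gen P) K w) ∧ z ∈ cosets P w ∧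
    b • z = z}
  have h1 : Nat.card Z = fixIn P J K b := by
    refine Nat.card_eq_of_bijective (fun z => ⟨Subgroup.quotientMapOfLE (B_le_par K) z.1, ?_, ?_⟩)
      ⟨?_, ?_⟩
    · obtain ⟨z, w, hw, ⟨g, hg, rfl⟩, -⟩ := z
      exact ⟨g, cell_subset_par hw.1 hg, rfl⟩
    · obtain ⟨z, w, -, ⟨g, -, rfl⟩, hz⟩ := z
      exact congrArg (Subgroup.quotientMapOfLE (B_le_par K)) hz
    · intro p₁ p₂ e
      obtain ⟨z, w, hw, ⟨x, hx, rfl⟩, hz₁⟩ := p₁
      obtain ⟨z', w', hw', ⟨y, hy, rfl⟩, hz₂⟩ := p₂
      have e' := congrArg Subtype.val e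
      simp only [Subgroup.quotientMapOfLE_apply_mk, QuotientGroup.eq] at e'
      exact Subtype.ext (QuotientGroup.eq.2 (cell_unique_free hw.2 hw'.2 hx hy e').2)
    · rintro ⟨z, ⟨g, hgJ, rfl⟩, hz⟩
      obtain ⟨w, hgw⟩ := exists_cell (P := P) g
      obtain ⟨x, hl, hr, y, hy, p, hp, q, hq, eg⟩ := exists_free_factor (∅ : Set P.S) K hgw
      have hpB : p ∈ P.B := by
        have : par P (∅ : Set P.S) = P.B := by simp [par, Cfsg.BNPair.parabolic]
        rwa [this] at hp
      have hpy := left_cell hy hpB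
      have hpJ : p * y ∈ par P J := by
        have := mul_mem hgJ (inv_mem (par_mono hKJ hq))
        rwa [eg, mul_inv_cancel_right] at this
      have hgy : ((p * y : G) : G ⧸ par P K) = (g : G ⧸ par P K) := by
        rw [QuotientGroup.eq, eg, inv_mul_cancel_left]
        exact hq
      refine ⟨⟨((p * y : G) : G ⧸ P.B), x, ⟨par_cell_mem hpy hpJ, hr⟩, mk_mem_cosets.2 hpy, ?_⟩,
        Subtype.ext hgy⟩
      rw [← hgy] at hz
      have hb' : b • ((p * y : G) : G ⧸ par P K) = ((b * (p * y) : G) : G ⧸ par P K) := rfl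
      rw [hb', QuotientGroup.eq] at hz
      exact QuotientGroup.eq.2 (cell_unique_free hr hr (left_cell hpy hb) hpy hz).2
  rw [← h1]
  have : Fintype (G ⧸ P.B) := Fintype.ofFinite _
  simp only [fixCell, Nat.card_eq_fintype_card, Fintype.card_subtype, Z]
  rw [← Finset.card_biUnion]
  · congr 1
    ext z
    simp
  · intro v _ w _ hvw
    rw [Function.onFun, Finset.disjoint_left]
    intro z hzv hzw
    simp only [Finset.mem_filter, Finset.mem_univ, true_and] at hzv hzw
    obtain ⟨g, hg, rfl⟩ := hzv.1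
    exact hvw (cell_inj hg (mk_mem_cosets.1 hzw.1))

open Classical in
/-- Cosets of `B` in `P_J` whose type has all descents in `K`. -/
theorem index_mul_cellCard [Fintype (Weyl P)] {J K : Set P.S} (hKJ : K ⊆ J) {wK : Weyl P}
    (hwK : wK ∈ std (gen P) K)
    (hdK : ∀ i ∈ K, len (gen P) (wK * gen P i) < len (gen P) wK) :
    fixIn P J K 1 * cellCard P wK =
      ∑ w ∈ Finset.univ.filter (fun w => w ∈ std (gen P) J ∧
        ∀ i ∈ K, len (gen P) (w * gen P i) < len (gen P) w), cellCard P w := by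
  -- both sides count the same cosets, through the free representative of each coset of `P_K`
  set A := {z : G ⧸ P.B // ∃ w, (w ∈ std (gen P) J ∧ RFree (gen P) K w) ∧ z ∈ cosets P w}
  set Z := {z : G ⧸ P.B // ∃ w, (w ∈ std (gen P) J ∧
    ∀ i ∈ K, len (gen P) (w * gen P i) < len (gen P) w) ∧ z ∈ cosets P w}
  have hA : Nat.card A = fixIn P J K 1 := by
    rw [fixIn_apply hKJ (one_mem _)]
    have : Fintype (G ⧸ P.B) := Fintype.ofFinite _
    simp only [fixCell, one_smul, and_true, Nat.card_eq_fintype_card, Fintype.card_subtype, A]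
    rw [← Finset.card_biUnion]
    · congr 1
      ext z
      simp
    · intro v _ w _ hvw
      rw [Function.onFun, Finset.disjoint_left]
      intro z hzv hzw
      simp only [Finset.mem_filter, Finset.mem_univ, true_and] at hzv hzw
      obtain ⟨g, hg, rfl⟩ := hzv
      exact hvw (cell_inj hg (mk_mem_cosets.1 hzw))
  have hZ : Nat.card Z = ∑ w ∈ Finset.univ.filter (fun w => w ∈ std (gen P) J ∧
      ∀ i ∈ K, len (gen P) (w * gen P i) < len (gen P) w), cellCard P w := by
    have : Fintype (G ⧸ P.B) := Fintype.ofFinite _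
    simp only [cellCard, Nat.card_eq_fintype_card, Fintype.card_subtype, Z]
    rw [← Finset.card_biUnion]
    · congr 1
      ext z
      simp
    · intro v _ w _ hvw
      rw [Function.onFun, Finset.disjoint_left]
      intro z hzv hzw
      simp only [Finset.mem_filter, Finset.mem_univ, true_and] at hzv hzw
      obtain ⟨g, hg, rfl⟩ := hzv
      exact hvw (cell_inj hg (mk_mem_cosets.1 hzw))
  rw [← hA, ← hZ, cellCard, ← Nat.card_prod]
  have hex : ∀ a : A, ∃ (x : G) (w : Weyl P),
      (w ∈ std (gen P) J ∧ RFree (gen P) K w) ∧ x ∈ cell P w ∧ (x : G ⧸ P.B) = a.1 := fun a => by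
    obtain ⟨w, hw, x, hx, e⟩ := a.2
    exact ⟨x, w, hw, hx, e⟩
  choose x w hw hx hxe using hex
  have hadd : ∀ (a : A) (y : G), y ∈ cell P wK → x a * y ∈ cell P (w a * wK) := fun a y hy =>
    mul_cell_of_add (len_free_mul (hw a).2 hwK) (hx a) hy
  refine Nat.card_eq_of_bijective (fun p => ⟨x p.1 • p.2.1, w p.1 * wK, ⟨?_, ?_⟩, ?_⟩) ⟨?_, ?_⟩
  · exact mul_mem (hw p.1).1 (Subgroup.closure_mono (Set.image_mono hKJ) hwK)
  · intro i hi
    rw [mul_assoc, len_free_mul (hw p.1).2 (mul_mem hwK (Subgroup.subset_closure ⟨i, hi, rfl⟩)),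
      len_free_mul (hw p.1).2 hwK]
    have := hdK i hi
    omega
  · obtain ⟨y, hy, e⟩ := p.2.2
    rw [← e]
    exact ⟨x p.1 * y, hadd _ _ hy, rfl⟩
  · rintro ⟨a, z, y, hy, rfl⟩ ⟨a', z', y', hy', rfl⟩ e
    have e1 := congrArg Subtype.val e
    change ((x a * y : G) : G ⧸ P.B) = ((x a' * y' : G) : G ⧸ P.B) at e1
    rw [QuotientGroup.eq] at e1
    have h3 : (x a)⁻¹ * x a' ∈ par P K := by
      have hy1 := cell_subset_par hwK hy
      have hy2 := cell_subset_par hwK hy'
      have := mul_mem (mul_mem hy1 (B_le_par K e1)) (inv_mem hy2)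
      rwa [show y * ((x a * y)⁻¹ * (x a' * y')) * y'⁻¹ = (x a)⁻¹ * x a' by group] at this
    obtain ⟨-, hB⟩ := cell_unique_free (hw a).2 (hw a').2 (hx a) (hx a') h3
    have ea : a = a' := Subtype.ext (by rw [← hxe a, ← hxe a', QuotientGroup.eq]; exact hB)
    subst ea
    refine Prod.ext rfl (Subtype.ext (QuotientGroup.eq.2 ?_))
    rwa [show (x a * y)⁻¹ * (x a * y') = y⁻¹ * y' by group] at e1
  · rintro ⟨z, v, ⟨hv, hdv⟩, g, hg, rfl⟩
    obtain ⟨f, hl, hr, y, hy, p, hp, q, hq, rfl⟩ := exists_free_factor (∅ : Set P.S) K hg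
    have hpB : p ∈ P.B := by
      have : par P (∅ : Set P.S) = P.B := by simp [par, Cfsg.BNPair.parabolic]
      rwa [this] at hp
    have hpy := left_cell hy hpB
    have hfJ : f ∈ std (gen P) J := by
      refine par_cell_mem hpy ?_
      have := mul_mem (cell_subset_par hv hg) (inv_mem (par_mono hKJ hq))
      rwa [mul_inv_cancel_right] at this
    let a : A := ⟨((p * y : G) : G ⧸ P.B), f, ⟨hfJ, hr⟩, mk_mem_cosets.2 hpy⟩
    have hxa := QuotientGroup.eq.1 (hxe a)
    have hwa : w a = f := cell_inj (hx a) (by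
      have := right_cell hpy (inv_mem hxa)
      rwa [mul_inv_rev, inv_inv, mul_inv_cancel_left] at this)
    have hq' : (x a)⁻¹ * (p * y * q) ∈ par P K := by
      have := mul_mem (B_le_par K hxa) hq
      rwa [mul_assoc] at this
    obtain ⟨u, hu, hcu⟩ := cell_par hq'
    have h4 := mul_cell_of_add (len_free_mul (hw a).2 hu) (hx a) hcu
    rw [mul_inv_cancel_left, hwa] at h4
    have ev : v = f * u := cell_inj hg h4
    have hu' : u = wK := by
      refine gens.descents_unique exchange hu hwK (fun i hi => ?_) hdK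
      have := hdv i hi
      rw [ev, mul_assoc, len_free_mul hr (mul_mem hu (Subgroup.subset_closure ⟨i, hi, rfl⟩)),
        len_free_mul hr hu] at this
      omega
    subst hu'
    refine ⟨(a, ⟨(((x a)⁻¹ * (p * y * q) : G) : G ⧸ P.B), mk_mem_cosets.2 hcu⟩), Subtype.ext ?_⟩
    show ((x a * ((x a)⁻¹ * (p * y * q)) : G) : G ⧸ P.B) = _
    rw [mul_inv_cancel_left]

open Classical in
/-- The number of elements of the set in each parabolic subgroup. -/
theorem card_in_par (U : Subgroup G) (isP : G → Prop) (hconj : ∀ g x, isP x → isP (g * x * g⁻¹))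
    (hU : ∀ x ∈ U, isP x) (hUB : U ≤ P.B)
    (hinto : ∀ (J : Set P.S) (x : G), x ∈ par P J → isP x → ∃ g ∈ par P J, g * x * g⁻¹ ∈ U)
    (R : Set P.S → Subgroup G) (hRU : ∀ J, R J ≤ U)
    (hRn : ∀ (J : Set P.S), ∀ g ∈ par P J, ∀ x ∈ R J, g * x * g⁻¹ ∈ R J)
    (hfix : ∀ (J : Set P.S) (w : Weyl P), w ∈ std (gen P) J →
      (∀ i ∈ J, len (gen P) (w * gen P i) < len (gen P) w) →
      cellCard P w * Nat.card ↥(R J) = Nat.card ↥U ∧
      ∀ x ∈ U, fixCell P x w = if x ∈ R J then cellCard P w else 0)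
    [Fintype P.S] (J : Finset P.S) :
    ∀ w ∈ std (gen P) (↑J : Set P.S),
      (∀ i ∈ J, len (gen P) (w * gen P i) < len (gen P) w) →
      Nat.card {x : G // x ∈ par P (↑J : Set P.S) ∧ isP x} = Nat.card ↥U * cellCard P w := by
  have : Fintype G := Fintype.ofFinite G
  have : Fintype (Weyl P) := Fintype.ofFinite _
  induction J using Finset.strongInduction with
  | _ J ih =>
    intro wJ hwJ hdJ
    set u := fun K : Finset P.S => Nat.card {x : G // x ∈ par P (↑K : Set P.S) ∧ isP x}
    -- alternating values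
    have halt : ∀ b ∈ P.B, ∑ K ∈ J.powerset, (-1 : ℤ) ^ K.card *
        (fixIn P (↑J : Set P.S) (↑K : Set P.S) b : ℤ) = fixCell P b wJ := by
      intro b hb
      have e : ∀ K ∈ J.powerset, (fixIn P (↑J : Set P.S) (↑K : Set P.S) b : ℤ) =
          ∑ w : Weyl P, if w ∈ std (gen P) (↑J : Set P.S) ∧ RFree (gen P) (↑K : Set P.S) w then
            (fixCell P b w : ℤ) else 0 := fun K hK => by
        rw [fixIn_apply (Finset.coe_subset.2 (Finset.mem_powerset.1 hK)) hb, Finset.sum_filter]
        push_cast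
        rfl
      rw [Finset.sum_congr rfl fun K hK => by rw [e K hK, Finset.mul_sum], Finset.sum_comm,
        Finset.sum_eq_single wJ (fun w _ hne => ?_) (fun hn => absurd (Finset.mem_univ _) hn)]
      · rw [Finset.sum_eq_single ∅ (fun K hK hne => ?_)
          (fun hn => absurd (Finset.empty_mem_powerset J) hn)]
        · have : RFree (gen P) (↑(∅ : Finset P.S) : Set P.S) wJ := fun k hk => by simp at hk
          rw [if_pos ⟨hwJ, this⟩]; simp
        · obtain ⟨k, hk⟩ := Finset.nonempty_iff_ne_empty.2 hne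
          rw [if_neg, mul_zero]
          rintro ⟨-, hf⟩
          have h1 := hdJ k (Finset.mem_powerset.1 hK hk)
          have h2 := hf k hk
          omega
      · by_cases hw : w ∈ std (gen P) (↑J : Set P.S)
        swap
        · simp [hw]
        obtain ⟨i, hi, hle⟩ : ∃ i ∈ J, len (gen P) w ≤ len (gen P) (w * gen P i) := by
          by_contra hc
          push Not at hc
          exact hne (gens.descents_unique exchange hw hwJ hc hdJ)
        set A := J.filter fun i => len (gen P) w ≤ len (gen P) (w * gen P i) with hA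
        have hmem : ∀ K ∈ J.powerset,
            (w ∈ std (gen P) (↑J : Set P.S) ∧ RFree (gen P) (↑K : Set P.S) w) ↔
              K ∈ A.powerset := fun K hK => by
          rw [Finset.mem_powerset] at hK ⊢
          exact ⟨fun h k hk => Finset.mem_filter.2 ⟨hK hk, h.2 k hk⟩,
            fun h => ⟨hw, fun k hk => (Finset.mem_filter.1 (h hk)).2⟩⟩
        rw [Finset.sum_congr rfl fun K hK => by rw [if_congr (hmem K hK) rfl rfl],
          show ∑ K ∈ J.powerset, (-1 : ℤ) ^ K.card * (if K ∈ A.powerset then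
              (fixCell P b w : ℤ) else 0) =
            (∑ K ∈ A.powerset, (-1 : ℤ) ^ K.card) * (fixCell P b w : ℤ) by
            rw [Finset.sum_mul]
            simp only [mul_ite, mul_zero]
            rw [Finset.sum_ite_mem,
              Finset.inter_eq_right.2 (Finset.powerset_mono.2 (Finset.filter_subset _ _))],
          Finset.sum_powerset_neg_one_pow_card_of_nonempty
            ⟨i, Finset.mem_filter.2 ⟨hi, hle⟩⟩, zero_mul]
    -- the double count
    set S := (Finset.univ : Finset G).filter fun x => x ∈ par P (↑J : Set P.S) ∧ isP x with hSdef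
    have hcount : ∀ K ∈ J.powerset, ∑ x ∈ S, fixIn P (↑J : Set P.S) (↑K : Set P.S) x =
        fixIn P (↑J : Set P.S) (↑K : Set P.S) 1 * u K := by
      intro K hK
      have hKJ := par_mono (P := P) (Finset.coe_subset.2 (Finset.mem_powerset.1 hK))
      have : Fintype (G ⧸ par P (↑K : Set P.S)) := Fintype.ofFinite _
      set Z := (Finset.univ : Finset (G ⧸ par P (↑K : Set P.S))).filter fun z =>
        ∃ y ∈ par P (↑J : Set P.S), (y : G ⧸ par P (↑K : Set P.S)) = z with hZ
      have e : ∀ x : G, fixIn P (↑J : Set P.S) (↑K : Set P.S) x =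
          (Z.filter fun z => x • z = z).card := fun x => by
        rw [fixIn, Nat.card_eq_fintype_card, Fintype.card_subtype, hZ, Finset.filter_filter]
      have h1 : fixIn P (↑J : Set P.S) (↑K : Set P.S) 1 = Z.card := by
        rw [e]; simp
      rw [Finset.sum_congr rfl fun x _ => e x, h1]
      have hswap := Finset.sum_card_bipartiteAbove_eq_sum_card_bipartiteBelow
        (s := S) (t := Z) (fun x z => x • z = z)
      simp only [Finset.bipartiteAbove, Finset.bipartiteBelow] at hswap
      rw [hswap, ← smul_eq_mul, ← Finset.sum_const]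
      refine Finset.sum_congr rfl fun z hz => ?_
      obtain ⟨y, hy, rfl⟩ := (Finset.mem_filter.1 hz).2
      have hst : ∀ x : G, x • (y : G ⧸ par P (↑K : Set P.S)) = (y : G ⧸ par P (↑K : Set P.S)) ↔
          y⁻¹ * x * y ∈ par P (↑K : Set P.S) := fun x => by
        rw [show x • (y : G ⧸ par P (↑K : Set P.S)) = ((x * y : G) : G ⧸ par P (↑K : Set P.S))
          from rfl, eq_comm, QuotientGroup.eq, mul_assoc]
      simp only [u, Nat.card_eq_fintype_card, Fintype.card_subtype]
      refine Finset.card_bij (fun x _ => y⁻¹ * x * y) ?_ (fun a _ b _ e => ?_) fun x hx => ?_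
      · intro x hx
        simp only [hSdef, Finset.mem_filter, Finset.mem_univ, true_and] at hx ⊢
        exact ⟨(hst x).1 hx.2, by simpa using hconj y⁻¹ x hx.1.2⟩
      · exact mul_left_cancel (mul_right_cancel e)
      · simp only [Finset.mem_filter, Finset.mem_univ, true_and] at hx
        refine ⟨y * x * y⁻¹, ?_, by group⟩
        simp only [hSdef, Finset.mem_filter, Finset.mem_univ, true_and]
        refine ⟨⟨mul_mem (mul_mem hy (hKJ hx.1)) (inv_mem hy), hconj y x hx.2⟩, (hst _).2 ?_⟩
        rw [show y⁻¹ * (y * x * y⁻¹) * y = x by group]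
        exact hx.1
    -- the values on the set
    obtain ⟨hcR, hval⟩ := hfix (↑J : Set P.S) wJ hwJ hdJ
    have hclass : ∀ K ∈ J.powerset, ∀ g ∈ par P (↑J : Set P.S), ∀ x,
        fixIn P (↑J : Set P.S) (↑K : Set P.S) (g * x * g⁻¹) =
          fixIn P (↑J : Set P.S) (↑K : Set P.S) x := by
      intro K _ g hg x
      refine Nat.card_congr (Equiv.subtypeEquiv (MulAction.toPerm g⁻¹) fun z => ?_)
      simp only [MulAction.toPerm_apply]
      refine and_congr ⟨?_, ?_⟩ ?_
      · rintro ⟨y, hy, rfl⟩; exact ⟨g⁻¹ * y, mul_mem (inv_mem hg) hy, rfl⟩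
      · rintro ⟨y, hy, e⟩
        refine ⟨g * y, mul_mem hg hy, ?_⟩
        rw [show ((g * y : G) : G ⧸ par P (↑K : Set P.S)) = g • (y : G ⧸ par P (↑K : Set P.S))
          from rfl, e, smul_inv_smul]
      · rw [mul_smul, mul_smul, smul_eq_iff_eq_inv_smul]
    have hsum : ∑ K ∈ J.powerset, (-1 : ℤ) ^ K.card *
        ((fixIn P (↑J : Set P.S) (↑K : Set P.S) 1 * u K : ℕ) : ℤ) = (Nat.card ↥U : ℤ) := by
      rw [Finset.sum_congr rfl fun K hK => by
        rw [← hcount K hK, Nat.cast_sum, Finset.mul_sum], Finset.sum_comm]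
      have hx : ∀ x ∈ S, ∑ K ∈ J.powerset, (-1 : ℤ) ^ K.card *
          (fixIn P (↑J : Set P.S) (↑K : Set P.S) x : ℤ) =
          if x ∈ R (↑J : Set P.S) then (cellCard P wJ : ℤ) else 0 := by
        intro x hx
        obtain ⟨hxJ, hxP⟩ := (Finset.mem_filter.1 hx).2
        obtain ⟨g, hg, hgU⟩ := hinto _ x hxJ hxP
        rw [Finset.sum_congr rfl fun K hK => by rw [← hclass K hK g hg x], halt _ (hUB hgU),
          hval _ hgU]
        have hiff : g * x * g⁻¹ ∈ R (↑J : Set P.S) ↔ x ∈ R (↑J : Set P.S) := by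
          refine ⟨fun h => ?_, fun h => hRn _ g hg x h⟩
          have := hRn _ g⁻¹ (inv_mem hg) _ h
          simpa [mul_assoc] using this
        by_cases hc : x ∈ R (↑J : Set P.S)
        · rw [if_pos (hiff.2 hc), if_pos hc]
        · rw [if_neg (mt hiff.1 hc), if_neg hc]; simp
      rw [Finset.sum_congr rfl hx, ← Finset.sum_filter, Finset.sum_const, nsmul_eq_mul, ← hcR,
        Nat.cast_mul, mul_comm]
      congr 2
      rw [Nat.card_eq_fintype_card, Fintype.card_subtype]
      congr 1
      ext x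
      simp only [hSdef, Finset.mem_filter, Finset.mem_univ, true_and]
      exact ⟨fun h => h.2, fun h => ⟨⟨B_le_par _ (hUB (hRU _ h)), hU x (hRU _ h)⟩, h⟩⟩
    -- the identity
    have hid : ∀ (W : Finset P.S → Weyl P), (∀ K : Finset P.S, W K ∈ std (gen P) (↑K : Set P.S)) →
        (∀ K : Finset P.S, ∀ i ∈ K, len (gen P) (W K * gen P i) < len (gen P) (W K)) →
        ∑ K ∈ J.powerset, (-1 : ℤ) ^ K.card *
          ((fixIn P (↑J : Set P.S) (↑K : Set P.S) 1 * cellCard P (W K) : ℕ) : ℤ) = 1 := by
      intro W hW1 hW2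
      rw [Finset.sum_congr rfl fun K hK => by
        rw [index_mul_cellCard (Finset.coe_subset.2 (Finset.mem_powerset.1 hK)) (hW1 K) (hW2 K),
          Nat.cast_sum, Finset.sum_filter, Finset.mul_sum], Finset.sum_comm,
        Finset.sum_eq_single (1 : Weyl P) (fun w _ hne => ?_)
          (fun hn => absurd (Finset.mem_univ _) hn)]
      · rw [Finset.sum_eq_single ∅ (fun K hK hne => ?_)
          (fun hn => absurd (Finset.empty_mem_powerset J) hn)]
        · rw [if_pos ⟨one_mem _, fun i hi => by simp at hi⟩]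
          have : cellCard P 1 = 1 := by
            rw [cellCard, Nat.card_eq_one_iff_unique]
            refine ⟨⟨fun a b => Subtype.ext ?_⟩, ⟨⟨((1 : G) : G ⧸ P.B),
              mk_mem_cosets.2 (mem_cell_one.2 (one_mem _))⟩⟩⟩
            obtain ⟨_, g, hg, rfl⟩ := a
            obtain ⟨_, g', hg', rfl⟩ := b
            rw [mem_cell_one] at hg hg'
            exact QuotientGroup.eq.2 (mul_mem (inv_mem hg) hg')
          simp [this]
        · rw [if_neg, mul_zero]
          rintro ⟨-, hd⟩
          obtain ⟨k, hk⟩ := Finset.nonempty_iff_ne_empty.2 hne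
          have := hd k hk
          rw [one_mul, len_gen_eq_one, gens.len_eq_zero.2 rfl] at this
          omega
      · by_cases hw : w ∈ std (gen P) (↑J : Set P.S)
        swap
        · simp [hw]
        set A := J.filter fun i => len (gen P) (w * gen P i) < len (gen P) w with hA
        have hA' : A.Nonempty := by
          by_contra hc
          rw [Finset.not_nonempty_iff_eq_empty, hA, Finset.filter_eq_empty_iff] at hc
          refine hne ?_
          have := gens.free_unique exchange (J := (∅ : Set P.S)) (K := (↑J : Set P.S)) (w := 1)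
            (one_mem _) hw (empty_lfree _) (fun k _ => by
              rw [gens.len_eq_zero.2 rfl]; exact Nat.zero_le _)
            (empty_lfree _) (fun k hk => by rw [one_mul, one_mul]; exact not_lt.1 (hc hk))
          simpa using this
        have hmem : ∀ K ∈ J.powerset, (w ∈ std (gen P) (↑J : Set P.S) ∧
            ∀ i ∈ (↑K : Set P.S), len (gen P) (w * gen P i) < len (gen P) w) ↔ K ∈ A.powerset :=
          fun K hK => by
          rw [Finset.mem_powerset] at hK ⊢
          exact ⟨fun h k hk => Finset.mem_filter.2 ⟨hK hk, h.2 k hk⟩,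
            fun h => ⟨hw, fun k hk => (Finset.mem_filter.1 (h hk)).2⟩⟩
        refine (Finset.sum_congr rfl fun K hK => show _ = (-1 : ℤ) ^ K.card *
            (if K ∈ A.powerset then (cellCard P w : ℤ) else 0) by
          have := hmem K hK
          split_ifs <;> tauto).trans ?_
        rw [
show ∑ K ∈ J.powerset, (-1 : ℤ) ^ K.card * (if K ∈ A.powerset then
              (cellCard P w : ℤ) else 0) =
            (∑ K ∈ A.powerset, (-1 : ℤ) ^ K.card) * (cellCard P w : ℤ) by
            rw [Finset.sum_mul]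
            simp only [mul_ite, mul_zero]
            rw [Finset.sum_ite_mem,
              Finset.inter_eq_right.2 (Finset.powerset_mono.2 (Finset.filter_subset _ _))],
          Finset.sum_powerset_neg_one_pow_card_of_nonempty hA', zero_mul]
    choose W₀ hW₀1 hW₀2 using fun K : Finset P.S =>
      gens.exists_descents exchange (σ := gen P) gen_len_ne (↑K : Set P.S)
    have hWJ : W₀ J = wJ :=
      gens.descents_unique exchange (hW₀1 J) hwJ (hW₀2 J) hdJ
    have hid' := hid W₀ hW₀1 hW₀2
    rw [← Finset.sum_erase_add _ _ (Finset.mem_powerset_self J)] at hsum hid'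
    have hrest : ∑ K ∈ J.powerset.erase J, (-1 : ℤ) ^ K.card *
        ((fixIn P (↑J : Set P.S) (↑K : Set P.S) 1 * u K : ℕ) : ℤ) =
        (Nat.card ↥U : ℤ) * ∑ K ∈ J.powerset.erase J, (-1 : ℤ) ^ K.card *
        ((fixIn P (↑J : Set P.S) (↑K : Set P.S) 1 * cellCard P (W₀ K) : ℕ) : ℤ) := by
      rw [Finset.mul_sum]
      refine Finset.sum_congr rfl fun K hK => ?_
      rw [Finset.mem_erase, Finset.mem_powerset] at hK
      rw [show u K = Nat.card ↥U * cellCard P (W₀ K) from
        ih K (Finset.ssubset_iff_subset_ne.2 ⟨hK.2, hK.1⟩) _ (hW₀1 K) (hW₀2 K)]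
      push_cast
      ring
    rw [hrest] at hsum
    have hone : fixIn P (↑J : Set P.S) (↑J : Set P.S) 1 = 1 := by
      rw [fixIn, Nat.card_eq_one_iff_unique]
      refine ⟨⟨fun a b => Subtype.ext ?_⟩, ⟨⟨((1 : G) : G ⧸ par P (↑J : Set P.S)),
        ⟨1, one_mem _, rfl⟩, one_smul _ _⟩⟩⟩
      obtain ⟨_, ⟨g, hg, rfl⟩, -⟩ := a
      obtain ⟨_, ⟨g', hg', rfl⟩, -⟩ := b
      exact QuotientGroup.eq.2 (mul_mem (inv_mem hg) hg')
    rw [hone, hWJ, one_mul] at hid'
    rw [hone, one_mul] at hsum
    have hfin : ((u J : ℤ)) = (Nat.card ↥U : ℤ) * cellCard P wJ := by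
      have hsgn : ((-1 : ℤ) ^ J.card) * ((-1 : ℤ) ^ J.card) = 1 := by rw [← mul_pow]; norm_num
      linear_combination ((-1 : ℤ) ^ J.card) * hsum
        - (Nat.card ↥U : ℤ) * ((-1 : ℤ) ^ J.card) * hid'
        + ((Nat.card ↥U : ℤ) * cellCard P wJ - (u J : ℤ)) * hsgn
    exact_mod_cast hfin

end CfsgLib.BN
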