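import Cfsg.Agent.Lib.BNPair.PCount
import Cfsg.Agent.Lib.Coprime.Action

/-!
The alternating sum of the permutation characters at an element of a parabolic subgroup lying in
no smaller one: up to sign the number of elements of the radical commuting with it.

Only one double coset of the two parabolic subgroups survives in the alternating sum: the one of
`a₀ w₀`, with `a₀` longest in the standard subgroup.  The radical acts regularly on it.
-/

set_option autoImplicit false

open CfsgLib.Coxeter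

namespace CfsgLib.BN

universe u

variable {G : Type u} [Group G] {P : Cfsg.BNPair G}

/-- The pairs of generators exchanged by `w`. -/
def linkSet (J : Set P.S) (w : Weyl P) : Set P.S :=
  {k | ∃ j ∈ J, gen P j * w = w * gen P k}

/-- Every generator of `J` is exchanged by `w` with some generator. -/
def Linked (J : Set P.S) (w : Weyl P) : Prop :=
  ∀ j ∈ J, ∃ k, gen P j * w = w * gen P k

lemma gen_mem_std {J : Set P.S} {j : P.S} (hj : j ∈ J) : gen P j ∈ std (gen P) J :=
  Subgroup.subset_closure ⟨j, hj, rfl⟩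

/-- A left free element times an element of the standard subgroup is length additive. -/
lemma len_lfree_mul {J : Set P.S} {a w : Weyl P} (hw : LFree (gen P) J w)
    (ha : a ∈ std (gen P) J) : len (gen P) (a * w) = len (gen P) a + len (gen P) w := by
  have h := len_free_mul (w := w⁻¹) (v := a⁻¹)
    ((gens.lfree_inv (w := w⁻¹)).1 (by rw [inv_inv]; exact hw)) (inv_mem ha)
  rw [← mul_inv_rev, gens.len_inv, gens.len_inv, gens.len_inv] at h
  omega

/-- An element of length one of a standard subgroup is one of its generators. -/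
lemma exists_gen_of_len_one {J : Set P.S} {a : Weyl P} (ha : a ∈ std (gen P) J) (hl : len (gen P) a = 1) :
    ∃ j ∈ J, gen P j = a := by
  obtain ⟨L₀, hL₀, rfl⟩ := gens.exists_std_word ha
  obtain ⟨L, hL, e, hsub⟩ := gens.exists_red_subset exchange L₀
  have h1 : L.length = 1 := by rw [← hL, e, hl]
  obtain ⟨j, rfl⟩ := List.length_eq_one_iff.1 h1
  refine ⟨j, hL₀ j (hsub j List.mem_cons_self), ?_⟩
  rw [← e]; simp

/-- An element `a` of the standard subgroup moved by `w` into another one only involves linked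
generators. -/
lemma mem_std_linked {J K : Set P.S} {w : Weyl P} (hl : LFree (gen P) J w)
    (hr : RFree (gen P) K w) : ∀ {a c : Weyl P}, a ∈ std (gen P) J → c ∈ std (gen P) K →
      a * w = w * c → a ∈ std (gen P) {j | j ∈ J ∧ ∃ k ∈ K, gen P j * w = w * gen P k} := by
  intro a
  induction hn : len (gen P) a using Nat.strong_induction_on generalizing a with
  | _ n ih =>
    intro c ha hc e
    obtain ⟨A₀, hA₀, eA₀⟩ := gens.exists_std_word ha
    obtain ⟨A, hA, eA, hAsub⟩ := gens.exists_red_subset exchange A₀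
    rw [eA₀] at eA
    rcases A with _ | ⟨i, A⟩
    · rw [← eA, wprod_nil]; exact one_mem _
    have hiJ : i ∈ J := hA₀ i (hAsub i List.mem_cons_self)
    have hla : len (gen P) a = A.length + 1 := by rw [← eA, hA, List.length_cons]
    have hAJ : wprod (gen P) A ∈ std (gen P) J :=
      Gens.wprod_mem_std fun k hk => hA₀ k (hAsub k (List.mem_cons_of_mem _ hk))
    have hiw : len (gen P) (gen P i * w) = len (gen P) w + 1 := by
      have h1 := hl i hiJ
      have h2 := gens.len_gen_mul_le i w
      have h3 := gen_len_ne i w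
      omega
    -- a reduced word of `w c`
    obtain ⟨X, hX, eX, hXl⟩ := gens.exists_red w
    obtain ⟨C₀, hC₀, eC₀⟩ := gens.exists_std_word hc
    obtain ⟨C, hC, eC, hCsub⟩ := gens.exists_red_subset exchange C₀
    rw [eC₀] at eC
    have hlc : len (gen P) c = C.length := by rw [← eC, hC]
    have hred : IsRed (gen P) (X ++ C) := by
      unfold IsRed
      rw [wprod_append, eX, eC, List.length_append, hXl, ← hlc]
      exact len_free_mul hr hc
    have hdrop : len (gen P) (gen P i * wprod (gen P) (X ++ C)) ≤ (X ++ C).length := by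
      rw [← hred, wprod_append, eX, eC, ← e, ← eA, wprod_cons,
        show gen P i * (gen P i * wprod (gen P) A * w) = wprod (gen P) A * w by
          rw [← mul_assoc, ← mul_assoc, gen_sq, one_mul]]
      have h1 := len_lfree_mul hl hAJ
      have h2 := len_lfree_mul hl ha
      rw [← eA, wprod_cons] at h2
      have h3 := len_le (σ := gen P) A
      have h4 : len (gen P) a = len (gen P) (gen P i * wprod (gen P) A) := by rw [← eA, wprod_cons]
      omega
    obtain ⟨m, hm, em, -⟩ := gens.exchange_red exchange hred hdrop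
    rw [List.length_append] at hm
    rcases Nat.lt_or_ge m X.length with hmX | hmX
    · exfalso
      rw [List.eraseIdx_append_of_lt_length hmX, wprod_append, wprod_append, eX, eC,
        ← mul_assoc, mul_left_inj] at em
      have h1 := len_le (σ := gen P) (X.eraseIdx m)
      rw [← em, List.length_eraseIdx_of_lt hmX] at h1
      omega
    rw [List.eraseIdx_append_of_length_le hmX, wprod_append, wprod_append, eX, eC] at em
    set c' := wprod (gen P) (C.eraseIdx (m - X.length))
    have hc' : c' ∈ std (gen P) K :=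
      Gens.wprod_mem_std fun k hk => hC₀ k (hCsub k (List.mem_of_mem_eraseIdx hk))
    have ht : gen P i * w = w * (c' * c⁻¹) := by
      rw [← mul_assoc w, ← em]
      group
    have hlt : len (gen P) (c' * c⁻¹) = 1 := by
      have h1 := len_free_mul hr (mul_mem hc' (inv_mem hc))
      rw [← ht] at h1
      omega
    obtain ⟨k, hk, ek⟩ := exists_gen_of_len_one (mul_mem hc' (inv_mem hc)) hlt
    rw [← ek] at ht
    have hlink : i ∈ ({j | j ∈ J ∧ ∃ k ∈ K, gen P j * w = w * gen P k} : Set P.S) :=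
      ⟨hiJ, k, hk, ht⟩
    have e' : wprod (gen P) A * w = w * (gen P k * c) := by
      rw [← mul_assoc, ← ht, mul_assoc, ← e, ← eA, wprod_cons, ← mul_assoc, ← mul_assoc, gen_sq,
        one_mul]
    have hlen' : len (gen P) (wprod (gen P) A) < n := by
      have := len_le (σ := gen P) A
      omega
    rw [← eA, wprod_cons]
    exact mul_mem (gen_mem_std hlink) (ih _ hlen' rfl hAJ (mul_mem (gen_mem_std hk) hc) e')

section Longest

variable {J : Set P.S} {w₀ a₀ : Weyl P}

lemma longest_sq (hw₀ : IsLongest (gen P) w₀) : w₀ * w₀ = 1 := by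
  have h1 := gens.len_longest_mul exchange hw₀ w₀
  exact gens.len_eq_zero.1 (by omega)

lemma len_mul_longest (hw₀ : IsLongest (gen P) w₀) (v : Weyl P) :
    len (gen P) (v * w₀) + len (gen P) v = len (gen P) w₀ := by
  have h1 := gens.len_longest_mul exchange hw₀ v⁻¹
  have e : (w₀ * v⁻¹)⁻¹ = v * w₀ := by
    rw [mul_inv_rev, inv_inv, inv_eq_of_mul_eq_one_right (longest_sq hw₀)]
  rw [← gens.len_inv (w₀ * v⁻¹), e, gens.len_inv] at h1
  exact h1

lemma len_conj_longest (hw₀ : IsLongest (gen P) w₀) (y : Weyl P) :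
    len (gen P) (w₀ * y * w₀) = len (gen P) y := by
  have h1 := gens.len_longest_mul exchange hw₀ (y * w₀)
  have h2 := len_mul_longest hw₀ y
  rw [← mul_assoc] at h1
  omega

variable (ha₀ : a₀ ∈ std (gen P) J) (hd : ∀ i ∈ J, len (gen P) (a₀ * gen P i) < len (gen P) a₀)
include ha₀ hd

lemma stdLongest_sq : a₀ * a₀ = 1 := by
  have h1 := gens.len_mul_of_descents exchange hd ha₀
  exact gens.len_eq_zero.1 (by omega)

lemma len_stdLongest_mul {a : Weyl P} (ha : a ∈ std (gen P) J) :
    len (gen P) (a * a₀) + len (gen P) a = len (gen P) a₀ := by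
  have h1 := gens.len_mul_of_descents exchange hd (inv_mem ha)
  have e : (a₀ * a⁻¹)⁻¹ = a * a₀ := by
    rw [mul_inv_rev, inv_inv, inv_eq_of_mul_eq_one_right (stdLongest_sq ha₀ hd)]
  rw [← gens.len_inv (a₀ * a⁻¹), e, gens.len_inv] at h1
  exact h1

variable (hw₀ : IsLongest (gen P) w₀)
include hw₀

lemma len_star : len (gen P) (a₀ * w₀) + len (gen P) a₀ = len (gen P) w₀ := len_mul_longest hw₀ a₀

lemma lfree_star : LFree (gen P) J (a₀ * w₀) := by
  intro j hj
  have h1 := len_mul_longest hw₀ (gen P j * a₀)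
  have h2 := len_stdLongest_mul ha₀ hd (gen_mem_std hj)
  have h3 := len_star ha₀ hd hw₀
  rw [mul_assoc] at h1
  omega

lemma linked_star : Linked J (a₀ * w₀) := by
  intro j hj
  have h1 : len (gen P) (a₀ * gen P j * a₀) = 1 := by
    have e1 := gens.len_mul_of_descents exchange hd (mul_mem (gen_mem_std hj) ha₀)
    rw [← mul_assoc] at e1
    have e2 := len_stdLongest_mul ha₀ hd (gen_mem_std hj)
    rw [len_gen_eq_one] at e2
    omega
  have h2 : len (gen P) (w₀ * (a₀ * gen P j * a₀) * w₀) = 1 := (len_conj_longest hw₀ _).trans h1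
  obtain ⟨k, -, ek⟩ := exists_gen_of_len_one (J := Set.univ)
    (by obtain ⟨L, e⟩ := gens.exists_word (σ := gen P) (w₀ * (a₀ * gen P j * a₀) * w₀)
        exact e ▸ Gens.wprod_mem_std fun i _ => Set.mem_univ i) h2
  refine ⟨k, ?_⟩
  have hs := stdLongest_sq ha₀ hd
  have hs' := longest_sq hw₀
  rw [ek, show a₀ * w₀ * (w₀ * (a₀ * gen P j * a₀) * w₀) =
    a₀ * (w₀ * w₀) * a₀ * gen P j * (a₀ * w₀) by group, hs', mul_one, hs, one_mul]

/-- The ascents of `a₀ w₀` are the linked generators. -/
lemma ascent_star {s : P.S} (hs : len (gen P) (a₀ * w₀) ≤ len (gen P) (a₀ * w₀ * gen P s)) :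
    s ∈ linkSet J (a₀ * w₀) := by
  have hs' := longest_sq hw₀
  have hsa := stdLongest_sq ha₀ hd
  have h1 : len (gen P) (w₀ * gen P s * w₀) = 1 := (len_conj_longest hw₀ _).trans (len_gen_eq_one s)
  obtain ⟨i, -, ei⟩ := exists_gen_of_len_one (J := Set.univ)
    (by obtain ⟨L, e⟩ := gens.exists_word (σ := gen P) (w₀ * gen P s * w₀)
        exact e ▸ Gens.wprod_mem_std fun i _ => Set.mem_univ i) h1
  have e1 : a₀ * w₀ * gen P s = a₀ * gen P i * w₀ := by
    rw [ei, show a₀ * (w₀ * gen P s * w₀) * w₀ = a₀ * w₀ * gen P s * (w₀ * w₀) by group, hs',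
      mul_one]
  by_cases hiJ : i ∈ J
  · have h2 : len (gen P) (a₀ * gen P i * a₀) = 1 := by
      have e1 := gens.len_mul_of_descents exchange hd (mul_mem (gen_mem_std hiJ) ha₀)
      rw [← mul_assoc] at e1
      have e2 := len_stdLongest_mul ha₀ hd (gen_mem_std hiJ)
      rw [len_gen_eq_one] at e2
      omega
    obtain ⟨j, hj, ej⟩ := exists_gen_of_len_one
      (mul_mem (mul_mem ha₀ (gen_mem_std hiJ)) ha₀) h2
    refine ⟨j, hj, ?_⟩
    rw [e1, ej, show a₀ * gen P i * a₀ * (a₀ * w₀) = a₀ * gen P i * (a₀ * a₀) * w₀ by group,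
      hsa, mul_one]
  · exfalso
    have h3 : len (gen P) a₀ < len (gen P) (a₀ * gen P i) := by
      by_contra hle
      obtain ⟨A₀, hA₀, eA₀⟩ := gens.exists_std_word ha₀
      obtain ⟨A, hA, eA, hAsub⟩ := gens.exists_red_subset exchange A₀
      have eA' : wprod (gen P) A.reverse = a₀ := by
        rw [gens.wprod_reverse, eA, eA₀, inv_eq_of_mul_eq_one_right hsa]
      have hArev : IsRed (gen P) A.reverse := by
        unfold IsRed
        rw [eA', List.length_reverse, ← hA, eA, eA₀]
      obtain ⟨m, -, em, -⟩ := gens.exchange_red exchange hArev (i := i) (by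
        rw [← hArev, eA', ← gens.len_inv, mul_inv_rev, gen_inv,
          inv_eq_of_mul_eq_one_right hsa]
        omega)
      rw [eA'] at em
      have hmem : gen P i ∈ std (gen P) J := by
        have h5 : gen P i * a₀ ∈ std (gen P) J := em ▸ Gens.wprod_mem_std fun k hk =>
          hA₀ k (hAsub k (List.mem_reverse.1 (List.mem_of_mem_eraseIdx hk)))
        have := mul_mem h5 (inv_mem ha₀)
        rwa [mul_inv_cancel_right] at this
      obtain ⟨j, hj, ej⟩ := exists_gen_of_len_one hmem (len_gen_eq_one i)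
      exact hiJ (gen_injective ej ▸ hj)
    have h4 := len_mul_longest hw₀ (a₀ * gen P i)
    have h5 := len_star ha₀ hd hw₀
    rw [e1] at hs
    omega

/-- Only `a₀ w₀` is left free, linked, and has all its ascents linked. -/
lemma eq_star {w : Weyl P} (hl : LFree (gen P) J w)
    (hasc : ∀ s, len (gen P) w ≤ len (gen P) (w * gen P s) → s ∈ linkSet J w) : w = a₀ * w₀ := by
  have hlong : IsLongest (gen P) (a₀ * w) := by
    intro s
    have h1 := len_lfree_mul hl ha₀
    by_cases hs : len (gen P) w ≤ len (gen P) (w * gen P s)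
    · obtain ⟨j, hj, e⟩ := hasc s hs
      rw [mul_assoc, ← e, ← mul_assoc,
        len_lfree_mul hl (mul_mem ha₀ (gen_mem_std hj)), h1]
      have := hd j hj
      omega
    · have h2 := gens.len_mul_le a₀ (w * gen P s)
      rw [mul_assoc]
      omega
  have e := gens.longest_unique exchange hlong hw₀
  rw [← e, ← mul_assoc, stdLongest_sq ha₀ hd, one_mul]

end Longest

/-- The orbit of `P_J` through a cell on the cosets of `P_K`. -/
def orbitCell (J K : Set P.S) (w : Weyl P) : Set (G ⧸ par P K) :=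
  {z | ∃ p ∈ par P J, ∃ y ∈ cell P w, ((p * y : G) : G ⧸ par P K) = z}

lemma smul_orbitCell {J K : Set P.S} {w : Weyl P} {g : G} (hg : g ∈ par P J)
    {z : G ⧸ par P K} (hz : z ∈ orbitCell J K w) : g • z ∈ orbitCell J K w := by
  obtain ⟨p, hp, y, hy, rfl⟩ := hz
  exact ⟨g * p, mul_mem hg hp, y, hy, by
    rw [mul_assoc]; rfl⟩

/-- A fixed coset of `P_K` in the orbit forces the linking of `J`. -/
lemma linked_of_fixed {J K : Set P.S} {w : Weyl P} {g : G} (hl : LFree (gen P) J w)
    (hr : RFree (gen P) K w) (hg : g ∈ par P J)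
    (hmin : ∀ J' : Set P.S, J' ⊆ J → J' ≠ J → ∀ y ∈ par P J, y⁻¹ * g * y ∉ par P J')
    {z : G ⧸ par P K} (hz : z ∈ orbitCell J K w) (hfix : g • z = z) :
    ∀ j ∈ J, ∃ k ∈ K, gen P j * w = w * gen P k := by
  obtain ⟨p, hp, y, hy, rfl⟩ := hz
  rw [show g • ((p * y : G) : G ⧸ par P K) = ((g * (p * y) : G) : G ⧸ par P K) from rfl,
    QuotientGroup.eq] at hfix
  set x := p⁻¹ * g * p with hx
  have hxJ : x ∈ par P J := mul_mem (mul_mem (inv_mem hp) hg) hp
  have hq : y⁻¹ * x * y ∈ par P K := by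
    have := inv_mem hfix
    rwa [show ((g * (p * y))⁻¹ * (p * y))⁻¹ = y⁻¹ * x * y by rw [hx]; group] at this
  obtain ⟨a, ha, hxa⟩ := cell_par hxJ
  obtain ⟨c, hc, hqc⟩ := cell_par hq
  have h1 := mul_cell_of_add (len_lfree_mul hl ha) hxa hy
  have h2 := mul_cell_of_add (len_free_mul hr hc) hy hqc
  rw [show y * (y⁻¹ * x * y) = x * y by group] at h2
  have h3 := mem_std_linked hl hr ha hc (cell_inj h1 h2)
  intro j hj
  by_contra hcon
  refine hmin {j | j ∈ J ∧ ∃ k ∈ K, gen P j * w = w * gen P k} (fun i hi => hi.1) (fun e => ?_)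
    p hp (cell_subset_par h3 hxa)
  exact hcon ((Set.ext_iff.1 e j).2 hj).2

/-- For a linked element the orbit does not depend on the larger parabolic subgroup. -/
lemma orbit_injective {J K : Set P.S} {w : Weyl P} (hl : LFree (gen P) J w)
    (hr : RFree (gen P) K w) (hlink : ∀ j ∈ J, ∃ k ∈ K, gen P j * w = w * gen P k)
    {p p' y y' : G} (hp : p ∈ par P J) (hp' : p' ∈ par P J) (hy : y ∈ cell P w)
    (hy' : y' ∈ cell P w) (e : (p * y)⁻¹ * (p' * y') ∈ par P K) :
    (p * y)⁻¹ * (p' * y') ∈ par P (linkSet J w) := by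
  obtain ⟨a, ha, hma⟩ := cell_par (mul_mem (inv_mem hp) hp')
  obtain ⟨c, hc, hqc⟩ := cell_par e
  have h1 := mul_cell_of_add (len_lfree_mul hl ha) hma hy'
  have h2 := mul_cell_of_add (len_free_mul hr hc) hy hqc
  rw [show y * ((p * y)⁻¹ * (p' * y')) = p⁻¹ * p' * y' by group] at h2
  have e1 : a * w = w * c := cell_inj h1 h2
  refine cell_subset_par ?_ hqc
  have e2 : c = w⁻¹ * a * w := by rw [mul_assoc, e1, inv_mul_cancel_left]
  rw [e2]
  clear e1 e2 h1 hma
  induction ha using Subgroup.closure_induction with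
  | one => simp
  | mem x hx =>
    obtain ⟨j, hj, rfl⟩ := hx
    obtain ⟨k, -, ek⟩ := hlink j hj
    rw [mul_assoc, ek, inv_mul_cancel_left]
    exact gen_mem_std ⟨j, hj, ek⟩
  | mul x x' _ _ hx hx' =>
    rw [show w⁻¹ * (x * x') * w = (w⁻¹ * x * w) * (w⁻¹ * x' * w) by group]
    exact mul_mem hx hx'
  | inv x _ hx =>
    rw [show w⁻¹ * x⁻¹ * w = (w⁻¹ * x * w)⁻¹ by group]
    exact inv_mem hx

variable [Finite G]

/-- The number of fixed points in an orbit. -/
noncomputable def fixOrbit (J K : Set P.S) (g : G) (w : Weyl P) : ℕ :=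
  Nat.card {z : G ⧸ par P K // z ∈ orbitCell J K w ∧ g • z = z}

open Classical in
/-- The fixed points split along the orbits. -/
theorem fixed_eq_sum_orbit [Fintype (Weyl P)] (J K : Set P.S) (g : G) :
    Nat.card (MulAction.fixedBy (G ⧸ par P K) g) =
      ∑ w ∈ Finset.univ.filter (fun w => LFree (gen P) J w ∧ RFree (gen P) K w),
        fixOrbit J K g w := by
  have : Fintype (G ⧸ par P K) := Fintype.ofFinite _
  simp only [fixOrbit, Nat.card_eq_fintype_card, Fintype.card_subtype]
  rw [← Finset.card_biUnion]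
  · congr 1
    ext z
    simp only [Finset.mem_filter, Finset.mem_univ, true_and, MulAction.mem_fixedBy,
      Finset.mem_biUnion]
    refine ⟨fun hz => ?_, fun ⟨w, _, _, hz⟩ => hz⟩
    obtain ⟨g', rfl⟩ := QuotientGroup.mk_surjective z
    obtain ⟨v, hv⟩ := exists_cell (P := P) g'
    obtain ⟨x, hl, hr, y, hy, p, hp, q, hq, e⟩ := exists_free_factor J K hv
    refine ⟨x, ⟨hl, hr⟩, ⟨p, hp, y, hy, ?_⟩, hz⟩
    rw [QuotientGroup.eq, e, inv_mul_cancel_left]
    exact hq
  · intro v hv w hw hvw
    rw [Function.onFun, Finset.disjoint_left]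
    intro z hzv hzw
    simp only [Finset.mem_filter, Finset.mem_univ, true_and, Finset.coe_filter,
      Set.mem_ofPred_eq] at hzv hzw hv hw
    obtain ⟨⟨p, hp, y, hy, rfl⟩, -⟩ := hzv
    obtain ⟨⟨p', hp', y', hy', e⟩, -⟩ := hzw
    rw [QuotientGroup.eq] at e
    obtain ⟨a, ha, c, hc, hcell⟩ := par_mul_cell_mul_par (mul_mem (inv_mem hp) hp') e hy'
    rw [show p⁻¹ * p' * y' * ((p' * y')⁻¹ * (p * y)) = y by group] at hcell
    have e1 : v = a * w * c := cell_inj hy hcell
    refine hvw (e1.trans (gens.free_unique exchange ha hc hw.1 hw.2 ?_ ?_))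
    · exact e1 ▸ hv.1
    · exact e1 ▸ hv.2

/-- The orbit count is the same for all the parabolic subgroups containing the linked one. -/
lemma fixOrbit_eq {J K : Set P.S} {w : Weyl P} {g : G} (hg : g ∈ par P J)
    (hl : LFree (gen P) J w) (hr : RFree (gen P) K w)
    (hlink : ∀ j ∈ J, ∃ k ∈ K, gen P j * w = w * gen P k) (hK : linkSet J w ⊆ K) :
    fixOrbit J (linkSet J w) g w = fixOrbit J K g w := by
  have hle := par_mono (P := P) hK
  have hmk : ∀ x : G, Subgroup.quotientMapOfLE hle (x : G ⧸ par P (linkSet J w)) =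
      (x : G ⧸ par P K) := fun x => Subgroup.quotientMapOfLE_apply_mk hle x
  refine Nat.card_eq_of_bijective (fun z => ⟨Subgroup.quotientMapOfLE hle z.1, ?_, ?_⟩) ⟨?_, ?_⟩
  · obtain ⟨p, hp, y, hy, e⟩ := z.2.1
    exact ⟨p, hp, y, hy, by rw [← e, hmk]⟩
  · obtain ⟨x, e⟩ := QuotientGroup.mk_surjective z.1
    have h2 := z.2.2
    rw [← e, MulAction.Quotient.smul_coe, smul_eq_mul] at h2
    have h3 := congrArg (Subgroup.quotientMapOfLE hle) h2
    rw [hmk, hmk] at h3
    rw [← e, hmk, MulAction.Quotient.smul_coe, smul_eq_mul, h3]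
  · intro q₁ q₂ e
    obtain ⟨z₁, ⟨p, hp, y, hy, e₁⟩, h₁⟩ := q₁
    obtain ⟨z₂, ⟨p', hp', y', hy', e₂⟩, h₂⟩ := q₂
    have e' : Subgroup.quotientMapOfLE hle z₁ = Subgroup.quotientMapOfLE hle z₂ :=
      congrArg Subtype.val e
    rw [← e₁, ← e₂, hmk, hmk, QuotientGroup.eq] at e'
    refine Subtype.ext ?_
    show z₁ = z₂
    rw [← e₁, ← e₂, QuotientGroup.eq]
    exact orbit_injective hl hr hlink hp hp' hy hy' e'
  · rintro ⟨z, ⟨p, hp, y, hy, e⟩, hz⟩
    rw [← e, MulAction.Quotient.smul_coe, smul_eq_mul, ← mul_assoc, QuotientGroup.eq] at hz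
    refine ⟨⟨((p * y : G) : G ⧸ par P (linkSet J w)), ⟨p, hp, y, hy, rfl⟩, ?_⟩, ?_⟩
    · rw [MulAction.Quotient.smul_coe, smul_eq_mul, ← mul_assoc, QuotientGroup.eq]
      exact orbit_injective hl hr hlink (mul_mem hg hp) hp hy hy hz
    · refine Subtype.ext ?_
      show Subgroup.quotientMapOfLE hle ((p * y : G) : G ⧸ par P (linkSet J w)) = z
      rw [hmk, e]

/-- Cells of a left free element absorb the parabolic subgroup injectively. -/
lemma cellCard_mul_le {J : Set P.S} {a w : Weyl P} (ha : a ∈ std (gen P) J)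
    (hl : LFree (gen P) J w) : cellCard P a * cellCard P w ≤ cellCard P (a * w) := by
  rw [cellCard, cellCard, cellCard, ← Nat.card_prod]
  have hex : ∀ z : {z : G ⧸ P.B // z ∈ cosets P a}, ∃ x ∈ cell P a, (x : G ⧸ P.B) = z.1 :=
    fun z => z.2
  choose x hx hxe using hex
  refine Nat.card_le_card_of_injective (fun q => ⟨x q.1 • q.2.1, ?_⟩) ?_
  · obtain ⟨y, hy, e⟩ := q.2.2
    rw [← e]
    exact ⟨x q.1 * y, mul_cell_of_add (len_lfree_mul hl ha) (hx _) hy, rfl⟩
  · rintro ⟨z₁, z₁', y₁, hy₁, rfl⟩ ⟨z₂, z₂', y₂, hy₂, rfl⟩ e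
    have e1 := congrArg Subtype.val e
    change ((x z₁ * y₁ : G) : G ⧸ P.B) = ((x z₂ * y₂ : G) : G ⧸ P.B) at e1
    rw [QuotientGroup.eq] at e1
    obtain ⟨v, hv, hmv⟩ := cell_par (mul_mem (inv_mem (cell_subset_par ha (hx z₁)))
      (cell_subset_par ha (hx z₂)))
    have h1 := mul_cell_of_add (len_lfree_mul hl hv) hmv hy₂
    have h2 := right_cell hy₁ e1
    rw [show y₁ * ((x z₁ * y₁)⁻¹ * (x z₂ * y₂)) = (x z₁)⁻¹ * x z₂ * y₂ by group] at h2
    have hv1 : v = 1 := mul_eq_right.1 (cell_inj h1 h2)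
    subst hv1
    rw [mem_cell_one] at hmv
    have ez : z₁ = z₂ := Subtype.ext (by rw [← hxe z₁, ← hxe z₂, QuotientGroup.eq]; exact hmv)
    subst ez
    refine Prod.ext rfl (Subtype.ext (QuotientGroup.eq.2 ?_))
    rwa [show (x z₁ * y₁)⁻¹ * (x z₁ * y₂) = y₁⁻¹ * y₂ by group] at e1

omit [Finite G] in
lemma mem_cell_same {w : Weyl P} {u v : G} (hu : u ∈ cell P w) (hv : v ∈ cell P w) :
    ∃ b ∈ P.B, ∃ b' ∈ P.B, v = b * u * b' := by
  obtain ⟨n, rfl⟩ := QuotientGroup.mk_surjective w
  obtain ⟨b, hb, b', hb', rfl⟩ := mem_cell_mk.1 hu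
  obtain ⟨c, hc, c', hc', rfl⟩ := mem_cell_mk.1 hv
  exact ⟨c * b⁻¹, mul_mem hc (inv_mem hb), b'⁻¹ * c', mul_mem (inv_mem hb') hc', by group⟩

/-- The value of the alternating sum at an element lying in no smaller parabolic subgroup. -/
theorem altSum_of_minimal [Fintype P.S] {w₀ a₀ : Weyl P} (hw₀ : IsLongest (gen P) w₀)
    {J : Set P.S} (ha₀ : a₀ ∈ std (gen P) J)
    (hd : ∀ i ∈ J, len (gen P) (a₀ * gen P i) < len (gen P) a₀)
    {V : Subgroup G} (hVB : V ≤ P.B) (hVn : par P J ≤ Subgroup.normalizer (V : Set G))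
    (hfree : ∀ n₀ ∈ cell P w₀, ∀ x ∈ V, n₀⁻¹ * x * n₀ ∈ P.B → x = 1)
    (hcard : cellCard P a₀ * Nat.card ↥V = cellCard P w₀)
    {g : G} (hg : g ∈ par P J) (hcop : (orderOf g).Coprime (Nat.card ↥V))
    (hmin : ∀ J' : Set P.S, J' ⊆ J → J' ≠ J → ∀ y ∈ par P J, y⁻¹ * g * y ∉ par P J') :
    altSum P g = (Nat.card {v : ↥V // g * v = v * g} : ℂ) ∨
      altSum P g = -(Nat.card {v : ↥V // g * v = v * g} : ℂ) := by
  classical
  have : Fintype (Weyl P) := Fintype.ofFinite _
  set ws := a₀ * w₀ with hws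
  have hls := lfree_star ha₀ hd hw₀
  set K₀ : Finset P.S := Finset.univ.filter fun k => k ∈ linkSet J ws with hK₀
  -- the sum collapses
  have hsum : altSum P g = (-1 : ℂ) ^ K₀.card * (fixOrbit J (linkSet J ws) g ws : ℂ) := by
    simp only [altSum, Cfsg.fixedPointCharacter, fixed_eq_sum_orbit J, Nat.cast_sum,
      Finset.mul_sum, Finset.sum_filter]
    rw [Finset.sum_comm]
    rw [Finset.sum_eq_single ws (fun w _ hne => ?_) (fun hn => absurd (Finset.mem_univ _) hn)]
    · rw [Finset.sum_eq_single K₀ (fun K _ hK => ?_) (fun hn => absurd (Finset.mem_univ _) hn)]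
      · have hset : (↑K₀ : Set P.S) = linkSet J ws := by ext k; simp [hK₀]
        have hr : RFree (gen P) (linkSet J ws) ws := fun k hk => by
          obtain ⟨j, hj, e⟩ := hk
          rw [← e]; exact hls j hj
        rw [hset, if_pos ⟨hls, hr⟩]
      · split_ifs with hf
        swap
        · simp
        rw [mul_eq_zero]; right
        rw [Nat.cast_eq_zero, fixOrbit, Nat.card_eq_zero]
        left
        refine ⟨fun z => hK ?_⟩
        have hlk := linked_of_fixed hf.1 hf.2 hg hmin z.2.1 z.2.2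
        refine Finset.Subset.antisymm (fun s hs => ?_) (fun s hs => ?_)
        · exact Finset.mem_filter.2 ⟨Finset.mem_univ _, ascent_star ha₀ hd hw₀ (hf.2 s hs)⟩
        · obtain ⟨j, hj, e⟩ := (Finset.mem_filter.1 hs).2
          obtain ⟨k, hk, e'⟩ := hlk j hj
          rw [e', mul_right_inj] at e
          rw [← gen_injective e]
          exact hk
    · -- the other elements cancel
      by_cases hw : LFree (gen P) J w ∧ Linked J w
      swap
      · refine Finset.sum_eq_zero fun K _ => ?_
        split_ifs with hf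
        swap
        · simp
        rw [mul_eq_zero]; right
        rw [Nat.cast_eq_zero, fixOrbit, Nat.card_eq_zero]
        left
        exact ⟨fun z => hw ⟨hf.1, fun j hj => by
          obtain ⟨k, -, e⟩ := linked_of_fixed hf.1 hf.2 hg hmin z.2.1 z.2.2 j hj
          exact ⟨k, e⟩⟩⟩
      obtain ⟨hlw, hlink⟩ := hw
      have hlasc : ∀ k ∈ linkSet J w, len (gen P) w ≤ len (gen P) (w * gen P k) := by
        rintro k ⟨j, hj, e⟩
        rw [← e]; exact hlw j hj
      set A : Finset P.S :=
        Finset.univ.filter fun s => len (gen P) w ≤ len (gen P) (w * gen P s) with hA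
      obtain ⟨s, hsA, hsn⟩ : ∃ s ∈ A, s ∉ linkSet J w := by
        by_contra hcon
        push Not at hcon
        exact hne (eq_star ha₀ hd hw₀ hlw fun s hs =>
          hcon s (Finset.mem_filter.2 ⟨Finset.mem_univ _, hs⟩))
      -- pair each set with the one differing at `s`
      refine Finset.sum_involution (fun K _ => symmDiff K {s}) ?_ ?_ ?_ ?_
      · intro K _
        have hR : RFree (gen P) (↑(symmDiff K {s}) : Set P.S) w ↔
            RFree (gen P) (↑K : Set P.S) w := by
          have hs' : len (gen P) w ≤ len (gen P) (w * gen P s) := (Finset.mem_filter.1 hsA).2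
          constructor
          · intro hR k hk
            by_cases hks : k = s
            · rwa [hks]
            · exact hR k (by simp [Set.mem_symmDiff, Finset.mem_coe.1 hk, hks])
          · intro hR k hk
            by_cases hks : k = s
            · rwa [hks]
            · simp only [Finset.coe_symmDiff, Finset.coe_singleton, Set.mem_symmDiff,
                Set.mem_singleton_iff, hks, not_false_iff, and_true, false_and, or_false] at hk
              exact hR k hk
        by_cases hf : RFree (gen P) (↑K : Set P.S) w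
        swap
        · rw [if_neg (fun h => hf h.2), if_neg (fun h => hf (hR.1 h.2))]; simp
        rw [if_pos ⟨hlw, hf⟩, if_pos ⟨hlw, hR.2 hf⟩]
        have hfix : fixOrbit J (↑(symmDiff K {s}) : Set P.S) g w =
            fixOrbit J (↑K : Set P.S) g w := by
          by_cases hsub : linkSet J w ⊆ (↑K : Set P.S)
          · have hsub' : linkSet J w ⊆ (↑(symmDiff K {s}) : Set P.S) := fun k hk => by
              have hks : k ≠ s := fun e => hsn (e ▸ hk)
              simp [Set.mem_symmDiff, Finset.mem_coe.1 (hsub hk), hks]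
            have hlK : ∀ K' : Set P.S, linkSet J w ⊆ K' →
                ∀ j ∈ J, ∃ k ∈ K', gen P j * w = w * gen P k := fun K' hK' j hj => by
              obtain ⟨k, e⟩ := hlink j hj
              exact ⟨k, hK' ⟨j, hj, e⟩, e⟩
            rw [← fixOrbit_eq hg hlw hf (hlK _ hsub) hsub,
              ← fixOrbit_eq hg hlw (hR.2 hf) (hlK _ hsub') hsub']
          · have key : ∀ K' : Finset P.S, RFree (gen P) (↑K' : Set P.S) w →
                ¬ linkSet J w ⊆ (↑K' : Set P.S) → fixOrbit J (↑K' : Set P.S) g w = 0 := by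
              intro K' hf' hns
              rw [fixOrbit, Nat.card_eq_zero]
              left
              refine ⟨fun z => hns fun k hk => ?_⟩
              obtain ⟨j, hj, e⟩ := hk
              obtain ⟨k', hk', e'⟩ := linked_of_fixed hlw hf' hg hmin z.2.1 z.2.2 j hj
              rw [e', mul_right_inj] at e
              exact gen_injective e ▸ hk'
            rw [key K hf hsub, key _ (hR.2 hf) fun hsub' => hsub fun k hk => ?_]
            have hks : k ≠ s := fun e => hsn (e ▸ hk)
            have := hsub' hk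
            simpa [Set.mem_symmDiff, hks] using this
        rw [hfix]
        have hsign : ((-1 : ℂ) ^ (symmDiff K {s}).card) = -((-1 : ℂ) ^ K.card) := by
          by_cases hsK : s ∈ K
          · rw [show symmDiff K {s} = K.erase s by
              ext k; simp only [Finset.mem_symmDiff, Finset.mem_singleton, Finset.mem_erase]
              by_cases e : k = s <;> simp [e, hsK]]
            rw [← Finset.card_erase_add_one hsK, pow_succ]
            ring
          · rw [show symmDiff K {s} = insert s K by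
              ext k; simp only [Finset.mem_symmDiff, Finset.mem_singleton, Finset.mem_insert]
              by_cases e : k = s <;> simp [e, hsK]]
            rw [Finset.card_insert_of_notMem hsK, pow_succ]
            ring
        rw [hsign]; ring
      · intro K _ _ e
        have := congrArg (fun K' : Finset P.S => decide (s ∈ K')) e
        simp [Finset.mem_symmDiff] at this
      · intro K _; exact Finset.mem_univ _
      · intro K _; exact symmDiff_symmDiff_cancel_right _ _
  -- the surviving orbit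
  set K := linkSet J ws with hK
  have hrs : RFree (gen P) K ws := fun k hk => by
    obtain ⟨j, hj, e⟩ := hk
    rw [← e]; exact hls j hj
  have hlink₀ : ∀ j ∈ J, ∃ k ∈ K, gen P j * ws = ws * gen P k := fun j hj => by
    obtain ⟨k, e⟩ := linked_star ha₀ hd hw₀ j hj
    exact ⟨k, ⟨j, hj, e⟩, e⟩
  obtain ⟨n, hn⟩ := QuotientGroup.mk_surjective ws
  obtain ⟨m, hm⟩ := QuotientGroup.mk_surjective a₀
  have hncell : (n : G) ∈ cell P ws := hn ▸ mk_mem_cell n
  have hmcell : (m : G) ∈ cell P a₀ := hm ▸ mk_mem_cell m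
  -- trivial stabilisers
  have hstab : ∀ z ∈ orbitCell J K ws, ∀ x ∈ V, x • z = z → x = 1 := by
    rintro z ⟨p, hp, y, hy, rfl⟩ x hx hxz
    rw [show x • ((p * y : G) : G ⧸ par P K) = ((x * (p * y) : G) : G ⧸ par P K) from rfl,
      QuotientGroup.eq] at hxz
    set x' := p⁻¹ * x * p with hx'
    have hx'V : x' ∈ V := (Subgroup.mem_normalizer_iff''.1 (hVn hp) x).1 hx
    have hq : y⁻¹ * x' * y ∈ par P K := by
      have := inv_mem hxz
      rwa [show ((x * (p * y))⁻¹ * (p * y))⁻¹ = y⁻¹ * x' * y by rw [hx']; group] at this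
    obtain ⟨c, hc, hqc⟩ := cell_par hq
    have h1 := mul_cell_of_add (len_free_mul hrs hc) hy hqc
    rw [show y * (y⁻¹ * x' * y) = x' * y by group] at h1
    have hc1 : c = 1 := mul_eq_left.1 (cell_inj (left_cell hy (hVB hx'V)) h1).symm
    rw [hc1, mem_cell_one] at hqc
    have hn0 : (m : G) * y ∈ cell P w₀ := by
      have := mul_cell_of_add (len_lfree_mul hls ha₀) hmcell hy
      rwa [← mul_assoc, stdLongest_sq ha₀ hd, one_mul] at this
    have hx''V : (m : G) * x' * (m : G)⁻¹ ∈ V :=
      (Subgroup.mem_normalizer_iff.1 (hVn (cell_subset_par ha₀ hmcell)) x').1 hx'V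
    have h2 := hfree _ hn0 _ hx''V (by
      rwa [show ((m : G) * y)⁻¹ * ((m : G) * x' * (m : G)⁻¹) * ((m : G) * y) = y⁻¹ * x' * y by
        group])
    rw [conj_eq_one_iff, hx'] at h2
    rwa [show p⁻¹ * x * p = p⁻¹ * x * (p⁻¹)⁻¹ by group, conj_eq_one_iff] at h2
  -- the orbit is small
  have hY : Nat.card {z // z ∈ orbitCell J K ws} ≤ Nat.card ↥V := by
    refine le_trans ?_ (le_of_mul_le_mul_left (a := cellCard P a₀) ?_ ?_ :
      cellCard P ws ≤ Nat.card ↥V)
    · refine Nat.card_le_card_of_surjective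
        (fun z : {z : G ⧸ P.B // z ∈ cosets P ws} =>
          (⟨Subgroup.quotientMapOfLE (B_le_par K) z.1, by
            obtain ⟨y, hy, e⟩ := z.2
            exact ⟨1, one_mem _, y, hy, by rw [← e, one_mul]; rfl⟩⟩ :
              {z // z ∈ orbitCell J K ws})) ?_
      rintro ⟨z, p, hp, y, hy, rfl⟩
      obtain ⟨a, ha, hpa⟩ := cell_par hp
      have h1 := mul_cell_of_add (len_lfree_mul hls ha) hpa hy
      have hmem : ws⁻¹ * a * ws ∈ std (gen P) K := by
        clear h1 hpa
        induction ha using Subgroup.closure_induction with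
        | one => simp
        | mem x hx =>
          obtain ⟨j, hj, rfl⟩ := hx
          obtain ⟨k, hk, ek⟩ := hlink₀ j hj
          rw [mul_assoc, ek, inv_mul_cancel_left]
          exact gen_mem_std hk
        | mul x x' _ _ hx hx' =>
          rw [show ws⁻¹ * (x * x') * ws = (ws⁻¹ * x * ws) * (ws⁻¹ * x' * ws) by group]
          exact mul_mem hx hx'
        | inv x _ hx =>
          rw [show ws⁻¹ * x⁻¹ * ws = (ws⁻¹ * x * ws)⁻¹ by group]
          exact inv_mem hx
      obtain ⟨d, hd'⟩ := QuotientGroup.mk_surjective (ws⁻¹ * a * ws)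
      have h2 := mul_cell_of_add (len_free_mul hrs hmem) hncell (hd' ▸ mk_mem_cell d)
      rw [show ws * (ws⁻¹ * a * ws) = a * ws by group] at h2
      obtain ⟨b, hb, b', hb', e⟩ := mem_cell_same h2 h1
      refine ⟨⟨((b * n : G) : G ⧸ P.B), b * n, left_cell hncell hb, rfl⟩, Subtype.ext ?_⟩
      show ((b * n : G) : G ⧸ par P K) = _
      rw [QuotientGroup.eq, e, show (b * (n : G))⁻¹ * (b * ((n : G) * (d : G)) * b') = (d : G) * b' by group]
      exact mul_mem (cell_subset_par hmem (hd' ▸ mk_mem_cell d)) (B_le_par K hb')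
    · rw [hcard]
      refine (cellCard_mul_le ha₀ hls).trans (le_of_eq ?_)
      rw [← mul_assoc, stdLongest_sq ha₀ hd, one_mul]
    · rw [cellCard]
      have : Nonempty {z : G ⧸ P.B // z ∈ cosets P a₀} :=
        ⟨⟨((m : G) : G ⧸ P.B), mk_mem_cosets.2 hmcell⟩⟩
      exact Nat.card_pos
  -- the radical is transitive
  set z₀ : G ⧸ par P K := ((n : G) : G ⧸ par P K) with hz₀
  have hz₀Y : z₀ ∈ orbitCell J K ws := ⟨1, one_mem _, n, hncell, by rw [one_mul]⟩
  have hVJ : V ≤ par P J := hVB.trans (B_le_par J)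
  have htrans : ∀ z ∈ orbitCell J K ws, ∃ v ∈ V, v • z₀ = z := by
    let φ : ↥V → {z // z ∈ orbitCell J K ws} := fun v =>
      ⟨(v : G) • z₀, smul_orbitCell (hVJ v.2) hz₀Y⟩
    have hφ : Function.Injective φ := fun v v' e => by
      have e' := congrArg Subtype.val e
      simp only [φ] at e'
      have h1 : ((v'⁻¹ * v : ↥V) : G) • z₀ = z₀ := by
        simp only [Subgroup.coe_mul, Subgroup.coe_inv, mul_smul, e', inv_smul_smul]
      have h2 := hstab _ hz₀Y _ (v'⁻¹ * v).2 h1
      exact (inv_mul_eq_one.1 (Subtype.ext h2 : v'⁻¹ * v = 1)).symm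
    have hbij : Function.Bijective φ :=
      (Nat.bijective_iff_injective_and_card φ).2 ⟨hφ, le_antisymm
        (Nat.card_le_card_of_injective φ hφ) hY⟩
    intro z hz
    obtain ⟨v, hv⟩ := hbij.2 ⟨z, hz⟩
    exact ⟨v, v.2, congrArg Subtype.val hv⟩
  -- a fixed point, and all of them
  have hAV : Subgroup.zpowers g ≤ Subgroup.normalizer (V : Set G) :=
    Subgroup.zpowers_le.2 (hVn hg)
  obtain ⟨k, hk, hkfix⟩ := CfsgLib.Coprime.exists_fixed_of_coprime hAV
    (by rwa [Nat.card_zpowers]) (Or.inl inferInstance) z₀ (fun a ha => by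
      obtain ⟨v, hv, e⟩ := htrans (a • z₀)
        (smul_orbitCell (Subgroup.zpowers_le.2 hg ha) hz₀Y)
      exact ⟨v, hv, e.symm⟩)
  set z₁ := k • z₀ with hz₁
  have hz₁Y : z₁ ∈ orbitCell J K ws := smul_orbitCell (hVJ hk) hz₀Y
  have hz₁f : g • z₁ = z₁ := hkfix g (Subgroup.mem_zpowers g)
  have hcount : fixOrbit J K g ws = Nat.card {v : ↥V // g * v = v * g} := by
    symm
    refine Nat.card_eq_of_bijective (fun v => ⟨((v.1 : ↥V) : G) • z₁,
      smul_orbitCell (hVJ v.1.2) hz₁Y, ?_⟩) ⟨?_, ?_⟩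
    · rw [← mul_smul, v.2, mul_smul, hz₁f]
    · intro v v' e
      have e' := congrArg Subtype.val e
      simp only at e'
      have h2 := hstab _ hz₁Y _ (mul_mem (inv_mem v'.1.2) v.1.2)
        (by rw [mul_smul, e', inv_smul_smul])
      exact Subtype.ext (Subtype.ext (inv_mul_eq_one.1 h2).symm)
    · rintro ⟨z, hz, hzf⟩
      obtain ⟨v, hv, e⟩ := htrans z hz
      have hw : v * k⁻¹ ∈ V := mul_mem hv (inv_mem hk)
      have ez : (v * k⁻¹) • z₁ = z := by rw [hz₁, mul_smul, inv_smul_smul, e]
      refine ⟨⟨⟨_, hw⟩, ?_⟩, Subtype.ext ez⟩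
      set u := v * k⁻¹
      have hgu : g * u * g⁻¹ ∈ V := (Subgroup.mem_normalizer_iff.1 (hVn hg) u).1 hw
      have h1 : (g * u * g⁻¹) • z₁ = u • z₁ := by
        rw [ez, mul_smul, mul_smul, show g⁻¹ • z₁ = z₁ by rw [inv_smul_eq_iff, hz₁f], ez, hzf]
      have h2 := hstab _ hz₁Y _ (mul_mem (inv_mem hw) hgu)
        (by rw [mul_smul, h1, inv_smul_smul])
      rw [inv_mul_eq_one, eq_mul_inv_iff_mul_eq] at h2
      exact h2.symm
  rw [hsum, hcount]
  rcases neg_one_pow_eq_or ℂ K₀.card with e | e <;> rw [e] <;> simp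

end CfsgLib.BN
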